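import Mathlib
import Cfsg.Agent.BZ.L.TA.K_m3
import Cfsg.Agent.Lib.DetFast
import Cfsg.Agent.BZ.L.TA.Cl
import Cfsg.Agent.OddHalf.D9.EEight.Id.Main
import Cfsg.Agent.OddHalf.D9.EEight.Id.HomChk
import Cfsg.Agent.KFacts.OddLift.Basic
import Cfsg.Agent.SporadicRecognition.CosetCertHyp
import Cfsg.Agent.Lib.FinFast
import Cfsg.Agent.BZ.Lab.Defs
import Mathlib.GroupTheory.FiniteAbelian.Duality
import Mathlib.NumberTheory.Basic
import Cfsg.Agent.H649.Transport
import Cfsg.Agent.H608.BrauerFeit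
import Cfsg.Agent.H710.Gow.Star
import Cfsg.Agent.H592.Defect
import Cfsg.Agent.Lib.Cores
import Cfsg.Agent.Blocks.Fong
import Cfsg.Agent.Blocks.BrauerMap
import Cfsg.Agent.Blocks.CliffordCentral
import Cfsg.Agent.Characters.Clifford
import Cfsg.Agent.S0912
import Cfsg.Agent.S0917
import Cfsg.Agent.S0919
import Cfsg.Agent.S0920
import Cfsg.Agent.H588.RIM.Val_m3
import Cfsg.Agent.S0927
import Cfsg.Agent.S0968
import Cfsg.Agent.S0973
import Cfsg.Agent.Blocks.ExistsModular
import Cfsg.Agent.BZ.L.Defs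
import Cfsg.Agent.HZ.L.SL.Defs_m3
import Cfsg.Agent.BZ.Lab.Cur_m3
import Cfsg.Agent.BZ.Lab.Uf
import Cfsg.Agent.H686.PairCrit
import Cfsg.Agent.S4661
import Cfsg.Agent.HZ.L.E7.Defs_m3
import Cfsg.Agent.H644.Trace
import Cfsg.Agent.H639.Cen
import Cfsg.Agent.S0969
import Cfsg.Agent.S4437
import Cfsg.Agent.FastGrp
import Cfsg.Agent.Prune
set_option linter.all false

section
prune_inst 0x7f9db9f8bba885dfffff7e37aed0ddfc00800fffa4def943ffe16b9f0b9f032109c56b850de010fe8e46c09410287803f97eceffe86bdc7ffffd55b01ffbee4fe5ff3500119084240e240ff793f0770a6f3ffdfff7ffffffffffffffffffffffffffebfeffff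

-- part: BZ/X/O82Data
section
set_option linter.all false

/-- decoders of the packed data (elaboration time only) -/
private noncomputable def pk61d (b S i : Nat) : Nat := Nat.mod (Nat.shiftRight S (Nat.mul b i)) (Nat.shiftLeft (nat_lit 1) b)
private noncomputable def pk61c {α : Type} (t : Nat) (a : α) (f : Nat → α) : α := Nat.rec a (fun k _ => f k) t
private noncomputable def pk61f {α : Type} (t : Nat) (f : Nat → α) : α := Nat.rec (f Nat.zero) (fun k _ => f (Nat.succ k)) t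
private noncomputable def pk61l {α : Type} (f : Nat → α) (s e : Nat) (tl : List α) : List α :=
  pk61f e fun e => Nat.rec tl (fun k ih => List.cons (pk61f (Nat.sub e (Nat.succ k)) f) ih) (Nat.sub e s)
private noncomputable def pk61o {α : Type} (O : (n : Nat) → OfNat α n → α) (I : (n : Nat) → OfNat α n) (t : Nat) : α :=
  pk61c t (O (nat_lit 0) (I (nat_lit 0))) fun k => O (Nat.succ k) (I (Nat.succ k))

/-!
# BZ-X-o82 : the twisted action of `W(E₈)'` on 135 points and two families of 64 words (data, helper76)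
-/

set_option autoImplicit false
set_option maxRecDepth 100000

namespace Cfsg.Agent.BZ.X.O82

/-- the permutations of the 135 points, letters `0, ..., 13`, base 256 -/
def PT : ℕ → ℕ
  | 0 => 0x3d70596a50235672033b0d44497e60375c680931174e13266d004c7c191d075e5374462d81452e0c3a7333084b1e143f1f185b32635f38061c7d290e553c774f241630696f58860f11407a4d670a82482b0b3976665d7b1a785221152f6c3e014227646235051b80844371042a834a7f61364185102802575a6b512234655475472c207912256e
  | 1 => 0x40131e1938621f17794d6b303c032e483307655d7f1c8542006e290d8343753a3209245223167851673176540e84410f804a08662d0c8247713b6c5a187a370664617b1d26143d572886497d5e34507715220a5c5373442a606305361a4c11256f0146810b2c045659694e202f6a5572452b5870023e123f4b7c5f3539745b684f211b7e10276d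
  | 2 => 0x1f78503e122f40310f6b4d1658220a28820729617b1c394c4663650c3743753b7e042c054130136751170277865c237915706a3f640d3347713a1b56608183062d5d7f1d741a360b480e2a5f7c551e5480032e8435447349186e523d14425b252001007a5724095a10694e6f62083445724b3c4a761938662b5e7d53852611684f6d6c32592721
  | 3 => 0x5a0a334876493644660c3a722357855b12684230164e551b2d05047d541d075f0f6c526d1a734a3b0d4559281f027a224b39370b2c5e84061c7c6f15132f3e4f6e17316929628053832b14674d70106a40321850037f61813446640e3c74770109272158790026863843714c41112e5d7b562a6082081e7e3d516b3f78201975476365355c2524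
  | 4 => 0x804c3323103b07163520132748576a4a594b677f4482263c2405283914033608697c476d6b7b5b498345120415381822687d6f434658846e5c6c371f3a1134210617250f81705a7e0d2b544277627685563f7a501d3001293e2c000e1b194d6141724f5e79645575020b1e0a092f515d734078654e5f71533d2e1a322a0c7486526360661c312d
  | 5 => 0x737505e714286733f5565613422143a381f0816251041544f634d6278665674031321053927041123174e604076517936203c0f0618332412288575775f7a64525d72533b2615352e0e6f814a6b594c687e48840b0131190d002d3d0a2f6c7b70446e8357477d4b1c32022a0c2958457f5a6a7c5c4982432b3e091d1b1a6780466d5b691e302c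
  | 6 => 0x75d596c385f8641280f430d2611452e71563b04580273546d001a1d4c7b1f794a7d2152517716227e1b4e7a4b1e39743d013c552d0b8246123f2a0e2742606405376b30083468093a756f570372507815237f1c18207c19616306366a2f5e665b322c0c814713408444108583292514482b0a315c6733655a693562174d4980244f703e76536e
  | 7 => 0x801b1e1a502207345e6530695b673761023d57703976043c006e83442a0d4011270f472d0b2e4881288512260e84723b75536f01636238055c096a5a660816214f781d7c497f1f4d035654743e5882452b0c411025134329775224154c197e4a7a1806355f643168596b335d6c2f320a603617204e791c7d4b7b2351143f42862c46733a71556d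
  | 8 => 0x2b310a35132f40845e6a485c626744666068428259435d6c644609370b2707110d26052d2a12300828382e0f0e34415f86453f6b635b85476983655a618132062c1033252914360c031523193e177053804d72787c5076497b526d567a747e4e4c71211a3b001b3d39011d043c22161e021f58734a7955514b77547d7f6f57754f6e203a181c24
  | 9 => 0x56507f4d7349360a280b322e2a11330d3007291334253809052c6f537d4e7579774c6e527a4a76577e707b514b7214082b100c372d0f31062735260e122f7c4f6d557871745880543a1f1a22031e5d6b40835944488560815c63468662425e696543003c19240415171c0120233b0239183d41826167455b5a663f6a846c5f6847641b3e161d21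
  | 10 => 0x446e0e542449185a357c012e14571e4e732a4200805b520910846f2548037a5f6920553d5812823b4d637b372c400722783128431f6b054c3e0c0446612f1c650a50390f2975167e775d23670d862d71023f36171d6413815c157f334174833a1b51601a79304770560b6a063c11722b593868214a0885536d275e324b6c196226454f66347d76
  | 11 => 0x39106d28602f722c3f017d5c6822563e0041297618371f6c850e09511c66143b0347315d074a24670c3d2e717f1662791e64830f70254504775e4f0a12816a204b058653742a59354e631a5f2744155b347e022b0b5521497b385a177542540d066b823c571365527832482623088033402d7a3061196e43843a4d1d466f11581b504c69367c73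
  | 12 => 0x61703d234b677b763f5b370251573914150129385c75130952636f7762432519534c24053a1e0a118350362a73400d2244601a32213e0e0668542631785f584f6484121d747c16357a450c086a4a5a41727e182b6682103b342c00177d423c1c654e465e796e0430866907204d812e33597f6b8556491f0b5d482803556c2f27476d1b0f80712d
  | 13 => 0x1e13455e31190215352a41803e224a6b7f71425a3601856c210509143a1d4e813226466d6a865549230e727d38164879120a4d666e7a5d47251a658239110d06243d56692937597e5184282f6278737c5c3f2e17534b1f0818002d335b740c074c68648357521b10614327045467342b40767770445f300350583c0f606f3b1c4f63200b7b752c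
  | _ => 0

/-- the graph, bit `135 a + b` -/
def AD : ℕ := 0x164597645975d97644e9ba689bae9baea02348de348de78de34adcb721cb6dcb6d804a2d72a2d73b572a2eb5d28d5d6b5d6a40a895d6895d7a5d689e576a2976e576e45e801ff801ff81ff80007fe007fe07fe07c20f3c30f3c3f3c30f3cf0c3cf0fcf0fc0c82a348d5cb75b48d5b6d5cb72a36d5c95a0989a26765e79a2675e6765d985e67a26a2492a4b6d5b72a4b75cb6d5b495cb6a3588a19865e675d9865e765e679a2765d85c260e258f1db6e258f3d8f1da70bd8f4364701388eec75d388eeb8eec7711b8ee45c2a84a4d6b5b72a4d6bd56b5b295d56a2f09a0a855e57ad6855e765e57aa1b65e49d600681ff87e0781ff81ff87e0079ff860730320cfccf3330cfcccfccf3033cfcc3335b482a348d5c8d5cb6a4b6d5cb75b495b679a0989a267a26765d865e6765e79a275b72a2492a4b6a4b6d5c8d5cb6d5b72a3755d988a19865d865e67a26765e675d985e77622616238ec58e9dc89dd8e9dd7623739e38702384ed48edc7a1c78edc79e385eb74a5282a556c356d5a8b5ad6d5af4a575cda86a06865e8a5e97925795e979da86db5986618867e619e67986799e679998679e4f03c0e03ff0c3f0fc30fc3f0fc0f03cf3c8d5b482a3495cb6d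5b72a4b6d5c8d5b75a2679a0989a2765e675d9865e67a2675e6a4b72a2492a36d5cb75b48d5cb6a4b75b5865d988a1985e6765e79a26765d865e75c38f62460e2569db8f3c709db8f438f3d644ee38b01389dc74eebb11c74ee44eeb9c2d6aa4a84a4f35b56bd2955b56a2d6bd7095e685a0a85d57a5e76a197a5e495e76d61f801e0681e7fe1f81e07fe1f861f81e733cc0cc320cf3f33cccc33f33cc33cccf35cb6d5b482a48d5b495cb6d5b495cb6a36765e679a098a2679a2765e679a2765d85b6d5cb72a248a4b72a36d5cb72a36d5c955e6765d988a1865d985e6765d985e67a2771dd8ee2261458ee2371dd8ee2371dc8b9ec78ed3870248ed385ec78ed385ec7a1b755ad6ca5282356ca5755ad6ca5755a8bcd9795ea86a04a5ea86d9795ea86d9792759f99e60661899e60679f99e60679f98664ffc3f003c0ec3f003cffc3f003cffc303db96e4396e420e4396db96e4396db96db074dd344dd3441344dd74dd344dd74dd751ad74a3574a302a3575ad74a3575ad75a9395da8a5da8a068a5db95da8a5db95db9179e1879e18780879e1f9e1879e1f9e1f8103ff003ff003e003ff03ff003ff03ff03f5b48d5cb6d5c82a3495b48d5cb6a4b75b679a26765e67a0989a279a26765d865e75b72a4b6d5cb6a2492a372a4b6d5c8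d5b755d9865e6765d88a1985d9865e67a2675e776238e9dd8ec46162376238e9dc89dd739e384edc78ed4b02385e384edc7a1c79eb74a556d5ad6c3282a574a556d5a8b5af5cda865e9795e8aa0686da865e9792579db59867e6799e618188679867e679867999e4f03ff0fc3f0c00e03cf03ff0fc30fc0f3c8d5cb6d5b495b482a48d5cb6d5b72a375a26765e679a279a098a26765e675d985e6a4b6d5cb72a372a248a4b6d5cb75b495b5865e6765d985d988a1865e6765e79a275c38f1db8f6256e2460c38f1db8f3c70bd644eec74ee389d38b0144eec74eebb11b9c2d6b5b56aa4f2a4a842d6b5b56bd295d7095e57a5e685d685a0895e57a5e76a1b6d61f87e1f801e781e06e1f87e1f81e079e733ccf33cc0cf30cc3233ccf33cccc33cf2e9ba689bb975d97644164597644e9baea2dcb721cb4de78de3482348de34adcb6d86b5d28d5d573b572a284a2d72a2eb5d6a4e576a29765d7a5d6890a895d689e576e4407fe007ffff81ff801e801ff80007fe07fcf0c3cf0fc3f3c30f020f3c30f3cf0fc0b6d5cb72a4b75b48d5c82a348d5b6d5c955e6765d9865e79a267a0989a2675e67a275cb6d5b48d5b72a4b6a2492a4b75cb6a36765e679a2675d9865d88a19865e765d85bd8f1da709db6e258f4260e258f3d8f436b8eec77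11c75d388ee4701388eeb8ee45dd56b5b2955b72a4d6a2a84a4d6bd56a2f365e57aa197ad6855e49a0a855e765e49d1ff87e007fe0781ff8600681ff81ff8607cfccf3033f3330cfcc30320cfcccfcc332a4b6d5cb6d5c8d5cb75b482a3495b495b5865e6765e67a26765e79a0989a279a275c8d5cb6d5cb6a4b6d5b72a2492a372a375a26765e6765d865e675d988a1985d985e689dd8e9dd8ec58e9dd762261623762373a1c78edc78ed48edc79e38702385e385eb0b5ad6d5ad6c356d5af4a5282a574a575c25795e9795e8a5e979da86a0686da86db46799e6799e619e679998661886798679e70fc3f0fc3f0c3f0fc0f03c0e03cf03cf3b72a4b6d5b495cb6d5c8d5b482a48d5b755d9865e679a2765e67a2679a098a2675e75b48d5cb72a36d5cb6a4b72a248a4b75b679a26765d985e6765d865d988a1865e75bc709db8f62569db8f438f62460c38f3d6bb11c74ee389dc74ee44ee38b0144eeb9dd2955b56aa4f35b56a2d6aa4a842d6bd736a197a5e685d57a5e495e685a0895e76d1e07fe1f801e7fe1f861f801e06e1f81e7cc33f33cc0cf3f33cc33cc0cc3233cccf2e9bb97645975c689bae9bb976441644ea2dcb4de348de7b21cb6dcb4de348234ad86b5d572a2d73b28d5d6b5d572a284a2ea4e5765d6895d7aa2976e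5765d6890a89e4407ffff801ff80007fe07ffff801e80007fcf0fc30f3c3f03cf0fcf0fc30f020f3c0b6d5b48d5cb75cb72a36d5b48d5c82a4955e679a26765e765d985e679a267a098a275cb72a4b6d5b6d5b495cb72a4b6a248a36765d9865e675e679a2765d9865d88a185bd8f6258f1db69da70bd8f6258f4260c36b8ee388eec75dc7711b8ee388ee470145dd56aa4d6b5b735b295d56aa4d6a2a842f365e6855e57ad57aa1b65e6855e49a089d1ff801ff87e07fe0079ff801ff86006e07cfcc0cfccf333f3033cfcc0cfcc3032332ee45971ba68dd971baee45971baee44122d348decb72178decb6d348decb6d348286aa2d735d28db5735d6aa2d735d6aa2844e6895d576a2ba5d576e6895d576e6890840001ffffe0001ffffe0001ffffe0001effc0f3c3f0c3cf3c3f0fc0f3c3f0fc0f020a5969bd969bd09bd96a5969bd96a596a4088ddcb8ddcb91cb8dd88ddcb8dd88dd88055755cd755c935cd7455755cd74557450065d9755d97515755d865d9755d865d86007e1f87e1f861f87e187e1f87e187e1860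

/-- words that move the point `0` to a point -/
noncomputable def WU : List (List ℕ) :=
  (by
  refine (?fq9001 : (fun (On : (n : Nat) → OfNat Nat n → Nat) (In : (n : Nat) → OfNat Nat n) => ((pk61l (fun i1 => ((fun g1 : Nat → Nat => pk61l (fun i2 => (pk61o On In (pk61d (nat_lit 4) 
    (nat_lit 0x5b20b1a3a723b37a04a7c5a25a7308a42a62a037a725a0460b2b26aa6c25a0b5a0a6b705a301b620b5905a72a070ac725a042b2725a08125a63b23a3a4092a062b1a03a45ba43a7c25a074a308a0b5208a70c3a4909b05a052a6205a02b2b237a073a7250209a2a12a737a05a64a408a723a0412a02a4308a402a63b724b0b54a02a6295a7a12a69b02a02a403a0451b202a405a03a43b2537aa69337a7305a048225b0ac0a30a780a70b75a6205a04a785a1b54a02a72ba33a0400a25a71b2a0608a4305a7802a25a13a400a7c3709b625a7da72a4) i2))) (g1 i1) (g1 (Nat.succ i1)) List.nil) fun j => (pk61d (nat_lit 9) 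
    (nat_lit 0xd5ea34da4d067b3396ca63f1788c2e06f778badd2e36db65a6cf65b0d82bf5cac552a14ca3d0e813e9e4e26d3497caa512691c863f1b8b44e210c8441a04ff7ebe9ecf3783b5d0e571b85bcdb6c351a2ce64b1584bd5c2d162af562a548a14fa6d32974923d1c8d45219047e3d9e0ea74379a4d0653117cb6582a944984923110843e1e0e86a33178b452240f870301408038180a0280c0000) j))) (nat_lit 0) (nat_lit 135) List.nil) : List (List ℕ)))
    = ?xq9001 → (List (List ℕ))) ?hq9001; (case hq9001 => (set_option maxRecDepth 1000000 in conv => lhs; reduce)); intro _; exact ?xq9001 (@OfNat.ofNat Nat) instOfNatNat : List (List ℕ))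

/-- words that fix `0` and move `5` or `1` to a point -/
noncomputable def WV : List (List ℕ) :=
  (by
  refine (?fq9002 : (fun (On : (n : Nat) → OfNat Nat n → Nat) (In : (n : Nat) → OfNat Nat n) => ((pk61l (fun i1 => ((fun g1 : Nat → Nat => pk61l (fun i2 => (pk61o On In (pk61d (nat_lit 4) 
    (nat_lit 0x15d6409d140c7418a0439a6a0629aa419bca14ac66a63ac64a639ac1356035074d03940a140ad4a06bd4a1468a0a0436ad6a0462ad4a0468b5214579173d6285dd724d6a346b1a40b7a05ba15b6025d7165081602474140c5c0a06b4a36bd64a15bd606a05b162872d650816394a04748ac41a0468ac069c02650150d08587a37b11a07b03941a072ac4a0409b519428027411636c4d1a05b6a06b7a0d7b216284a0d72b02963946304095a17bd87a72bd894c91d876296630d714a05bca14a0ca148c6a7a73ad4a17bd69a73c6a0492c70950418da072b7a07b04a046b0d2c714c64a040b6d40654940628c2578a436ba41b607a0562b06a37b1035526d79c0284357a4195aa4394a6284621c907124041a07bd74a0468bd09a04a4a636ac4a146ac06a04ad5c63dd726d80a62b60a346b272c02462740c03d6d8406d1940438) i2)))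 (g1 i1) (g1 (Nat.succ i1)) List.nil) fun j => (pk61d (nat_lit 10) 
    (nat_lit 0xa067d9e6759c66b9925e9625192a4690e3f8ea348ba2687e1783e0c82605801fd7edf57c1eb799e1771da755d173dca70dbc6d9b26b9ab69d9e65591631886117e5e1765b96658d61571575555052d44509404e5354cd2f4ad254791a4591243506400f93cced394e237cdb35cd2330c4304bd2d4b12b4a9294a026c9924c8c224852087e1ec751bc6b19864180581404a10c3c0d4330c02d0a8240781a054110380b02c070100000000) j))) (nat_lit 0) (nat_lit 135) List.nil) : List (List ℕ)))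
    = ?xq9002 → (List (List ℕ))) ?hq9002; (case hq9002 => (set_option maxRecDepth 1000000 in conv => lhs; reduce)); intro _; exact ?xq9002 (@OfNat.ofNat Nat) instOfNatNat : List (List ℕ))

/-- a family that fixes `0` and `5` -/
noncomputable def WA : List (List ℕ) :=
  (by
  refine (?fq9003 : (fun (On : (n : Nat) → OfNat Nat n → Nat) (In : (n : Nat) → OfNat Nat n) => ((pk61l (fun i1 => ((fun g1 : Nat → Nat => pk61l (fun i2 => (pk61o On In (pk61d (nat_lit 4) 
    (nat_lit 0x14685b214638a4095a6c62a146ad6315956b241685a0468ac740b246ad630262841a141685c62a1468a141ac6b02a062a7c62a17bd04684a04c63a05268b72c6621840a062a7c62a1468ac714062a04c630a0463a0d6512841a04c630a04638a04c3468a040685a73d784a05295b26c19b241628c62a1468b241a7c62a1465956a04638c740a0468a0529ac6b1a141685ac62b5195a062a7c62a1469a04638a3468c63a0526bd1526851b2416b241685a015195a04638a34068ac740b2468ac74685b214c630a04638a4c6052841a04638c62a1468b241ac740a062a141685a1468a14c62a1468a04c052841a141ac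62a1468b52c1595a04638a3468c630a0463a0d6152162a141a7c62a146a0d60262841a04c630a04638a0c7214162184a0526b50950b618521a04638a4095a63c62a146ad6362841a04c630a04638ac71241841a141a7c62a1468a04c373a0406852a73d7840a0463ad632468b214c63a052685ac6314162184a052685a0468ac740b27bd0468a040685ac62b5195a062ac740ab214c63a0526bd15268512a04638a4095a63c62a17bd1516584a04638c740a0468a052ac6b12162841a141a7c62a1468a0c721962a141685a0468ac7340a046ad6314062a141685c62a1468a141a7c62a04685a04638a4095a6c62a1468a04c12140a04638a4095a63c62a1468ac7214684a04c630a04638c7a041468b214c63a052685a0c615658a04638c740a0468a052a7c62a024685b214c630a04638a40c62304062a141a7c62a146ad6324162184a0526b241685a9b21463a05268b124684a04638c740a0468a052c6b275658a040685a73d7840a04638ac702468a141685a1468ac741a1468ac712621a04638a4095a6c62b5195a36c1241841a04638c62a1468b241c6b27024685a141685ac62b5195a062ac6b1218a04c63a05268bc12468b241685a0468ac62b5195b26c40852a04c63a05295b26c1468a141685ac62b5195a062a7c62a152162a04638c62a1468b241a7c62a0240a046384a0468ac7340a0468ac712162841a04638c62a1468b241ac6b121a0463a0526b3406284a0526b25951b6224062a04c630a0463ad6308b2416b24941b12468a040685a73d7840a04638a04c)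 i2))) (g1 i1) (g1 (Nat.succ i1)) List.nil) fun j => (pk61d (nat_lit 11) 
    (nat_lit 0x654c6d862fd5eaba96f6d4591aeb55e9dd1da0f3ca6a4be94120a35c4f87107e053ec7aeef9d138c6dcd41a132460cbad66aaf5229cd2da4544e834fb1e13a66d4cc97b2ba4fc9090f1e23705f0a01041902b04105807800000) j))) (nat_lit 0) (nat_lit 64) List.nil) : List (List ℕ)))
    = ?xq9003 → (List (List ℕ))) ?hq9003; (case hq9003 => (set_option maxRecDepth 1000000 in conv => lhs; reduce)); intro _; exact ?xq9003 (@OfNat.ofNat Nat) instOfNatNat : List (List ℕ))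

/-- a family that fixes `0` and `1` -/
noncomputable def WB : List (List ℕ) :=
  (by
  refine (?fq9004 : (fun (On : (n : Nat) → OfNat Nat n → Nat) (In : (n : Nat) → OfNat Nat n) => ((pk61l (fun i1 => ((fun g1 : Nat → Nat => pk61l (fun i2 => (pk61o On In (pk61d (nat_lit 4) 
    (nat_lit 0x27a14184a0463c62a1468a1c63074a052684a046d840b24168b52c41621a7c630a73d7152a141685b241685a046d840a73d7468a1416b241c62a1468a04c6a30748a052685a046a3d840a7348a04c124684a1416b2468c62a1468a04c08b2416b24941b24684a0463a0c62a1468b24c6a0240a0463a0526bc62a17bd02841a141685a04638a40c62a146d6340b241628a040a6296b262184a346d840a73d734963a04638a49c62a1468a04c6a35162a0406852a049c63a05295b26c04062841a73d7840a072d704963a0526bc62a1468a04c6a38b214638a040685a04c62a073d7b214c63a0526bd196214a04638a049c62b51b62d6b159b241628a439c62a146b2d6b15162184a0529a7363840a0463a04c62a146a0d62a781b124162ac62a146b2d6b15738a0406b24c62a1468a04c63a047468b124168a04c630a0468a40bc6214062841a0468a047159b21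46308a046c62a1468ac734a1262a1c62a1468b241ac62a169b562a409562a04c630a0468a04c6a0141a14168b2416d852a146a0d62a781568b124168b2416c62a1468a14c6a34062a04638a049c63a05268bc0562a046384a0463ad840a7348a04c43962a04638a73c62a1468a04c6b12162a14c62a073d71512628a4095a062c62a1468a14c6a304684a0463a0c62a1468b50bc6062841a14168b241a6c62a17bd0241621a046a3704084a052ac62a1468b52c1240684a052685a04638a4095a9621a04638a04068b52b0a0463a78c62b5195a062a7c62a1461496a04638a046c62a1468a04c6b595a0463a052c62a1468a43c6a12406284a04638a0406a78c62a17bd1218a04c63a05268bc1595162a0463a0c62a1468a04c6a01748a05268b2416ac62a1468b2c62a141685a7d840b246a0d62a78124084a052a7c62a1468a04c052684a0463ac62b5195a06bc6124196b2416ad840b2468b241c6b271516a048c7340a04638a4095ac94051956a0463a73d840a7348a04c19b2416bc62a146a0d62a78526a1416b2c62a15b62d6b15787a1416b24168c62a4195a16c962a1416b24168bc62a17bd124963a0526b5c62a1468a04c63a372140840a04c630a04638a04c340840a04c63a05295b26c) i2))) (g1 i1) (g1 (Nat.succ i1))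 List.nil) fun j => (pk61d (nat_lit 11) 
    (nat_lit 0x63ac4180ef9dd5b75672c0572ab150691d0f9f937e614ac9251de34c4b86309203bf07a6eddd2b886dad41993145f4b71602af5229d92e24e470879051ec3a06d8cc1862d25349991b20238c630ac12a1f4318630980b80b000) j))) (nat_lit 0) (nat_lit 64) List.nil) : List (List ℕ)))
    = ?xq9004 → (List (List ℕ))) ?hq9004; (case hq9004 => (set_option maxRecDepth 1000000 in conv => lhs; reduce)); intro _; exact ?xq9004 (@OfNat.ofNat Nat) instOfNatNat : List (List ℕ))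

/-- the entries of the matrices, plus 6, base 16 -/
def FA : ℕ := 0x77656656656557666665567766557657667566655657766666656655667757675566567556666666575776656577656666577657767665667566757766667656665675677676667575766566576667665566577665666757575657667566667666775656575776665655576666665575776566655766666676777555676666667766767576666666777776676555676666777657765665665566577766665656665657675676665755566566776665665566557665666775775675665566667655756667655556666566676567777657775656766776676667756666676676765566765576666666777556656577676666557655567665665566575566667656886466466464686666664688666686486684666646488666666666446668486655675684565656754847866464776576564876577586557584757478667685576646646886866666848664664866686664664866666666484846686684666686557757554747857557545757666644747874667457667766868874545866676688768575876767667778777775447867657785488655646655664787756556466646486846866648444664666666646646664686646668846646866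64666668655756767545446667576676468887557884756865877585768746657586775764476855585656566777457557588586565558544467764665566474575677646886476367353695566663699666695497693767645398577665676436669387655685693566666863937966363776566463976577696656493847379668694565735636986865666939763663975687663664965566656483947697693566787547848453837957448535848666734748873557457668867958874445975576699869475966866667779768785338966667796399654636655663797646656366646387837956739444654556666536736773696635769936636966546657696547468675453377684757864688974588837559659884847598476485957758633669655946664667773586565996964645594333676636655663735866876368864662682426a66666626aa6666a44a66a28666462a868866466642666a2886646866a2466666862a28a66262866666462a666686a66464a284826a6686a4464824626a86866666a2a662662a66688662664a66466646482a466a86a26668865379393539379573395359397577337399735573575599579599733359755777aa86a484a6686666866a668686228a666686a62aa66462666466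28a8646646266646286826a6662a4446646666664268266826a662486aa26626a664466486a6448468684442288684848864688a8448882844a64a8848484a8486484a4884862266a666a46664666882486464aa6a646464a4222686626646662626866866269973672592326a66557625aa6666b33b66a19666361b969966366631766b1996636966a2356667962b19b76161966665352b676696b66363b293926a5695a3363913616b96966666b1b661662a66599762653a66365536392a366a97b2677996527a2a253a3795722a535a2a66673272aa7355725766aa6795aa722259755766ba96b393a6597667966a669696219b566696b61ba5635256636629b9636636275735296916b6662a3336636666663179266916a672397ab16616a653366395b6448468684440088684848864688c8448880844c64c8848484c8486484c4884862167a666b36663566991396363ba6a635363a322169661673675162696596716887467358343696655763599776694496593876646398688554665437769388664686684466666864a28a66262866666464a666686a66464a48484686686844648346379858767669396535739665887635549664655464839466987936778865469383549468574386469486667436399745573666688678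599633358755766a886a484866866668668668686428a666686a62a86646466646648a8646646465745386836967639444764666657437836683695734879936635965446548597458568685542277685757765677a8447772745a65a7847475a7576485a57857642668666a46664666882486464a86864646484442686626646662646866866268864664684446866666646886666844866848666464886886646664466684886646866844666668648488664648666664648666686866464848484686686844648446468868666668486646648666886646648664666464848466886846668866468484648468664486468486666446488646664666688668688644468666666888684848668666686686686864488666686864886646466646648886466464666464868468666484446646666664468466846866448688466468664466486865575775755533777757577555779755777375597597757575975755759577577446686668466646668844864648868646464844446866466466646468668664677756745745468665576458866667557668576665657767766566655766757766557657556676676584786547476766656586666768765658575756767767556575565677676666675766566486657776465586656555657485668777467777665675756575676655765675766675464786555646666776775886454677556668777857576676676766766767654786676768648766565656555578765565756575547675676664855566566666655774667568674577875665686555665757655756767565446667576676666687557664756865877565768766657586775765466766685767565677457656587675565657555477654765666465676676647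

/-- the entries of the inverse matrices, plus 6, base 16 -/
def IA : ℕ := 0x556566566767576666655675665556556657666576577666666566776677576744646646686868666666468466664644664866668648866666666688666848664464763679596975666636936666374356395676853987756676568966693876446466268a4a6a66666626a266662842662a4666862a86846686668a666a2886335367259a3a6a66777625a266661931662b3666961b96936696669b566b1996445467358949696677763593776638436539456686398684778665895569388644646646884868666666468466664844664846668648868466866688666848865555674578586866777645846666575566475666765776756676667756675776776656755666666675577667657767666675565756766766576655556666765677675684565656558447866864776776768456575586577748555454667685577768569356666646933796696377676686935657569667683944535366869456686866a246666646a228a66a6286666686a2666646a668682a4442626686a446696966a237666736a119b76b6196666795a1656636b669691a3332627695a33668686684466666468228a66a628666668682666646a6686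828444464668684466868668446666646844886686486666686846666468668684844446466868446677765755665665674478658747656667674666656876767475555656576755666767567767666555776656657666566756675766566655575767766576666766686646886866666488664664866646664668466666666448486686648666686759563698686566639976366397564766366836576665644938769563956678784a4626a868666662aa662662a6664866266826686664644a2866a462a66688693b3616b969666661bb661662a6673956267926696553633a2966a351a67799684946379878567663996535539667485637783668655464493866945396778868484646886866666488664664866648664668466866646448486684648666886757565677676666657766566486675756467746676555655847668555867777666575656555576667655576666667777576766657766666656575577656666667757575545458555755457556666887858586674776675664648547874666766785848453435955484535844666798784859777477668465374854887375576679593935333595539353593375779979395977737755935537395399737557777a5a2a2532359552a2535a2266679a7a2a5977727766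a265372a52aa737557667869383543468554946469446667896939587773666684654739639974755766686848464446866484646844666688684868666466668466464864886466666667675756555676657565675566677868586777646666756557486478657556665566767576666666557776656555656666555657565667667766775566665656445685758565676655787775754454656555474846556866776687455765564633469475966466665579768585334366665536393654696677669735686656362246a484a6646666466a6686862242666646262a26646a666866a824686646261236b393a6537667366a6696962131566636161b25635a566966a913696636272446a4848664666646686686864242666646262a466468666866882468664646444684848664666646686686864444666646464846646866686688446866464645578575766566565667667676545466565646485665676767757745675657566676576756766677775665667766676675667776656665775576556677666676668648684686668888466466666668668666868664666488668646668666668666863878359767998846545766667965965596966357639966963667866576966686286826a666aa8846646666668a64a664a6a66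24862aa66a62668866486a67595296916b666aa9936636666669b73a663b6a6523972bb66b62679966395b675853868369676998847646666578974966496955348739966953678865485976686486846866688884664666666886486648686644864886686466886648686757547675676668877566566666677758665768654577477667646777665757677556667675756666766676767775655577676766776656665556666656676767755676758584666577667686888575548857686787754556454667574677576785468675859375648757868688958544895779679884445734456847357758688446868484a284648848868688a484448a488a68a884444824446848248848688446868484c084648848868688c484448c488c68c884444804446848048848687456868574a275647757767677a484557a587a67a784545725556847257857677557757575937575775775757795755579577977977555573555575735775777755676756584666577667666668575566857686787756556456667574677576776676557666666655755667657765666677565576766766776677776666765688568555876765665574575775887467657747448677686677668787576776469966965598666466557358676599636864773833967669667766979746687636aa66a666a86664666482486864aa626864682822a6866a668666a6a646686626ab67a666b96663766391396963ba626973692922b6966b659655b6a6365967168a668666a86664666482486864a8646864684844a6866a668666a6864668662688668666886664666484486864886468646848448686686686668686466866467866766687767565657457676587655765675755877658767666867656676647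

/-- the entries of the matrices, plus 6, base 16 -/
def FB : ℕ := 0x66576667657756656757577566765656566566776775667566566666556776666675675667567577556566565666767677576656566666666665556567665555665765766776575577656656766656767575665676666666666777676766577777665666656665765677767755666656565667765667565765765666755676655566775656666756766666667767656767767566766675667765757566766557556675767666657656666666576567656556556656667766576757576676677577755576665676676556566565667666656767666665567565576767565667767766575676666756766666667565676567765766766657665565755566566557664866686488666668486864668646466664668668846686664666664466866667856855584674774474565756657677775865574656566557645565686744446558647677774854876565467657468585756746876776767578776757665888786546776575657647788687456575564646677645774648557557768546856564668846466666468666666686686668688684668666846688668464668666463566757676666596566666665965676563563566566679665767375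966766775777544857646876864554765557675556557687666545674644768775646578788666646866668466666666684646864688668666666466644648444666664686638577864986776684969635596354566736696699365966746655733769666789578545937737744635658576587788849655836565764576355757966433365596377677739548775643576583694858466369757867774797857475748997854367775857475387996984464844746375876457735484585478694468565646789363666563795665756965966786886937685779456995693636696764624768586755565a5476576664a7568655256256557657a764777275a67766875777443958646977973553675458575456557796667434684733779785636478799656636976779366666667594535853799569676567365644648433566663686638577864b867766849696155961545667366b66bb16596674665573176966679a568545927737844624659587598799939654925475674486244757a664322645a73786878295488856325755835a384936636a7578776838a8957375638aa7944257785858474287aa7a834548448372848753577243945854787a437955564678b3616665637b5665756b65966786886b3768577b4569956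936166b6764613769496855564b5376576663b7669645166146567656b763876166b67666984778342949545977a6244267534957435755769676743369482288a7956264788b965661697677b16666666759451585379956b676567365644648413566661686739478963c967765939696045950435668366c67cc07596773564473086976679a568434a1682884461465a5985a989aa2a754a15484673396244756a564212645a727968891a4488955315744925a284a26625b7579886829b8a68386628aa7a34167795859473187bb6b824648449261938762577132a45854786b426a56563779c3607664638c5565857c64966896995c3859578c3569946936065c7763603779395944463c5387576653c7679535066035568746c763986066c68666993878241a49445a77a6144166434a5732475486a68563227a492289a7a56163889c964660797787c06656576859350495389956c676457364533639303466670696648468864a866666848686246862446668466a66aa26686664664464286866678856844592674884562565968758878893975493557567448635576685654336569737867883954778654357558459384836645a7578776738a8867486637886945367786758464376996983465754836384866357634395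68547769436956664668a4626664648a6666866a64866886886a4868668a4668846846266a6664624778485855574a5477575554a7678545265245567756a754876266a776778848684438585559778624526654595743576576867564337858347897956364888a864662686686a26666666868462486488866a666466464644648424466662686658577864986776684767635576354566756696699365766746655753767666688567545846747755645758587588788848755845575674577455656856544475587478677748557785544675584584758456458767877674787867476647886855366676767565376996974565755746375766466635485676567695468666646789563666565795665756965766786886957685779456775675636696764635767476855564955765766659766764536634656765697658763669676667847774548585558768645546654586754575576867564447858447887855474777976566367767793666666675745358557775696765675656446484355666636876575677758766666757676456764556657575866884667666565556547676576775675558466577566456576776776778486657565756655764666667666554656864776677586566766556755756857574665686667776757877665766467768555666767675655767767745657557465757664666554856765676754686666566785746555657866767668657567777768576766785657756756476866656457775757666658556757665587677555466455566766876576646686666677576755575756686676455466656767555665667676654467674567868565657778755664676676847665665767564576577766876656656565575754557676467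

/-- the entries of the inverse matrices, plus 6, base 16 -/
def IB : ℕ := 0x66556667655756656555577566767676566566576777665566766666756756666644666864486666644468646686868666646646688866466686666684664666673466785339665663436964769586876573654669895636579677679366366667346678511b66566143696476958687657365466b8b563657b677679166366657336689500c67466033696377949597657364366c9c563648c588779066356766446688622a66466244686466848686666464466a8a664648a68866826646666754667853396656634567647675868765756546698956565796776773665666665557776448665674556765667576766665555678786756578677667456565655776556667676576767765776665656656766665666666665556765575667554487555567857757677876587566455554786667466665656554675548576844439754547895785778698659756745545479676836767564745367554956793343a7535469a47958796a9659757845534489666925758554734268454a46792242a752436ab489587a6ba65a84894543449a566a25649453724258354a466a114487534469a57868786a865985785554548956693565855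47343574658566833548754546885785768688758757855545578567845658554645457555856684455776455678567676768765875776665557866674665756564546656676667557755677666565675656776575666765667656666766666666757656757766577885477766656457464678547575677476855667687756756674865775776548889536777655535746377843758567838694466769775665758395477477744998952687875552474638783285855882969336786a7855656593a5387378634aa8a52687985451474629783184945892a5a226795a79546466a2b6288288634ab796368787545357464868437585578395933678587855656684a64773886458a785467787656457574877447585578485844777587755656684864774776458868646777765655756576755667566747685466767676565667586576477656785566766667666756767556757566667676566576566556776576566675567665456776776757684677744685746575768656647655555688747545568556876434588677584778457873469573648485965773865555478883754546844697642448857748478934787237a572548484a758828555554899827535479447a7531438867738479a23787126b571648483b65991865555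49aa81752546a446b762344786774857893467633696636575849668838665564899736535569446976335577666575678456763469663657575966773766666578873664656855696645557766657567845676546766565757576677576666657887566465685567664776655565666657656666666576567656576576676667566776577756676675786664446466664866666666648666864648648666666646668668884668666489665343646675497666667563956595453963856656563766876999376966648b6653436466754b7666667563b56595451961856656561766876b99176966648c6753336376743c8665668573c46594350950945656460766986c99075976639a6664446466644a8666668664a46684462862846666462666886a88266866648966554564667549766666756595657545376385665656376687697737676664886665557567655876565776658566755647647566655646567768774667676575566577676666556566666667767656767767766566677665567755766566575556659769666655636666666976765676776976656669766556775596636657545765a86a676644526675665a77875677776a8755757a7565567754a6726647534764b96b676633516675665b67976687886b9754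757b8566666663b6716638633753c95c587633507775664c67986797996c9853848c9566656663c6806639644754a85a577744527775555a67876787885a8754757a8556656664a7727748654764976967665553667566596777668788697754757985666666659673665865575587585676555477756668677667777768765566687566656665866466576667777766576776777566666656656665757655666675655666755676666557667778785658587587757676665754677484764467668575475774467566655867778979565849749775766767485358739375436776958447567337846765586678997946584973a77487675739425972a276427875949347568228946865586678aa7a47483a73a8748766472a315a81b286428965a49247468129a369654856788868575749648874776657394259729376447865958457567338946865485677887857574874877577665648546874847654776585845756744884587557566777675666586577757666564754677474665577668675665665478567655767766755676666776766666665567656765567566766657665765575566766757686684466666688686666666446864686646666686664866486468446686686669679336656679969566767733586379664566678575497639646843668659666b67b31665667996b56676771358617966456667857549761964684366865b666c68c30765557996c46786870359507976356667948539850963693376964c666a68a42666666886a46686862468626866466666848648862864684466864a6669679536656677769566767735586377664566678575477637646845668659666857854666666777855675764567646766566676757657764775675567775866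

end Cfsg.Agent.BZ.X.O82
end

-- part: BZ/L/TA/KE
section
prune_inst 0x2200064057722000000040010e20019b3f90000800043000020060906010d884080420e004a20150b002210001804006002100000400000000aa470000003012000008000800002150e0000800008410000200080000000000000000000000000014010000
set_option linter.all false
open scoped Cfsg.Agent.FastGrp

/-!
# BZ / L / TA : type `E₆` (helper39)

* `KE.nine` : two independent kernel vectors modulo three;  `KE.cyc` : products of cyclotomic polynomials;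
* `KE.skew` : the alternating form;  `KE.cube`, `KE.rk_three`;  `boxKE`.
-/

set_option autoImplicit false

namespace Cfsg.Agent.BZ.TA

open Matrix Polynomial

namespace KE

theorem ex_fac (f : ℤ[X]) : f ≠ 0 → (3 : ℤ) ∣ f.eval 1 → ∃ g, Irreducible g ∧ g ∣ f ∧ (3 : ℤ) ∣ g.eval 1 := by
  induction f using WfDvdMonoid.induction_on_irreducible with
  | zero => exact fun h => absurd rfl h
  | unit u hu => exact fun _ h => absurd (isUnit_of_dvd_unit h (hu.map (evalRingHom 1))) Int.prime_three.not_isUnit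
  | mul a i ha hi ih =>
    intro _ h
    rw [eval_mul] at h
    rcases Int.prime_three.dvd_or_dvd h with h | h
    · exact ⟨i, hi, Dvd.intro _ rfl, h⟩
    · obtain ⟨g, h1, h2, h3⟩ := ih ha h
      exact ⟨g, h1, h2.mul_left _, h3⟩

theorem cyc {n m : ℕ} (hn : 0 < n) (j : ℕ) : ∀ f : ℤ[X], f.Monic → f ∣ (X ^ n - 1) ^ m → f.eval 1 ≠ 0 →
    (3 : ℤ) ^ j ∣ f.eval 1 → f.natDegree ≤ 2 * j → f = cyclotomic 3 ℤ ^ j := by
  induction j with
  | zero => exact fun f h1 _ _ _ h5 => by rw [pow_zero]; exact h1.natDegree_eq_zero.1 (Nat.le_zero.1 h5)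
  | succ j ih =>
    intro f h1 h2 h3 h4 h5
    obtain ⟨g, g1, g2, g3⟩ := ex_fac f h1.ne_zero ((dvd_pow_self 3 j.succ_ne_zero).trans h4)
    have g4 := g1.prime.dvd_of_dvd_pow (g2.trans h2)
    rw [← prod_cyclotomic_eq_X_pow_sub_one hn ℤ] at g4
    obtain ⟨d, d1, d2⟩ := (g1.prime.dvd_finsetProd_iff _).1 g4
    obtain ⟨f', rfl⟩ := (g1.associated_of_dvd (cyclotomic.irreducible (Nat.pos_of_mem_divisors d1)) d2).symm.dvd.trans g2
    have d3 : (3 : ℤ) ∣ (cyclotomic d ℤ).eval 1 := g3.trans (eval_dvd d2)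
    rw [eval_mul] at h3 h4
    obtain ⟨p, hp, k, rfl⟩ : ∃ p : ℕ, p.Prime ∧ ∃ k, p ^ k = d := by
      by_contra hc
      rw [eval_one_cyclotomic_not_prime_pow fun {p} hp k e => hc ⟨p, hp, k, e⟩] at d3
      exact absurd d3 (by decide)
    have := Fact.mk hp
    rcases k with _ | k
    · exact absurd (by rw [pow_zero, cyclotomic_one, eval_sub, eval_X, eval_one, sub_self, zero_mul]) h3
    rw [eval_one_cyclotomic_prime_pow] at d3 h4
    obtain rfl : 3 = p := (Nat.prime_dvd_prime_iff_eq Nat.prime_three hp).1 (Int.natCast_dvd_natCast.1 d3)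
    have m1 := (cyclotomic.monic (3 ^ (k + 1)) ℤ).of_mul_monic_left h1
    rw [(cyclotomic.monic _ ℤ).natDegree_mul m1, natDegree_cyclotomic, Nat.totient_prime_pow_succ hp] at h5
    have h6 := Nat.one_le_pow k 3 (by norm_num)
    have h7 := ih f' m1 ((Dvd.intro_left _ rfl).trans h2) (right_ne_zero_of_mul h3)
      ((mul_dvd_mul_iff_left (by norm_num : (3 : ℤ) ≠ 0)).1 (by rwa [pow_succ'] at h4)) (by omega)
    rw [h7, (cyclotomic.monic 3 ℤ).natDegree_pow, natDegree_cyclotomic, Nat.totient_prime Nat.prime_three] at h5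
    obtain rfl : k = 0 := (Nat.pow_eq_one.1 (by omega : 3 ^ k = 1)).resolve_left (by norm_num)
    rw [h7, zero_add, pow_one, pow_succ']

variable {I : Type} [Fintype I] [DecidableEq I]

theorem step (M : Matrix I I ℤ) {u ρ : I → ℤ} (h : M *ᵥ u = (3 : ℤ) • ρ) (i : I) :
    u i * M.det = 3 * (M.updateCol i ρ).det := by
  have h1 := congrFun (cramer_eq_adjugate_mulVec M (M *ᵥ u)) i
  rw [mulVec_mulVec, adjugate_mul, smul_mulVec, one_mulVec, h, map_smul, Pi.smul_apply, cramer_apply] at h1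
  rw [mul_comm]
  exact h1.symm

theorem nine (M : Matrix I I ℤ) {u w : I → ℤ} (hu : Dz 3 (M *ᵥ u)) (hw : Dz 3 (M *ᵥ w)) {i j : I} (h1 : ¬ (3 : ℤ) ∣ u i)
    (h2 : ¬ (3 : ℤ) ∣ u i * w j - w i * u j) : (9 : ℤ) ∣ M.det := by
  choose ρ hρ using hu
  choose τ hτ using hw
  have h3 := step M (ρ := ρ) (_root_.funext hρ) i
  have h4 := step (M.updateCol i ρ) (u := u i • w - w i • u) (ρ := u i • τ - w i • ρ) (by
    have e : (M.updateCol i ρ) *ᵥ (u i • w - w i • u) = M *ᵥ (u i • w - w i • u) := _root_.funext fun k =>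
      Finset.sum_congr rfl fun l _ => by
        by_cases hl : l = i
        · simp [hl, mul_comm]
        · exact congrArg (· * _) (updateCol_ne hl)
    rw [e, mulVec_sub, mulVec_smul, mulVec_smul]
    funext k
    simp only [Pi.sub_apply, Pi.smul_apply, smul_eq_mul, hρ, hτ]
    ring) j
  obtain ⟨c, hc⟩ := (Int.prime_three.dvd_or_dvd (Dvd.intro _ h4.symm)).resolve_left h2
  exact (((Prime.coprime_iff_not_dvd Int.prime_three).2 h1).pow_left (m := 2)).dvd_of_dvd_mul_left ⟨c, by rw [h3, hc]; ring⟩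

/-- the alternating form -/
theorem skew {A C : Matrix I I ℤ} (hI : Fintype.card I = 6) (h : A + Aᵀ + Aᵀ * C * A = 0) (h0 : A.det ≠ 0)
    (h3 : (3 : ℤ) ∣ A.det) : (9 : ℤ) ∣ A.det := by
  have h1 : ∀ i j, (3 : ℤ) ∣ A.adjugate i j + A.adjugate j i := fun i j => by
    have e := congrArg (fun Y => A.adjugateᵀ * Y * A.adjugate) h
    have e1 : A.adjugateᵀ * Aᵀ = A.det • (1 : Matrix I I ℤ) := by
      rw [← transpose_mul, mul_adjugate, transpose_smul, transpose_one]
    simp only [Matrix.mul_add, Matrix.add_mul, Matrix.mul_zero, Matrix.zero_mul] at e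
    rw [Matrix.mul_assoc, mul_adjugate, e1, ← Matrix.mul_assoc, ← Matrix.mul_assoc, e1, Matrix.mul_assoc, mul_adjugate] at e
    have e2 := congrFun (congrFun e i) j
    simp only [Matrix.mul_smul, Matrix.smul_mul, Matrix.mul_one, Matrix.one_mul, Matrix.add_apply, Matrix.smul_apply,
      transpose_apply, smul_eq_mul, Matrix.zero_apply] at e2
    have e3 : A.adjugate i j + A.adjugate j i = A.det * (-C i j) := mul_left_cancel₀ h0 (by linear_combination e2)
    exact e3 ▸ h3.mul_right _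
  have h2 : ∀ j, Dz 3 (A *ᵥ fun k => A.adjugate k j) := fun j i => by
    have e := congrFun (congrFun (mul_adjugate A) i) j
    exact (h3.mul_right _).trans (Eq.dvd e.symm)
  have h4 : ∀ i, (3 : ℤ) ∣ A.adjugate i i := fun i => by
    have := h1 i i
    omega
  by_cases h5 : ∀ i j, (3 : ℤ) ∣ A.adjugate i j
  · choose J hJ using h5
    obtain ⟨δ, hδ⟩ := h3
    have e := det_adjugate A
    rw [show A.adjugate = (3 : ℤ) • Matrix.of J from Matrix.ext hJ, det_smul, hI, hδ] at e
    obtain ⟨c, hc⟩ : (3 : ℤ) ∣ δ := Int.prime_three.dvd_of_dvd_pow (n := 5) ⟨(Matrix.of J).det, by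
      rw [show 6 - 1 = 5 from rfl, mul_pow] at e
      linarith only [e]⟩
    exact ⟨c, by rw [hδ, hc]; ring⟩
  · push Not at h5
    obtain ⟨i, j, h5⟩ := h5
    refine nine A (h2 j) (h2 i) (i := i) (j := j) h5 fun e => ?_
    have e1 := (dvd_sub_left ((h4 i).mul_right (A.adjugate j j))).1 e
    have e2 := h1 i j
    have := (Int.prime_three.dvd_or_dvd e1).resolve_left h5
    omega

theorem cube {B : Matrix I I ℤ} (hI : Fintype.card I = 6) {n : ℕ} (hn : 0 < n) (h1 : B ^ n = 1) (h0 : (B - 1).det ≠ 0)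
    (h27 : (3 : ℤ) ^ 3 ∣ (B - 1).det) : B ^ 2 + B + 1 = 0 := by
  have e1 : B.charpoly.eval 1 = (B - 1).det := by
    rw [eval_charpoly, map_one, ← neg_sub, det_neg, hI]
    norm_num only [_root_.one_mul]
  have e2 : B.charpoly ∣ (X ^ n - 1) ^ 6 := by
    have c : Commute (scalar I (X : ℤ[X])) ((Polynomial.C : ℤ →+* ℤ[X]).mapMatrix B) := scalar_commute _ (fun _ => .all _ _) _
    have e := congrArg det (c.mul_geom_sum₂ n)
    rw [det_mul, ← map_pow, ← map_pow, h1, map_one, ← map_one (scalar I), ← map_sub, scalar_apply (X ^ n - 1), det_diagonal,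
      Finset.prod_const, Finset.card_univ, hI] at e
    exact Dvd.intro _ e
  have e3 := cyc hn 3 _ B.charpoly_monic e2 (e1 ▸ h0) (e1 ▸ h27) (by rw [charpoly_natDegree_eq_dim, hI])
  let φ : Matrix I I ℤ →+* Matrix I I ℚ := (Int.castRingHom ℚ).mapMatrix
  have e4 : minpoly ℚ (φ B) ∣ X ^ n - 1 := minpoly.dvd _ _ (by
    rw [map_sub, map_pow, aeval_X, map_one, ← map_pow, h1, map_one, sub_self])
  have e5 := minpoly_dvd_charpoly (φ B)
  rw [RingHom.mapMatrix_apply, charpoly_map, e3, Polynomial.map_pow, map_cyclotomic] at e5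
  have e6 := (((X_pow_sub_one_separable_iff.2 (Nat.cast_ne_zero.2 hn.ne')).squarefree.squarefree_of_dvd e4).dvd_pow_iff_dvd
    three_ne_zero).1 e5
  have e7 := aeval_eq_zero_of_dvd_aeval_eq_zero e6 (minpoly.aeval ℚ (φ B))
  rw [cyclotomic_three, map_add, map_add, map_pow, aeval_X, map_one, ← map_pow, ← map_one φ, ← map_add, ← map_add,
    ← map_zero φ] at e7
  exact _root_.Matrix.map_injective (Int.cast_injective (α := ℚ)) e7

theorem rk_three {B : Matrix I I ℤ} (hI : Fintype.card I = 6) (h : B ^ 2 + B + 1 = 0) : Rk 3 B 3 := by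
  have := Fact.mk Nat.prime_three
  let φ : Matrix I I ℤ →+* Matrix I I (ZMod 3) := (Int.castRingHom (ZMod 3)).mapMatrix
  have e1 : φ (B - 1) * φ (B - 1) = 0 := by
    have e : (B - 1) * (B - 1) = (-3 : ℤ) • B := by
      rw [← sub_zero ((B - 1) * (B - 1)), ← h]
      noncomm_ring
    rw [← map_mul, e, map_zsmul, ← Int.cast_smul_eq_zsmul (ZMod 3), show ((-3 : ℤ) : ZMod 3) = 0 from rfl, zero_smul]
  have e2 : LinearMap.range (φ (B - 1)).mulVecLin ≤ LinearMap.ker (φ (B - 1)).mulVecLin := by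
    rw [LinearMap.range_le_ker_iff, ← mulVecLin_mul, e1, mulVecLin_zero]
  have e3 := LinearMap.finrank_range_add_finrank_ker (φ (B - 1)).mulVecLin
  have e4 := Submodule.finrank_mono e2
  rw [Module.finrank_fintype_fun_eq_card, hI] at e3
  obtain ⟨g, hg⟩ := exists_linearIndependent_of_le_finrank (R := ZMod 3) (M := LinearMap.ker (φ (B - 1)).mulVecLin) (n := 3)
    (by omega)
  choose f hf using fun i k => ZMod.intCast_surjective ((g i).1 k)
  refine ⟨f, fun i k => ?_, fun a ha i => ?_⟩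
  · have e5 := congrFun (g i).2 k
    rw [pow_one, one_smul, ← ZMod.intCast_zmod_eq_zero_iff_dvd, ← one_mulVec (f i), mulVec_mulVec, Matrix.mul_one, ← sub_mulVec]
    refine ((Int.castRingHom (ZMod 3)).map_mulVec _ _ k).trans (Eq.trans ?_ e5)
    exact congrArg (fun v => (φ (B - 1) *ᵥ v) k) (_root_.funext (hf i))
  · refine (ZMod.intCast_zmod_eq_zero_iff_dvd _ 3).1 (Fintype.linearIndependent_iff.1 hg (fun i => (a i : ZMod 3))
      (Subtype.ext (_root_.funext fun k => ?_)) i)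
    have e5 := (ZMod.intCast_zmod_eq_zero_iff_dvd _ 3).2 (ha k)
    simpa only [Finset.sum_apply, hf, _root_.AddSubmonoidClass.coe_finsetSum, _root_.SetLike.val_smul, _root_.Pi.smul_apply, _root_.smul_eq_mul, _root_.ZeroMemClass.coe_zero, _root_.Pi.zero_apply, _root_.zsmul_eq_mul, _root_.Pi.mul_apply, _root_.Pi.intCast_apply, _root_.Int.cast_eq, _root_.Int.cast_sum, _root_.Int.cast_mul] using e5

private noncomputable def _root_.Cfsg.Agent.LsF.f564efa_0 : {f // @Cfsg.Agent.BZ.TA.cT = f} := ⟨_, by first | (delta Cfsg.Agent.BZ.TA.cT; rewrite [Cfsg.Agent.LsF.nadd_pat, Cfsg.Agent.LsF.ineg_pat, Cfsg.Agent.LsF.instDecEq_eq, Cfsg.Agent.LsF.decLt_eq, Cfsg.Agent.LsF.dAnd_eq, Cfsg.Agent.LsF.dOr_eq, Cfsg.Agent.LsF.ite_eq]; exact rfl) | exact rfl⟩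
theorem det_e6 : (Matrix.of fun i j : Fin 6 => cT 2 6 i j).det = 3 := by (refine of_decide_eq_true ?_; (try (rewrite [Cfsg.Agent.LsF.f564efa_0.2, Cfsg.Agent.LsF.det_eq, Cfsg.Agent.LsF.mof_pat, Cfsg.Agent.LsF.finFintype_eq, Cfsg.Agent.LsF.instIDecEq_eq, Cfsg.Agent.LsF.dFinEq_eq, Cfsg.Agent.LsF.decide_eq])); decide +kernel)

theorem sym_e6 : ∀ i j : Fin 6, cT 2 6 i j = cT 2 6 j i := by decide

end KE

open KE

theorem boxKE : BoxKE := by
  rintro I _ _ C B ⟨e, he⟩ ⟨⟨n, hn, h1⟩, iso⟩ hE hT ⟨f, f1, f2⟩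
  have hI : Fintype.card I = 6 := by rw [← Fintype.card_congr e, Fintype.card_fin]
  have c1 : C.det = 3 := by
    rw [← det_submatrix_equiv_self e, ← det_e6]
    exact congrArg det (Matrix.ext he)
  have c2 : Cᵀ = C := Matrix.ext fun i j => by
    obtain ⟨i, rfl⟩ := e.surjective i
    obtain ⟨j, rfl⟩ := e.surjective j
    rw [transpose_apply, he, he, sym_e6]
  have c3 : ∀ β, β ᵥ* C = C *ᵥ β := fun β => by rw [← vecMul_transpose, c2]
  have c4 : ∀ Y : Matrix I I ℤ, C * Y = 0 → Y = 0 := fun Y h => by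
    have e := congrArg (C.adjugate * ·) h
    simpa only [← Matrix.mul_assoc, adjugate_mul, c1, Matrix.smul_mul, Matrix.one_mul, Matrix.mul_zero, smul_eq_zero,
      three_ne_zero, false_or] using e
  have c5 : ∀ β, C *ᵥ β = 0 → β = 0 := fun β h => by_contra fun h' =>
    three_ne_zero (c1.symm.trans (exists_mulVec_eq_zero_iff.1 ⟨β, h', h⟩))
  choose a ha using fun j => hT (Pi.single j 1) (C.adjugate *ᵥ Pi.single j 1) (by
    rw [c3, mulVec_mulVec, mul_adjugate, c1, smul_mulVec, one_mulVec]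
    rfl)
  let A : Matrix I I ℤ := (Matrix.of a)ᵀ
  have a1 : B - 1 = C * A := Matrix.ext fun i j => by
    have e := congrFun (ha j) i
    rw [c3, mulVec_single_one, Pi.sub_apply, Pi.single_apply] at e
    rw [Matrix.sub_apply, one_apply]
    exact e
  have a2 : B = 1 + C * A := by rw [← a1, add_sub_cancel]
  have a3 : A + Aᵀ + Aᵀ * C * A = 0 := c4 _ (by
    have e : (1 + A * C)ᵀ * B = 1 := Matrix.ext fun i j => by
      obtain ⟨β, b1, b2⟩ := iso (Pi.single i 1)
      have b3 : β = (1 + A * C) *ᵥ Pi.single i 1 := (sub_eq_zero.1 (c5 _ (by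
        rw [mulVec_sub, ← c3 β, ← b1, c3, mulVec_mulVec, mulVec_mulVec, a2, sub_eq_zero]
        congr 1
        noncomm_ring))).symm
      have b4 := b2 (Pi.single j 1)
      simp only [b3, mulVec_single_one, Pi.one_apply, mul_one] at b4
      refine Eq.trans b4 ?_
      simp only [Pi.single_apply, one_apply, eq_comm, _root_.mul_ite, _root_.mul_one, _root_.MulZeroClass.mul_zero, _root_.Finset.sum_ite_eq, _root_.Finset.mem_univ, ↓ _root_.reduceIte]
    rw [a2, transpose_add, transpose_one, transpose_mul, c2] at e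
    rw [← sub_self (1 : Matrix I I ℤ)]
    nth_rw 1 [← e]
    noncomm_ring)
  have d0 : (B - 1).det ≠ 0 := fun h => by
    obtain ⟨v, v0, hv⟩ := exists_mulVec_eq_zero_iff.2 h
    rw [sub_mulVec, one_mulVec, sub_eq_zero] at hv
    exact v0 (hE v hv)
  have d1 : (B - 1).det = 3 * A.det := by rw [a1, det_mul, c1]
  have f3 : ∀ i, Dz 3 ((B - 1) *ᵥ f i) := fun i k => by
    have e := f1 i k
    rwa [pow_one, one_smul, ← one_mulVec (f i), mulVec_mulVec, Matrix.mul_one, ← sub_mulVec] at e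
  obtain ⟨i, hi⟩ : ∃ i, ¬ (3 : ℤ) ∣ f 0 i := not_forall.1 fun h =>
    absurd (f2 ![1, 0] (fun k => by simpa only [_root_.Nat.cast_ofNat, _root_.zsmul_eq_mul, _root_.Finset.sum_apply, _root_.Pi.mul_apply, _root_.Pi.intCast_apply, _root_.Int.cast_eq, _root_.Fin.sum_univ_two, _root_.Fin.isValue, _root_.Matrix.cons_val_zero, _root_.one_mul, _root_.Matrix.cons_val_one, _root_.Matrix.cons_val_fin_one, _root_.MulZeroClass.zero_mul, _root_.add_zero] using h k) 0) (by decide)
  obtain ⟨j, hj⟩ : ∃ j, ¬ (3 : ℤ) ∣ f 0 i * f 1 j - f 1 i * f 0 j := not_forall.1 fun h =>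
    hi (f2 ![-f 1 i, f 0 i] (fun k => by simpa only [sub_eq_neg_add, _root_.Nat.cast_ofNat, _root_.Fin.isValue, _root_.zsmul_eq_mul, _root_.Finset.sum_apply, _root_.Pi.mul_apply, _root_.Pi.intCast_apply, _root_.Int.cast_eq, _root_.Fin.sum_univ_two, _root_.Matrix.cons_val_zero, _root_.neg_mul, _root_.Matrix.cons_val_one, _root_.Matrix.cons_val_fin_one] using h k) 1)
  have d2 := nine _ (f3 0) (f3 1) hi hj
  rw [d1] at d2
  obtain ⟨c, hc⟩ := skew hI a3 (right_ne_zero_of_mul (d1 ▸ d0)) (by omega)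
  exact rk_three hI (cube hI hn h1 d0 ⟨c, by rw [d1, hc]; ring⟩)

end Cfsg.Agent.BZ.TA
end

-- part: BZ/L/TA/KI
section
prune_inst 0x62440444177a20000001c0510d22019b3bf0004b010430000a0060142010d4860a9422e014a20050b122210411835006813100000420000000aa470000003012008008000010002150e008080108b190c00200080000000000000000000000000014010000
set_option linter.all false
open scoped Cfsg.Agent.FastGrp

/-!
# BZ / L / TA : the lattice lemma, irreducible case (helper58)
-/

set_option autoImplicit false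
set_option linter.unusedSectionVars false

namespace Cfsg.Agent.BZ.TA

open Matrix

namespace KI

theorem count {L Ω : Type} [AddCommGroup L] [AddCommGroup Ω] [Finite Ω] {l : ℕ} (hl : l.Prime) (f : Ω →+ Ω)
    (ι : L →+ Ω) (δ : L →+ Ω ⧸ f.range) (h1 : ∀ v, f (ι v) = 0) (h2 : ∀ v, l • ι v = 0) (h3 : ι.ker ≤ δ.ker)
    (h4 : ∀ q, ∃ s : ℤ, ¬ (l : ℤ) ∣ s ∧ s • q ∈ δ.range) : δ.ker ≤ ι.ker := by
  have a1 : Nat.card ι.range ∣ Nat.card f.ker := AddSubgroup.card_dvd_of_le (by rintro _ ⟨v, rfl⟩; exact h1 v)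
  have a2 : Nat.card f.ker = Nat.card δ.range * δ.range.index := by
    have b1 := f.ker.card_mul_index
    rw [AddSubgroup.index_ker, ← f.range.index_mul_card] at b1
    rw [AddSubgroup.card_mul_index]
    exact mul_right_cancel₀ Nat.card_pos.ne' b1
  have a3 : (Nat.card ι.range).Coprime δ.range.index := Nat.coprime_of_dvd fun k hk b1 b2 => by
    have := Fact.mk hk
    obtain ⟨⟨_, v, rfl⟩, b3⟩ := exists_prime_addOrderOf_dvd_card' k b1
    obtain rfl : k = l := (Nat.prime_dvd_prime_iff_eq hk hl).1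
      (b3 ▸ addOrderOf_dvd_of_nsmul_eq_zero (Subtype.ext (h2 v)))
    obtain ⟨q, b4⟩ := exists_prime_addOrderOf_dvd_card' (G := (Ω ⧸ f.range) ⧸ δ.range) k b2
    obtain ⟨q, rfl⟩ := QuotientAddGroup.mk_surjective q
    obtain ⟨s, b5, b6⟩ := h4 q
    exact b5 (b4 ▸ addOrderOf_dvd_iff_zsmul_eq_zero.2 ((QuotientAddGroup.eq_zero_iff _).2 b6))
  have a4 := a3.dvd_of_dvd_mul_right (a2 ▸ a1)
  rw [← AddSubgroup.index_ker, ← AddSubgroup.index_ker, ← AddSubgroup.relIndex_mul_index h3] at a4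
  refine AddSubgroup.relIndex_eq_one.1 (Nat.eq_one_of_dvd_one (Nat.dvd_of_mul_dvd_mul_right (k := δ.ker.index) ?_
    (by rwa [one_mul])))
  rw [AddSubgroup.index_ker]
  exact Nat.card_pos

theorem unit {l : ℕ} (hl : l.Prime) {a : ℤ} (h : ¬ (l : ℤ) ∣ a) : ∃ x y : ℤ, x * a + y * l = 1 := by
  obtain ⟨y, x, e⟩ := (Prime.coprime_iff_not_dvd (Nat.prime_iff_prime_int.1 hl)).2 h
  exact ⟨x, y, by rw [add_comm, e]⟩

variable {I : Type} [Fintype I] [DecidableEq I] {C B w : Matrix I I ℤ} {d : I → ℤ} {l : ℕ} {c n : ℤ}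
  {u v x y : I → ℤ}

theorem dz_iff : Dz n v ↔ ∃ u, v = n • u :=
  ⟨fun h => by choose u hu using h; exact ⟨u, funext hu⟩, fun ⟨u, hu⟩ i => ⟨u i, congrFun hu i⟩⟩

theorem dz_lin (hx : Dz n x) (hy : Dz n y) (a b : ℤ) (u : I → ℤ) (e : v = a • x + b • y + n • u) : Dz n v := fun i =>
  e ▸ dvd_add (dvd_add ((hx i).mul_left a) ((hy i).mul_left b)) (dvd_mul_right _ _)

theorem dz_lin1 (hx : Dz n x) (a : ℤ) (u : I → ℤ) (e : v = a • x + n • u) : Dz n v :=
  dz_lin hx hx a 0 u (by rw [e, zero_smul, add_zero])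

theorem dz_mv (hx : Dz n x) (M : Matrix I I ℤ) : Dz n (M *ᵥ x) := by
  obtain ⟨u, rfl⟩ := dz_iff.1 hx
  exact dz_iff.2 ⟨_, mulVec_smul _ _ _⟩

theorem dz_cancel {m : ℤ} (hm : m ≠ 0) (h : Dz (n * m) (m • v)) : Dz n v := fun i =>
  (mul_dvd_mul_iff_right hm).1 (mul_comm m (v i) ▸ h i)

theorem dz_unit (hl : l.Prime) {a : ℤ} (h : ¬ (l : ℤ) ∣ a) (hv : Dz l (a • v)) : Dz l v := by
  obtain ⟨p, q, e⟩ := unit hl h
  exact dz_lin1 hv p (q • v) (by linear_combination (norm := module) (-e) • v)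

/-- the coroot lattice -/
def RR (C : Matrix I I ℤ) : Submodule ℤ (I → ℤ) := LinearMap.range C.vecMulLinear

theorem mem_RR : v ∈ RR C ↔ ∃ β, v = β ᵥ* C := ⟨fun ⟨β, h⟩ => ⟨β, h.symm⟩, fun ⟨β, h⟩ => ⟨β, h.symm⟩⟩

theorem rr_self (β : I → ℤ) : β ᵥ* C ∈ RR C := ⟨β, rfl⟩

theorem rr_lin {z : I → ℤ} (hx : x ∈ RR C) (hy : y ∈ RR C) (hz : z ∈ RR C) (a b t : ℤ) (e : v = a • x + b • y + t • z) :
    v ∈ RR C := e ▸ add_mem (add_mem ((RR C).smul_mem a hx) ((RR C).smul_mem b hy)) ((RR C).smul_mem t hz)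

theorem rr_unit (hl : l.Prime) {a : ℤ} (h : ¬ (l : ℤ) ∣ a) (h1 : (l : ℤ) • v ∈ RR C) (h2 : a • v ∈ RR C) : v ∈ RR C := by
  obtain ⟨p, q, e⟩ := unit hl h
  exact rr_lin h2 h1 h1 p q 0 (by linear_combination (norm := module) (-e) • v)

theorem au_rr (h : Au C d B) (hv : v ∈ RR C) : B *ᵥ v ∈ RR C := by
  obtain ⟨β, rfl⟩ := mem_RR.1 hv
  obtain ⟨β', e, -⟩ := h.iso β
  exact e ▸ rr_self β'

theorem vv1 : Vv l c B 1 v ↔ Dz l (c • (B *ᵥ v) - v) := by rw [Vv, pow_one]

theorem vv_mono {e e' : ℕ} (h : e ≤ e') (hv : Vv l c B e' v) : Vv l c B e v := fun i => (pow_dvd_pow _ h).trans (hv i)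

theorem vv_lin {e : ℕ} (hx : Vv l c B e x) (hy : Vv l c B e y) (a b : ℤ) : Vv l c B e (a • x + b • y) :=
  dz_lin hx hy a b 0 (by rw [mulVec_add, mulVec_smul, mulVec_smul]; module)

theorem vv_c {e : ℕ} (h : (l : ℤ) ^ e ∣ c - 1) : Vv l c B e v ↔ Vv l 1 B e v := by
  obtain ⟨m, hm⟩ := h
  exact ⟨fun k => dz_lin1 k 1 (-m • (B *ᵥ v)) (by linear_combination (norm := module) (-hm) • (B *ᵥ v)),
    fun k => dz_lin1 k 1 (m • (B *ᵥ v)) (by linear_combination (norm := module) hm • (B *ᵥ v))⟩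

theorem vv_div {e k : ℕ} (hl : l.Prime) (h : Vv l c B (e + k) ((l : ℤ) ^ k • v)) : Vv l c B e v :=
  dz_cancel (pow_ne_zero k (Int.natCast_ne_zero.2 hl.ne_zero)) (by
    rw [Vv, pow_add, mulVec_smul, smul_comm c, ← smul_sub] at h
    exact h)

theorem el_up (hl : l.Prime) {k : ℕ} (h : ∀ v, Vv l c B (k + 1) v → Dz l v) (e : ℕ) :
    ∀ v, Vv l c B (k + e) v → Dz ((l : ℤ) ^ e) v := by
  induction e with
  | zero => exact fun v _ i => by rw [pow_zero]; exact one_dvd _
  | succ e ih =>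
    intro v hv
    obtain ⟨u, rfl⟩ := dz_iff.1 (h v (vv_mono (by omega) hv))
    obtain ⟨u, rfl⟩ := dz_iff.1 (ih u (vv_div (k := 1) hl (by rwa [pow_one])))
    exact dz_iff.2 ⟨u, by rw [smul_smul, pow_succ']⟩

theorem kc_triv (hl : l.Prime) (h : ∀ v, Vv l c B 1 v → Dz l v) : Kc l c C B := fun e v _ hv =>
  el_up hl (k := 0) h e v (by rw [zero_add]; exact dz_iff.2 ⟨_, hv⟩)

/-- the fixed elements of order `l` of the fundamental group -/
def KK (l : ℕ) (c : ℤ) (C B : Matrix I I ℤ) (μ : I → ℤ) : Prop := (l : ℤ) • μ ∈ RR C ∧ c • (B *ᵥ μ) - μ ∈ RR C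

/-- rank at most one -/
def R1 (l : ℕ) (c : ℤ) (C B : Matrix I I ℤ) : Prop := ∀ μ μ', KK l c C B μ → KK l c C B μ' →
  ∃ a a' : ℤ, ¬ ((l : ℤ) ∣ a ∧ (l : ℤ) ∣ a') ∧ a • μ + a' • μ' ∈ RR C

theorem cyc_dep (hl : l.Prime) {μ₀ : I → ℤ} (h : G2 C μ₀ 0) (μ μ' : I → ℤ) :
    ∃ a a' : ℤ, ¬ ((l : ℤ) ∣ a ∧ (l : ℤ) ∣ a') ∧ a • μ + a' • μ' ∈ RR C := by
  have h1 : ¬ (l : ℤ) ∣ 1 := (Nat.prime_iff_prime_int.1 hl).not_dvd_one
  obtain ⟨a, _, β, rfl⟩ := h μ
  obtain ⟨a', _, β', rfl⟩ := h μ'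
  rcases Nat.eq_zero_or_pos (Int.gcd a a') with h0 | h0
  · exact ⟨1, 0, fun k => h1 k.1, rr_lin (rr_self β) (rr_self β) (rr_self β) 1 0 0 (by
      rw [(Int.gcd_eq_zero_iff.1 h0).1]; module)⟩
  obtain ⟨g, m, m', -, h2, rfl, rfl⟩ := Int.exists_gcd_one' h0
  exact ⟨m', -m, fun k => h1 (by simpa [h2] using Int.dvd_coe_gcd (dvd_neg.1 k.2) k.1),
    rr_lin (rr_self β) (rr_self β') (rr_self β) m' (-m) 0 (by module)⟩

section kd

variable (hl : l.Prime) (k : Kd l c C B w)
include k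

theorem stab {e : ℕ} (hv : Vv l c B e v) : Vv l c B e (w *ᵥ v) := by
  obtain ⟨β, hβ⟩ := k.fw e v hv
  exact dz_lin1 (dz_mv hv w) 1 (c • (β ᵥ* C)) (by
    rw [mulVec_sub, mulVec_smul]; linear_combination (norm := module) c • hβ)

theorem stab' {e : ℕ} (hv : Vv l c B e v) : Vv l c B e (w *ᵥ v - v) := by
  simpa [sub_eq_add_neg] using vv_lin (stab k hv) hv 1 (-1)

theorem inj (hv : Vv l c B 1 v) (e : w *ᵥ v - v = (l : ℤ) • u) (hu : u ∈ RR C) : Dz l v := by
  obtain ⟨β, rfl⟩ := mem_RR.1 hu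
  simpa only [pow_one] using k.dl 1 v β hv (by rwa [pow_one])

include hl

theorem io (hv : Vv l c B 1 v) (e : w *ᵥ v - v = (l : ℤ) • u) : KK l c C B u := by
  obtain ⟨β, hβ⟩ := k.fw 1 v hv
  obtain ⟨t, ht⟩ := dz_iff.1 (vv1.1 hv)
  refine ⟨e ▸ mem_RR.2 (k.wr v), rr_lin (rr_self β) (mem_RR.2 (k.wr t)) (rr_self β) c 1 0
    (smul_right_injective _ (Int.natCast_ne_zero.2 hl.ne_zero) ?_)⟩
  have e1 := congrArg (B *ᵥ ·) e
  have e2 := congrArg (w *ᵥ ·) ht
  simp only [mulVec_sub, mulVec_smul, pow_one] at e1 e2 hβ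
  show (l : ℤ) • _ = (l : ℤ) • _
  linear_combination (norm := module) c • hβ - c • e1 + e + e2 - ht

theorem dep (h : R1 l c C B) (hx : Vv l c B 1 x) (hy : Vv l c B 1 y) (fx : Dz l (w *ᵥ x - x)) (fy : Dz l (w *ᵥ y - y)) :
    ∃ a a' : ℤ, ¬ ((l : ℤ) ∣ a ∧ (l : ℤ) ∣ a') ∧ Dz l (a • x + a' • y) := by
  obtain ⟨u, hu⟩ := dz_iff.1 fx
  obtain ⟨u', hu'⟩ := dz_iff.1 fy
  obtain ⟨a, a', h1, h2⟩ := h u u' (io hl k hx hu) (io hl k hy hu')
  exact ⟨a, a', h1, inj k (vv_lin hx hy a a') (by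
    rw [mulVec_add, mulVec_smul, mulVec_smul]; linear_combination (norm := module) a • hu + a' • hu') h2⟩

theorem fixv (hv : Vv l c B 1 v) (h0 : ¬ Dz l v) : ∃ y, Vv l c B 1 y ∧ ¬ Dz l y ∧ Dz l (w *ᵥ y - y) := by
  classical
  have h1 : ∀ j : ℕ, (w - 1) ^ (j + 1) *ᵥ v = w *ᵥ ((w - 1) ^ j *ᵥ v) - (w - 1) ^ j *ᵥ v := fun j => by
    rw [pow_succ', ← mulVec_mulVec, sub_mulVec, one_mulVec]
  have h2 : ∀ j : ℕ, Vv l c B 1 ((w - 1) ^ j *ᵥ v) := fun j => by
    induction j with
    | zero => rwa [pow_zero, one_mulVec]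
    | succ j ih => exact h1 j ▸ stab' k ih
  have h3 : ∃ j : ℕ, Dz l ((w - 1) ^ j *ᵥ v) := ⟨l, by
    obtain ⟨r, hr⟩ := (Commute.one_right (w - 1)).exists_add_pow_prime_eq hl
    rw [sub_add_cancel, one_pow, mul_one, mul_assoc, ← nsmul_eq_mul] at hr
    have h4 := dz_mv (k.nm 1 v hv) (w - 1)
    rw [← sum_mulVec, mulVec_mulVec, mul_geom_sum, hr, pow_one, add_right_comm, add_sub_cancel_right, add_mulVec,
      smul_mulVec, ← natCast_zsmul] at h4
    exact dz_lin1 h4 1 (-(((w - 1) * r) *ᵥ v)) (by module)⟩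
  obtain ⟨j, hj⟩ := Nat.exists_eq_succ_of_ne_zero (n := Nat.find h3) fun e =>
    h0 (by simpa [e] using Nat.find_spec h3)
  exact ⟨_, h2 j, Nat.find_min h3 (by omega), by rw [← h1, ← Nat.succ_eq_add_one, ← hj]; exact Nat.find_spec h3⟩

theorem kc_zero (h : ∀ μ, KK l c C B μ → μ ∈ RR C) : Kc l c C B := kc_triv hl fun v hv => by
  by_contra h0
  obtain ⟨y, h1, h2, h3⟩ := fixv hl k hv h0
  obtain ⟨u, hu⟩ := dz_iff.1 h3
  exact h2 (inj k h1 hu (h u (io hl k h1 hu)))

/-- **COUNT** -/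
theorem kc_of (hA : Au C d B) {N : ℤ} (hN : N ≠ 0) (hE : Ex C N) (hi : ∀ v, c • (B *ᵥ v) - v = 0 → v = 0)
    (hF : ∀ v, Vv l c B 1 v → Dz l (w *ᵥ v - v)) (hL : ∀ v, Vv l c B 2 v → Dz l v) : Kc l c C B := by
  have l0 : (l : ℤ) ≠ 0 := Int.natCast_ne_zero.2 hl.ne_zero
  let R := (RR C).toAddSubgroup
  have : Finite ((I → ℤ) ⧸ R) := Module.finite_of_fg_torsion (M := (I → ℤ) ⧸ RR C) fun q => by
    obtain ⟨v, rfl⟩ := Submodule.Quotient.mk_surjective _ q
    exact ⟨⟨N, mem_nonZeroDivisors_of_ne_zero hN⟩, (Submodule.Quotient.mk_eq_zero _).2 (mem_RR.2 (hE v))⟩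
  let φ : (I → ℤ) →+ (I → ℤ) := (c • B.mulVecLin - LinearMap.id : (I → ℤ) →ₗ[ℤ] (I → ℤ)).toAddMonoidHom
  have hφ : ∀ v, φ v = c • (B *ᵥ v) - v := fun _ => rfl
  let L : AddSubgroup (I → ℤ) :=
    { carrier := {v | Vv l c B 1 v}
      add_mem' := fun hx hy => by simpa using vv_lin hx hy 1 1
      zero_mem' := fun i => by simp
      neg_mem' := fun hx => by simpa using vv_lin hx hx (-1) 0 }
  have dv : ∀ g : (I → ℤ) →+ (I → ℤ), (∀ v ∈ L, Dz l (g v)) → ∃ g' : L →+ (I → ℤ), ∀ v : L, g v = (l : ℤ) • g' v :=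
    fun g hg => by
      choose t ht using fun v : L => dz_iff.1 (hg v v.2)
      exact ⟨AddMonoidHom.mk' t fun x y => smul_right_injective _ l0 (by
        show (l : ℤ) • _ = (l : ℤ) • _
        rw [smul_add, ← ht, ← ht, ← ht, ← map_add]; rfl), ht⟩
  obtain ⟨g₁, h1⟩ := dv (AddMonoidHom.mk' (fun v => w *ᵥ v - v) fun x y => by rw [mulVec_add]; abel) hF
  obtain ⟨g₂, h2⟩ := dv φ fun v hv => vv1.1 hv
  let f := QuotientAddGroup.map R R φ fun v hv => sub_mem ((RR C).smul_mem c (au_rr hA hv)) hv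
  have h3 : ∀ v : L, ((QuotientAddGroup.mk' R).comp g₁) v = 0 → Dz l v.1 := fun v hv =>
    inj k v.2 (h1 v) ((QuotientAddGroup.eq_zero_iff _).1 hv)
  have h4 := count hl f ((QuotientAddGroup.mk' R).comp g₁)
    ((QuotientAddGroup.mk' f.range).comp ((QuotientAddGroup.mk' R).comp g₂))
    (fun v => (QuotientAddGroup.eq_zero_iff _).2 (io hl k v.2 (h1 v)).2)
    (fun v => (QuotientAddGroup.eq_zero_iff _).2 (show l • g₁ v ∈ RR C by
      rw [← natCast_zsmul]; exact (io hl k v.2 (h1 v)).1)) (fun v hv => by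
      obtain ⟨u, hu⟩ := dz_iff.1 (h3 v hv)
      refine (QuotientAddGroup.eq_zero_iff _).2 ⟨u, congrArg QuotientAddGroup.mk (smul_right_injective _ l0 ?_)⟩
      show (l : ℤ) • _ = (l : ℤ) • _
      rw [← h2, hu, map_zsmul]) fun q => by
      obtain ⟨q, rfl⟩ := QuotientAddGroup.mk_surjective q
      obtain ⟨μ, rfl⟩ := QuotientAddGroup.mk_surjective q
      have a1 : ∀ v, (c • B - 1) *ᵥ v = c • (B *ᵥ v) - v := fun v => by rw [sub_mulVec, smul_mulVec, one_mulVec]
      have a2 : (c • B - 1).det ≠ 0 := fun e => by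
        obtain ⟨v, a2, a3⟩ := exists_mulVec_eq_zero_iff.2 e
        exact a2 (hi v (a1 v ▸ a3))
      obtain ⟨a, s, a3, a4⟩ := WfDvdMonoid.max_power_factor a2 (Nat.prime_iff_prime_int.1 hl).irreducible
      have a5 : φ ((l : ℤ) • ((c • B - 1).adjugate *ᵥ μ)) = (l : ℤ) ^ (1 + a) • s • μ := by
        rw [map_zsmul, hφ, ← a1, mulVec_mulVec, mul_adjugate, smul_mulVec, one_mulVec, a4, pow_add]
        module
      obtain ⟨y, hy⟩ := dz_iff.1 (el_up hl (k := 1) hL a _ (dz_iff.2 ⟨_, a5⟩))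
      have a6 : φ y = (l : ℤ) • s • μ := smul_right_injective _ (pow_ne_zero a l0) (by
        show (l : ℤ) ^ a • _ = (l : ℤ) ^ a • _
        rw [← map_zsmul, ← hy, a5, pow_add]
        module)
      refine ⟨s, a3, ⟨y, vv1.2 (dz_iff.2 ⟨_, a6⟩)⟩, ?_⟩
      exact congrArg (fun t => QuotientAddGroup.mk (QuotientAddGroup.mk t))
        (smul_right_injective _ l0 ((h2 ⟨y, vv1.2 (dz_iff.2 ⟨_, a6⟩)⟩).symm.trans a6))
  intro e v β hv
  rcases e with _ | e
  · exact fun i => by rw [pow_zero]; exact one_dvd _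
  obtain ⟨y, rfl⟩ := dz_iff.1 (el_up hl (k := 1) hL e v (by rw [add_comm]; exact dz_iff.2 ⟨_, hv⟩))
  have a1 : φ y = (l : ℤ) • (β ᵥ* C) := smul_right_injective _ (pow_ne_zero e l0) (by
    show (l : ℤ) ^ e • _ = (l : ℤ) ^ e • _
    rw [← map_zsmul, hφ, hv, pow_succ, mul_smul])
  have a2 : y ∈ L := vv1.2 (dz_iff.2 ⟨_, a1⟩)
  obtain ⟨y', rfl⟩ := dz_iff.1 (h3 ⟨y, a2⟩ (h4 (by
    have a3 : g₂ ⟨y, a2⟩ = β ᵥ* C := smul_right_injective _ l0 ((h2 ⟨y, a2⟩).symm.trans a1)
    rw [AddMonoidHom.mem_ker, AddMonoidHom.comp_apply, AddMonoidHom.comp_apply, a3,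
      show QuotientAddGroup.mk' R (β ᵥ* C) = 0 from (QuotientAddGroup.eq_zero_iff _).2 (rr_self β), map_zero])))
  exact dz_iff.2 ⟨y', by rw [smul_smul, pow_succ]⟩

theorem not_rk (h1 : (l : ℤ) ∣ c - 1) (h : R1 l c C B) (hF : ∀ v, Vv l c B 1 v → Dz l (w *ᵥ v - v)) : ¬ Rk l B 2 := by
  rintro ⟨f, a1, a2⟩
  have a3 := fun i => (vv_c (by rwa [pow_one])).2 (a1 i)
  obtain ⟨a, a', a4, a5⟩ := dep hl k h (a3 0) (a3 1) (hF _ (a3 0)) (hF _ (a3 1))
  have a6 := a2 ![a, a'] (by rw [Fin.sum_univ_two]; exact a5)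
  exact a4 ⟨a6 0, a6 1⟩

theorem fixed (h1 : (l : ℤ) ∣ c - 1) (h : ¬ Rk l B 2) (hv : Vv l c B 1 v) : Dz l (w *ᵥ v - v) := by
  by_cases h0 : Dz l v
  · exact dz_lin (dz_mv h0 w) h0 1 (-1) 0 (by module)
  obtain ⟨y, a1, a2, a3⟩ := fixv hl k hv h0
  by_contra a4
  refine h ⟨![y, v], fun i => (vv_c (c := c) (by rwa [pow_one])).1 (by fin_cases i; exacts [a1, hv]), fun a ha => ?_⟩
  have a5 : Dz l (a 0 • y + a 1 • v) := by rw [Fin.sum_univ_two] at ha; exact ha
  have a6 : (l : ℤ) ∣ a 1 := by_contra fun a6 => a4 (dz_unit hl a6 (dz_lin (dz_lin (v := w *ᵥ (a 0 • y + a 1 • v) -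
    (a 0 • y + a 1 • v)) (dz_mv a5 w) a5 1 (-1) 0 (by module)) a3 1 (-a 0) 0 (by
      rw [mulVec_add, mulVec_smul, mulVec_smul]; module)))
  obtain ⟨t, ht⟩ := a6
  exact Fin.forall_fin_two.2 ⟨by_contra fun a6 => a2 (dz_unit hl a6 (dz_lin1 a5 1 (-t • v) (by rw [ht]; module))), t, ht⟩

theorem el_odd (h2 : l ≠ 2) (hF : ∀ v, Vv l c B 1 v → Dz l (w *ᵥ v - v)) (hv : Vv l c B 2 v) : Dz l v := by
  obtain ⟨u, hu⟩ := dz_iff.1 (hF v (vv_mono one_le_two hv))
  obtain ⟨t, ht⟩ := dz_iff.1 (hF u (vv_div (k := 1) hl (by rw [pow_one, ← hu]; exact stab' k hv)))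
  have a1 : ∀ i : ℕ, Dz ((l : ℤ) ^ 2) ((w ^ i) *ᵥ v - (v + ((i : ℤ) * l) • u)) := fun i => by
    induction i with
    | zero => exact fun j => by simp
    | succ i ih =>
      refine dz_lin1 (dz_mv ih w) 1 ((i : ℤ) • t) ?_
      rw [pow_succ', ← mulVec_mulVec, mulVec_sub, mulVec_add, mulVec_smul]
      push_cast
      linear_combination (norm := module) hu + ((i : ℤ) * l) • ht
  have a2 : Dz ((l : ℤ) ^ 2) (∑ i ∈ Finset.range l, ((w ^ i) *ᵥ v - (v + ((i : ℤ) * l) • u))) := fun j => by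
    rw [Finset.sum_apply]
    exact Finset.dvd_sum fun i _ => a1 i j
  obtain ⟨m, hm⟩ := hl.odd_of_ne_two h2
  have a3 : ∑ i ∈ Finset.range l, (i : ℤ) = l * m := by
    have := Finset.sum_range_id_mul_two l
    rw [show l - 1 = m * 2 by omega, ← mul_assoc] at this
    rw [← Nat.cast_sum, mul_right_cancel₀ two_ne_zero this, Nat.cast_mul]
  rw [Finset.sum_sub_distrib, Finset.sum_add_distrib, ← Finset.sum_smul, ← Finset.sum_mul, a3, Finset.sum_const,
    Finset.card_range, ← natCast_zsmul] at a2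
  refine dz_cancel (Int.natCast_ne_zero.2 hl.ne_zero) ?_
  rw [← pow_two]
  exact dz_lin (k.nm 2 v hv) a2 1 (-1) (-(m : ℤ) • u) (by module)

omit hl k in
theorem three (k : Kd 3 c C B w) (h : R1 3 c C B) {z : I → ℤ} (hx : Vv 3 c B 1 x) (hy : Vv 3 c B 1 y) (hz : Vv 3 c B 1 z)
    (hi : ∀ a b t : ℤ, Dz (3 : ℕ) (a • x + b • y + t • z) → ((3 : ℕ) : ℤ) ∣ a ∧ ((3 : ℕ) : ℤ) ∣ b ∧ ((3 : ℕ) : ℤ) ∣ t) :
    False := by
  have a1 : ∀ {v}, Vv 3 c B 1 v → Dz (3 : ℕ) (w *ᵥ (w *ᵥ v - v) - (w *ᵥ v - v)) := fun {v} hv => by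
    have := k.nm 1 v hv
    simp only [Finset.sum_range_succ, Finset.sum_range_zero, pow_zero, pow_one, pow_two, ← mulVec_mulVec, one_mulVec] at this
    exact dz_lin1 this 1 (-(w *ᵥ v)) (by rw [mulVec_sub]; push_cast; module)
  have a2 : ∀ {u v}, Vv 3 c B 1 u → Vv 3 c B 1 v → ∃ a a' : ℤ, ¬ (((3 : ℕ) : ℤ) ∣ a ∧ ((3 : ℕ) : ℤ) ∣ a') ∧
      Dz (3 : ℕ) (w *ᵥ (a • u + a' • v) - (a • u + a' • v)) := fun {u v} hu hv => by
    obtain ⟨a, a', b1, b2⟩ := dep Nat.prime_three k h (stab' k hu) (stab' k hv) (a1 hu) (a1 hv)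
    exact ⟨a, a', b1, dz_lin1 b2 1 0 (by rw [mulVec_add, mulVec_smul, mulVec_smul]; module)⟩
  have a3 : ∀ {x y : I → ℤ}, Vv 3 c B 1 x → Vv 3 c B 1 y → (∀ a b t : ℤ, Dz (3 : ℕ) (a • x + b • y + t • z) →
      ((3 : ℕ) : ℤ) ∣ a ∧ ((3 : ℕ) : ℤ) ∣ b ∧ ((3 : ℕ) : ℤ) ∣ t) → ∀ a a' : ℤ,
      Dz (3 : ℕ) (w *ᵥ (a • x + a' • y) - (a • x + a' • y)) → ((3 : ℕ) : ℤ) ∣ a := fun {x y} hx hy hi a a' b1 => by
    obtain ⟨b, b', b2, b3⟩ := a2 hy hz
    obtain ⟨p, q, b4, b5⟩ := dep Nat.prime_three k h (vv_lin hx hy a a') (vv_lin hy hz b b') b1 b3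
    obtain ⟨b6, b7, b8⟩ := hi (p * a) (p * a' + q * b) (q * b') (dz_lin1 b5 1 0 (by module))
    have b9 := Nat.prime_iff_prime_int.1 Nat.prime_three
    refine (b9.dvd_or_dvd b6).resolve_left fun c1 => b4 ⟨c1, by_contra fun c2 => b2 ⟨?_, ?_⟩⟩
    · exact (b9.dvd_or_dvd ((dvd_add_right (c1.mul_right a')).1 b7)).resolve_left c2
    · exact (b9.dvd_or_dvd b8).resolve_left c2
  obtain ⟨a, a', b1, b2⟩ := a2 hx hy
  exact b1 ⟨a3 hx hy hi a a' b2, a3 hy hx (fun a b t e => by
    obtain ⟨c1, c2, c3⟩ := hi b a t (by rwa [add_comm (b • x)])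
    exact ⟨c2, c1, c3⟩) a' a (by rwa [add_comm])⟩

end kd

theorem sym_of {m : ℕ} {t : ℕ → ℕ → ℤ} (ht : ∀ i j, t i j = t j i) (h : Ty C m t) (i j : I) : C i j = C j i := by
  obtain ⟨e, he⟩ := h
  obtain ⟨i, rfl⟩ := e.surjective i
  obtain ⟨j, rfl⟩ := e.surjective j
  rw [he, he, ht]

theorem cA_symm (i j : ℕ) : cA i j = cA j i := by
  unfold cA
  exact if_congr eq_comm rfl (if_congr or_comm rfl rfl)

theorem cT_symm (a m i j : ℕ) : cT a m i j = cT a m j i := by
  unfold cT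
  exact if_congr eq_comm rfl (if_congr (by tauto) rfl rfl)

theorem one_of [Nonempty I] (hC : Car C d) (hc : ∀ i j, Cp C i j) (hs : ∀ i j, C i j = C j i) (hA : Au C d B) :
    Car C 1 ∧ Au C 1 B := by
  obtain ⟨i₀⟩ := ‹Nonempty I›
  have a1 : ∀ i, d i = d i₀ := fun i => by
    induction hc i₀ i with
    | refl => rfl
    | tail _ h ih => exact (mul_right_cancel₀ h ((hC.sym _ _).trans (by rw [hs]))).trans ih
  have a2 : ∀ β v : I → ℤ, ∑ i, β i * d i * v i = d i₀ * ∑ i, β i * (1 : I → ℤ) i * v i := fun β v => by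
    rw [Finset.mul_sum]
    exact Finset.sum_congr rfl fun i _ => by rw [a1 i, Pi.one_apply]; ring
  refine ⟨⟨hC.diag, hC.off, fun _ => one_pos, fun i j => by rw [hs]; rfl, fun β hβ => ?_⟩, hA.fin, fun β => ?_⟩
  · exact (mul_pos_iff_of_pos_left (hC.dpos i₀)).1 (a2 β _ ▸ hC.pos β hβ)
  · obtain ⟨β', e1, e2⟩ := hA.iso β
    exact ⟨β', e1, fun v => mul_left_cancel₀ (hC.dpos i₀).ne' (by rw [← a2, ← a2, e2])⟩

theorem vm_inj (hC : Car C d) {β : I → ℤ} (h : β ᵥ* C = 0) : β = 0 := by_contra fun h0 => by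
  simpa [h] using hC.pos β h0

theorem phi_inj (hA : Au C d B) (hE : Ell B) (h2 : c ≠ -1)
    (hv : c • (B *ᵥ v) - v = 0) : v = 0 := by
  obtain ⟨m, a1, a2⟩ := hA.fin
  have a3 : ∀ j : ℕ, c ^ j • ((B ^ j) *ᵥ v) = v := fun j => by
    induction j with
    | zero => simp
    | succ j ih =>
      rw [pow_succ, pow_succ B, ← mulVec_mulVec, mul_smul, ← mulVec_smul, sub_eq_zero.1 hv, ih]
  have a4 := a3 m
  rw [a2, one_mulVec] at a4
  by_contra h0
  rcases Int.isUnit_iff.1 (IsUnit.of_pow_eq_one (smul_left_injective ℤ h0 (a4.trans (one_smul ℤ v).symm)) a1.ne') with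
    rfl | rfl
  · exact h0 (hE v (by simpa [sub_eq_zero] using hv))
  · exact h2 rfl

/-- the sign of `c` -/
theorem sign (hl : l.Prime) (hC : Car C 1) (hs : ∀ i j, C i j = C j i) (hA : Au C 1 B) {μ₀ μ : I → ℤ} (hG : G2 C μ₀ 0)
    (hμ : KK l c C B μ) (h0 : μ ∉ RR C) : (l : ℤ) ∣ c - 1 ∨ (l : ℤ) ∣ c + 1 := by
  have hp := Nat.prime_iff_prime_int.1 hl
  obtain ⟨β, hβ⟩ := mem_RR.1 hμ.1
  obtain ⟨γ, hγ⟩ := mem_RR.1 hμ.2
  obtain ⟨β', a1, a2⟩ := hA.iso β
  simp only [Pi.one_apply, mul_one] at a2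
  have a3 : ∀ v, β' ⬝ᵥ (B *ᵥ v) = β ⬝ᵥ v := a2
  have a4 : ∀ γ, β ⬝ᵥ (γ ᵥ* C) = l * (μ ⬝ᵥ γ) := fun γ => by
    rw [← mulVec_transpose, show Cᵀ = C from Matrix.ext fun i j => hs j i, dotProduct_mulVec, ← hβ, smul_dotProduct,
      smul_eq_mul]
  have a5 : c • β' = β + (l : ℤ) • γ := sub_eq_zero.1 (vm_inj hC (by
    rw [sub_vecMul, add_vecMul, smul_vecMul, smul_vecMul, ← a1, ← hβ, ← hγ, mulVec_smul]
    module))
  obtain ⟨t, _, γ₀, a6⟩ := hG (B *ᵥ μ₀)
  obtain ⟨a, _, γ₁, a7⟩ := hG μ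
  have a8 : ¬ (l : ℤ) ∣ β ⬝ᵥ μ₀ := fun ⟨m, hm⟩ => h0 (by
    obtain ⟨β'', rfl⟩ := dz_iff.1 (show Dz l β from fun i => by
      obtain ⟨a, _, γ, e⟩ := hG (Pi.single i 1)
      have := congrArg (β ⬝ᵥ ·) e
      simp only [dotProduct_single, dotProduct_add, dotProduct_smul, smul_zero, dotProduct_zero, a4, hm] at this
      exact ⟨a * m + μ ⬝ᵥ γ, by linear_combination this⟩)
    rw [smul_vecMul] at hβ
    exact mem_RR.2 ⟨β'', smul_right_injective _ hp.ne_zero hβ⟩)
  have b1 : (l : ℤ) ∣ c - t := (hp.dvd_or_dvd (show (l : ℤ) ∣ (c - t) * (β ⬝ᵥ μ₀) from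
    ⟨μ ⬝ᵥ γ₀ + γ ⬝ᵥ (B *ᵥ μ₀), by
      have e1 := congrArg (· ⬝ᵥ (B *ᵥ μ₀)) a5
      have e2 := congrArg (β ⬝ᵥ ·) a6
      simp only [smul_dotProduct, add_dotProduct, a3, dotProduct_add, dotProduct_smul, smul_zero, dotProduct_zero, a4,
        smul_eq_mul] at e1 e2
      linear_combination e1 + e2⟩)).resolve_right a8
  have b2 : (l : ℤ) ∣ c * t - 1 := by_contra fun b2 => h0 (rr_unit hl b2 hμ.1 (by
    have e1 := congrArg (B *ᵥ ·) a7
    simp only [mulVec_add, mulVec_smul, smul_zero, add_zero] at e1 a6 a7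
    exact rr_lin hμ.2 (add_mem ((RR C).smul_mem a (rr_self γ₀)) (au_rr hA (rr_self γ₁))) (rr_self γ₁) 1 (-c) (c * t) (by
      linear_combination (norm := module) (-c) • e1 - (c * a) • a6 + (c * t) • a7)))
  exact hp.dvd_or_dvd (show (l : ℤ) ∣ (c - 1) * (c + 1) by
    rw [show (c - 1) * (c + 1) = c * (c - t) + (c * t - 1) by ring]
    exact dvd_add (b1.mul_left c) b2)

theorem neg_mv (v : I → ℤ) : (-c) • ((-B) *ᵥ v) = c • (B *ᵥ v) := by rw [neg_mulVec, neg_smul_neg]

theorem au_neg (h : Au C d B) : Au C d (-B) := by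
  obtain ⟨m, a1, a2⟩ := h.fin
  refine ⟨⟨2 * m, by omega, by rw [pow_mul, neg_sq, ← pow_mul, mul_comm, pow_mul, a2, one_pow]⟩, fun β => ?_⟩
  obtain ⟨β', e1, e2⟩ := h.iso β
  exact ⟨-β', by rw [neg_mulVec, neg_vecMul, e1], fun v => by rw [← e2, neg_mulVec]; simp⟩

theorem kd_neg (k : Kd l c C B w) : Kd l (-c) C (-B) w := by
  have h : ∀ e v, Vv l (-c) (-B) e v → Vv l c B e v := fun e v hv => by rwa [Vv, neg_mv] at hv
  refine ⟨k.wr, fun e v hv => k.nm e v (h e v hv), fun e v β hv => k.dl e v β (h e v hv), fun e v hv => ?_, ?_⟩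
  · obtain ⟨β, hβ⟩ := k.fw e v (h e v hv)
    exact ⟨-β, by rw [neg_mulVec, neg_mulVec, mulVec_neg, neg_vecMul]; linear_combination (norm := module) -hβ⟩
  · simpa only [neg_mv] using k.el

/-- `l = 2`, simply laced, rank one -/
theorem el_alt (hAlt : BoxAlt) (hC : Car C 1) (hA : Au C 1 B) (hE : Ell B) (k : Kd 2 c C B w) (h1 : 4 ∣ c - 1) {N : ℤ}
    (hN : N ≠ 0) (hX : Ex C N) (h : ¬ Rk 2 B 2) (hv : Vv 2 c B 2 v) : Dz (2 : ℕ) v := by
  have a1 := hAlt C B 2 Nat.prime_two hC hA hE h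
  obtain ⟨s, a2, a3⟩ := k.el
  obtain ⟨m, hm⟩ := id h1
  obtain ⟨μ, hμ⟩ := dz_iff.1 ((vv_c (by simpa using h1)).1 hv)
  have a4 : ∀ j : ℕ, ∃ β ν ν', (s ^ j * 2) • μ = β ᵥ* C + (B *ᵥ ν - ν) + (2 ^ j * 2 : ℤ) • ν' := fun j => by
    induction j with
    | zero => exact ⟨0, 0, μ, by simp⟩
    | succ j ih =>
      obtain ⟨β, ν, ν', e⟩ := ih
      obtain ⟨β₁, ν₁, e1⟩ := a3 ν'
      refine ⟨s • β + (2 ^ j : ℤ) • β₁, s • ν + (2 ^ j : ℤ) • ν₁, m • (B *ᵥ ν₁), ?_⟩
      rw [add_vecMul, smul_vecMul, smul_vecMul, mulVec_add, mulVec_smul, mulVec_smul, pow_succ, pow_succ]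
      push_cast at e1
      linear_combination (norm := module) s • e + (2 ^ j : ℤ) • e1 + (2 ^ j : ℤ) • hm • (B *ᵥ ν₁)
  obtain ⟨j, n', a5, rfl⟩ := WfDvdMonoid.max_power_factor hN (Nat.prime_iff_prime_int.1 Nat.prime_two).irreducible
  obtain ⟨β, ν, ν', e⟩ := a4 j
  obtain ⟨γ, e1⟩ := hX ν'
  have hp := Nat.prime_iff_prime_int.1 Nat.prime_two
  have a6 := a1 1 ((n' * s ^ j) • v - (2 * n') • ν) (n' • β + (2 : ℤ) • γ) (by
    rw [add_vecMul, smul_vecMul, smul_vecMul, mulVec_sub, mulVec_smul, mulVec_smul]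
    push_cast at e1 hμ ⊢
    linear_combination (norm := module) (n' * s ^ j) • hμ + (2 * n') • e + (4 : ℤ) • e1)
  rw [pow_one] at a6
  exact dz_unit Nat.prime_two (a := n' * s ^ j) (fun e => (hp.dvd_or_dvd e).elim a5 fun e => a2 (hp.dvd_of_dvd_pow e))
    (dz_lin1 a6 1 (n' • ν) (by push_cast; module))

theorem el_kb (k : Kd 2 c C B w) (hX : Ex C 2) (hv : Vv 2 c B 2 v) (h : Dz 2 v ∨ ∃ β, v = β ᵥ* C) : Dz (2 : ℕ) v := by
  rcases h with h | h
  · exact h
  have a1 := k.nm 2 v hv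
  simp only [Finset.sum_range_succ, Finset.sum_range_zero, pow_zero, pow_one, one_mulVec] at a1
  obtain ⟨ν, hν⟩ := dz_iff.1 a1
  exact inj k (u := (2 : ℤ) • ν - v) (vv_mono one_le_two hv) (by push_cast at hν ⊢; linear_combination (norm := module) hν)
    (sub_mem (mem_RR.2 (hX ν)) (mem_RR.2 h))

theorem r1_even (hA : Au C d B) (h1 : 2 ∣ c - 1) (hX : Ex C 2) {μ₀ μ₁ : I → ℤ} (hG : G2 C μ₀ μ₁) (hT : ¬ Tv 2 C B) :
    R1 2 c C B := fun μ μ' hμ hμ' => by
  have a0 : ∀ v, (2 : ℤ) • v ∈ RR C := fun v => mem_RR.2 (hX v)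
  obtain ⟨m, hm⟩ := h1
  have a1 : ∀ {μ}, KK 2 c C B μ → B *ᵥ μ - μ ∈ RR C := fun {μ} h =>
    rr_lin h.2 (a0 (B *ᵥ μ)) h.2 1 (-m) 0 (by linear_combination (norm := module) (-hm) • (B *ᵥ μ))
  have a2 : ∀ v ∈ RR C, B *ᵥ v - v ∈ RR C := fun v hv => sub_mem (au_rr hA hv) hv
  obtain ⟨a, b, β, e⟩ := hG μ
  obtain ⟨a', b', β', e'⟩ := hG μ'
  have a3 : ∀ x y : ℤ, 2 ∣ x * a + y * a' → 2 ∣ x * b + y * b' → x • μ + y • μ' ∈ RR C := by
    rintro x y ⟨p, hp⟩ ⟨q, hq⟩
    exact rr_lin (a0 (p • μ₀ + q • μ₁)) (rr_self β) (rr_self β') 1 x y (by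
      linear_combination (norm := module) x • e + y • e' + hp • μ₀ + hq • μ₁)
  by_cases c1 : 2 ∣ a * b' - a' * b
  · by_cases c2 : 2 ∣ a ∧ 2 ∣ a'
    · by_cases c3 : 2 ∣ b ∧ 2 ∣ b'
      · exact ⟨1, 0, by omega, a3 1 0 (by omega) (by omega)⟩
      · exact ⟨b', -b, by omega, a3 b' (-b) (by rw [show b' * a + -b * a' = a * b' - a' * b by ring]; exact c1) ⟨0, by ring⟩⟩
    · exact ⟨a', -a, by omega, a3 a' (-a) ⟨0, by ring⟩ (by rw [show a' * b + -a * b' = -(a * b' - a' * b) by ring]; exact dvd_neg.2 c1)⟩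
  obtain ⟨t, ht⟩ : ∃ t, a * b' - a' * b = 2 * t + 1 := ⟨(a * b' - a' * b) / 2, by omega⟩
  have a4 : ∀ (x y : ℤ) (v : I → ℤ), v - (x • μ + y • μ') ∈ RR C → B *ᵥ v - v ∈ RR C := fun x y v hv =>
    rr_lin (a2 _ hv) (a1 hμ) (a1 hμ') 1 x y (by rw [mulVec_sub, mulVec_add, mulVec_smul, mulVec_smul]; module)
  have a5 := a4 b' (-b) μ₀ (rr_lin (a0 μ₀) (rr_self β) (rr_self β') (-t) (-b') b (by
    linear_combination (norm := module) (-b') • e + b • e' - ht • μ₀))
  have a6 := a4 (-a') a μ₁ (rr_lin (a0 μ₁) (rr_self β) (rr_self β') (-t) a' (-a) (by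
    linear_combination (norm := module) a' • e - a • e' - ht • μ₁))
  refine (hT fun ν _ _ => mem_RR.1 ?_).elim
  obtain ⟨x, y, γ, rfl⟩ := hG ν
  exact rr_lin a5 a6 (a2 _ (rr_self γ)) x y 1 (by rw [mulVec_add, mulVec_add, mulVec_smul, mulVec_smul]; module)

theorem tv_of (hl : l.Prime) (hA : Au C d B) (h1 : (l : ℤ) ∣ c - 1) {μ₀ μ : I → ℤ} (hG : G2 C μ₀ 0)
    (hμ : KK l c C B μ) (h0 : μ ∉ RR C) : Tv l C B := fun ν β hν => by
  obtain ⟨m, hm⟩ := h1
  obtain ⟨a, a', a1, a2⟩ := cyc_dep hl hG μ ν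
  have a3 : (l : ℤ) • ν ∈ RR C := hν ▸ rr_self β
  have a4 : ¬ (l : ℤ) ∣ a' := fun ⟨t, ht⟩ => h0 (rr_unit hl (fun e => a1 ⟨e, t, ht⟩) hμ.1
    (rr_lin a2 a3 a3 1 (-t) 0 (by rw [ht]; module)))
  refine mem_RR.1 (rr_unit hl a4 (by rw [smul_sub, ← mulVec_smul]; exact sub_mem (au_rr hA a3) a3)
    (rr_lin (sub_mem (au_rr hA a2) a2) hμ.2 (au_rr hA hμ.1) 1 (-a) (a * m) ?_))
  rw [mulVec_add, mulVec_smul, mulVec_smul, mulVec_smul]
  linear_combination (norm := module) (a * hm) • (B *ᵥ μ)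

/-- the shapes -/
theorem shape [Nonempty I] (hCl : BoxCl) (hOm : BoxOm) (hC : Car C d) (hc : ∀ i j, Cp C i j) (hl : l.Prime) {μ : I → ℤ}
    (hμ : (l : ℤ) • μ ∈ RR C) (h0 : μ ∉ RR C) : (∃ N, N ≠ 0 ∧ Ex C N) ∧
    (((∀ i j, C i j = C j i) ∧ (∃ μ₀, G2 C μ₀ 0) ∧
      (l = 2 ∨ (∃ m, l ∣ m + 1 ∧ Ty C m cA) ∨ (l = 3 ∧ Ty C 6 (cT 2 6)))) ∨
    (l = 2 ∧ Ex C 2 ∧ ∃ m, (2 ≤ m ∧ Ty C m (cB m)) ∨ (2 ≤ m ∧ Ty C m (cC m)) ∨
      (4 ≤ m ∧ Even m ∧ Ty C m (cT (m - 3) m) ∧ ∃ μ₀ μ₁, G2 C μ₀ μ₁))) := by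
  have a1 : ∀ N : ℕ, Ex C N → l ∣ N := fun N hN => by_contra fun e =>
    h0 (rr_unit hl (fun e' => e (Int.natCast_dvd_natCast.1 e')) hμ (mem_RR.2 (hN μ)))
  have a2 : Ex C 2 → l = 2 := fun e => (Nat.prime_dvd_prime_iff_eq hl Nat.prime_two).1 (a1 2 e)
  rcases hCl C d hC hc with ⟨m, h⟩ | ⟨m, h1, h⟩ | ⟨m, h1, h⟩ | ⟨m, h1, h⟩ | h | h | h
  · obtain ⟨b1, b2⟩ := hOm.a C m h
    exact ⟨⟨_, by omega, b1⟩, Or.inl ⟨sym_of cA_symm h, b2, Or.inr (Or.inl ⟨m, a1 (m + 1) (by exact_mod_cast b1), h⟩)⟩⟩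
  · have b1 := hOm.b C m h1 (Or.inl h)
    exact ⟨⟨_, two_ne_zero, b1⟩, Or.inr ⟨a2 b1, b1, m, Or.inl ⟨h1, h⟩⟩⟩
  · have b1 := hOm.b C m h1 (Or.inr h)
    exact ⟨⟨_, two_ne_zero, b1⟩, Or.inr ⟨a2 b1, b1, m, Or.inr (Or.inl ⟨h1, h⟩)⟩⟩
  · obtain ⟨b1, b2, b3⟩ := hOm.d C m h1 h
    refine ⟨⟨_, four_ne_zero, b1⟩, ?_⟩
    rcases Nat.even_or_odd m with b4 | b4
    · exact Or.inr ⟨a2 (b3 b4).1, (b3 b4).1, m, Or.inr (Or.inr ⟨h1, b4, h, (b3 b4).2⟩)⟩
    · exact Or.inl ⟨sym_of (cT_symm _ _) h, b2 b4, Or.inl ((Nat.prime_dvd_prime_iff_eq hl Nat.prime_two).1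
        (hl.dvd_of_dvd_pow (n := 2) (a1 4 b1)))⟩
  · obtain ⟨b1, b2⟩ := hOm.e6 C h
    exact ⟨⟨_, three_ne_zero, b1⟩, Or.inl ⟨sym_of (cT_symm _ _) h, b2, Or.inr (Or.inr
      ⟨(Nat.prime_dvd_prime_iff_eq hl Nat.prime_three).1 (a1 3 b1), h⟩)⟩⟩
  · obtain ⟨b1, b2⟩ := hOm.e7 C h
    exact ⟨⟨_, two_ne_zero, b1⟩, Or.inl ⟨sym_of (cT_symm _ _) h, b2, Or.inl (a2 b1)⟩⟩
  · exact (hl.one_lt.ne' (Nat.dvd_one.1 (a1 1 h))).elim

theorem core [Nonempty I] (hCl : BoxCl) (hOm : BoxOm) (hAlt : BoxAlt) (hKA : BoxKA) (hKE : BoxKE) (hKB : BoxKB)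
    (hl : l.Prime) (hC : Car C d) (hc : ∀ i j, Cp C i j) (hA : Au C d B) (h1 : lm l ∣ c - 1) (hE : Ell B) (k : Kd l c C B w)
    {μ : I → ℤ} (hμ : KK l c C B μ) (h0 : μ ∉ RR C) : Kc l c C B := by
  obtain ⟨⟨N, hN, hX⟩, h⟩ := shape hCl hOm hC hc hl hμ.1 h0
  by_cases h2 : l = 2
  · subst h2
    have a0 : 4 ∣ c - 1 := h1
    have a1 : ((2 : ℕ) : ℤ) ∣ c - 1 := by omega
    have a2 : ∀ v, Vv 2 c B 1 v → Dz (2 : ℕ) (w *ᵥ v - v) := fun v hv => by
      have := k.nm 1 v hv
      simp only [Finset.sum_range_succ, Finset.sum_range_zero, pow_zero, pow_one, one_mulVec] at this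
      exact dz_lin1 this 1 (-v) (by push_cast; module)
    refine kc_of hl k hA hN hX (fun v => phi_inj hA hE (by omega)) a2 fun v hv => ?_
    have a3 : (∀ i j, C i j = C j i) → R1 2 c C B → Dz (2 : ℕ) v := fun hs hR =>
      el_alt hAlt (one_of hC hc hs hA).1 (one_of hC hc hs hA).2 hE k a0 hN hX (not_rk hl k a1 hR a2) hv
    have a4 : Vv 2 1 B 2 v := (vv_c (by simpa using a0)).1 hv
    rcases h with ⟨hs, ⟨μ₀, hG⟩, -⟩ | ⟨-, b1, m, b2 | b2 | ⟨b2, b3, b4, μ₀, μ₁, hG⟩⟩
    · exact a3 hs fun μ μ' _ _ => cyc_dep hl hG μ μ'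
    · exact el_kb k b1 hv (hKB C B d m hC hA hE (Or.inl b2) v a4)
    · exact el_kb k b1 hv (hKB C B d m hC hA hE (Or.inr (Or.inl b2)) v a4)
    · by_cases hT : Tv 2 C B
      · exact el_kb k b1 hv (hKB C B d m hC hA hE (Or.inr (Or.inr ⟨b2, b3, b4, hT⟩)) v a4)
      · exact a3 (sym_of (cT_symm _ _) b4) (r1_even hA a1 b1 hG hT)
  rw [lm, if_neg h2] at h1
  obtain ⟨hs, ⟨μ₀, hG⟩, h⟩ := h.resolve_right fun e => h2 e.1
  have a1 := (one_of hC hc hs hA).2
  have a2 := tv_of hl hA h1 hG hμ h0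
  have a3 : ¬ Rk l B 2 := by
    rcases h.resolve_left h2 with ⟨m, b1, b2⟩ | ⟨rfl, b2⟩
    · exact hKA C B l m hl h2 b1 b2 a1 hE a2
    · intro b3
      obtain ⟨f, b4, b5⟩ := hKE C B b2 a1 hE a2 b3
      have b6 := fun i => (vv_c (c := c) (by rwa [pow_one])).2 (b4 i)
      exact three k (fun μ μ' _ _ => cyc_dep hl hG μ μ') (b6 0) (b6 1) (b6 2) fun a b t e => by
        have b7 := b5 ![a, b, t] (by rw [Fin.sum_univ_three]; exact e)
        exact ⟨b7 0, b7 1, b7 2⟩
  have a4 := fun v => fixed hl k (v := v) h1 a3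
  refine kc_of hl k hA hN hX (fun v => phi_inj hA hE ?_) a4 fun v => el_odd hl k h2 a4
  rintro rfl
  exact h2 ((Nat.prime_dvd_prime_iff_eq hl Nat.prime_two).1 (Int.natCast_dvd_natCast.1 (dvd_neg.1 h1)))

end KI

open KI in
/-- **the irreducible case** -/
theorem boxKI_of (hCl : BoxCl) (hOm : BoxOm) (hAlt : BoxAlt) (hKA : BoxKA) (hKE : BoxKE) (hKB : BoxKB) : BoxKI := by
  intro I _ _ C B w d l c hl h0 hC hc hA h1 h2 k
  by_cases hK : ∀ μ, KK l c C B μ → μ ∈ RR C
  · exact kc_zero hl k hK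
  obtain ⟨μ, hμ⟩ := not_forall.1 hK
  obtain ⟨hμ, a0⟩ := Classical.not_imp.1 hμ
  have : Nonempty I := by_contra fun e => a0 (by
    rw [show μ = 0 from funext fun i => (e ⟨i⟩).elim]
    exact zero_mem _)
  have a1 : lm l ∣ c - 1 ∨ lm l ∣ c + 1 := by
    by_cases h3 : l = 2
    · subst h3
      show 4 ∣ c - 1 ∨ 4 ∣ c + 1
      omega
    obtain ⟨hs, ⟨μ₀, hG⟩, -⟩ := (shape hCl hOm hC hc hl hμ.1 a0).2.resolve_right fun e => h3 e.1
    rw [lm, if_neg h3]
    exact sign hl (one_of hC hc hs hA).1 hs (one_of hC hc hs hA).2 hG hμ a0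
  rcases a1 with a1 | a1
  · exact core hCl hOm hAlt hKA hKE hKB hl hC hc hA a1 (h1 a1) k hμ a0
  · have a2 := core hCl hOm hAlt hKA hKE hKB hl hC hc (au_neg hA) (by rwa [← neg_add', dvd_neg]) (h2 a1) (kd_neg k)
      (μ := μ) ⟨hμ.1, by rw [neg_mv]; exact hμ.2⟩ a0
    exact fun e v β hv => a2 e v β (by rwa [neg_mv])

end Cfsg.Agent.BZ.TA

private theorem dce_eafa71f28f96 : _root_.True := by
  try have : _root_.True := by simp only [_root_.Cfsg.Agent.BZ.TA.lm.eq_1]
  try have : _root_.True := by simp only [_root_.Cfsg.Agent.BZ.TA.Vv.eq_1]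
  exact _root_.True.intro
end

-- part: BZ/L/TA/KB_mg
section
prune_inst 0x62440644577a20000001c0512b22001b3b900042010400000a0060102010d4060a943a8014a20050b023214091805002002100020400000000aa4700000030120080044000300031d2e008080108a010000200080000000000000000000000000014010000
set_option linter.all false
open scoped Cfsg.Agent.FastGrp

-- part: BZ/L/TA/KB
section
/-!
# BZ / L / TA : the points of order four in the types `B`, `C`, `D` (helper90)
-/

set_option autoImplicit false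
set_option linter.unusedSectionVars false

namespace Cfsg.Agent.BZ.TA

open Matrix

namespace KB

section abs

variable {I K : Type} [Fintype I] [DecidableEq I] [Fintype K] [DecidableEq K]

/-- signed permutations without fixed vector -/
theorem core (T : Module.End ℤ (K → ℤ)) (hT : ∀ y y', T y ⬝ᵥ T y' = y ⬝ᵥ y') {N : ℕ} (hN : 0 < N) (h1 : T ^ N = 1)
    (he : ∀ y, T y = y → y = 0) {y η : K → ℤ} {m : ℤ} (h : T y - y = m • η) (k : K) : m ∣ 2 * y k := by
  have hp : ∀ j y y', (T ^ j) y ⬝ᵥ (T ^ j) y' = y ⬝ᵥ y' := fun j => by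
    induction j with
    | zero => simp
    | succ j ih => intro y y'; rw [pow_succ', Module.End.mul_apply, Module.End.mul_apply, hT, ih]
  have hm : ∀ j, ∃ η', (T ^ j) y - y = m • η' := fun j => by
    induction j with
    | zero => exact ⟨0, by simp⟩
    | succ j ih =>
      obtain ⟨η', h'⟩ := ih
      refine ⟨T η' + η, ?_⟩
      rw [pow_succ', Module.End.mul_apply, smul_add, ← map_smul, ← h', ← h, map_sub]
      abel
  obtain ⟨j, hj⟩ : ∃ j, (T ^ j) (Pi.single k 1) k < 0 := by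
    by_contra hc
    push Not at hc
    have h2 : ∑ j ∈ Finset.range N, (T ^ j) (Pi.single k 1) = 0 := he _ (by
      have k1 := (Finset.sum_range_succ' (fun j => (T ^ j) (Pi.single k 1)) N).symm.trans (Finset.sum_range_succ _ N)
      rw [h1, pow_zero, add_left_inj] at k1
      rw [map_sum, ← k1]
      exact Finset.sum_congr rfl fun j _ => by rw [← Module.End.mul_apply, ← pow_succ'])
    have h3 := congrFun h2 k
    rw [Finset.sum_apply] at h3
    have h4 := Finset.single_le_sum (f := fun j => (T ^ j) (Pi.single k 1) k) (fun j _ => hc j) (Finset.mem_range.2 hN)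
    rw [h3] at h4
    simp at h4
  have h5 : (T ^ j) (Pi.single k 1) = -Pi.single k 1 := by
    have h6 := hp j (Pi.single k 1) (Pi.single k 1)
    generalize (T ^ j) (Pi.single k 1) = z at hj h6
    rw [← add_eq_zero_iff_eq_neg, ← dotProduct_self_eq_zero]
    refine le_antisymm ?_ (Finset.sum_nonneg fun _ _ => mul_self_nonneg _)
    rw [add_dotProduct, dotProduct_add, dotProduct_add, h6, dotProduct_single, dotProduct_single, single_dotProduct,
      Pi.single_eq_same]
    omega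
  obtain ⟨η', h'⟩ := hm j
  have h7 := hp j y (Pi.single k 1)
  rw [h5, dotProduct_neg, dotProduct_single, dotProduct_single, mul_one, mul_one] at h7
  have h8 := congrFun h' k
  rw [Pi.sub_apply, Pi.smul_apply, smul_eq_mul] at h8
  exact ⟨-η' k, by linarith⟩

/-- the rows of `A` are the simple roots, the rows of `A'` are the simple coroots -/
structure Md (C : Matrix I I ℤ) (d : I → ℤ) (A A' : Matrix I K ℤ) (h g : ℤ) : Prop where
  c : ∀ β, β ᵥ* C = A *ᵥ (β ᵥ* A')
  dd : ∃ a : ℤ, a ≠ 0 ∧ ∀ i k, a * A' i k = d i * A i k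
  inj : ∀ y, A *ᵥ y = 0 → y = 0
  par : ∀ y m, Dz m (A *ᵥ y) → ∀ k k', m ∣ y k - y k'
  sur : ∀ v, ∃ y, A *ᵥ y = h • v
  gen : ∀ z : K → ℤ, g ∣ ∑ k, z k → ∃ β, β ᵥ* A' = z

variable {C B : Matrix I I ℤ} {d : I → ℤ} {A A' : Matrix I K ℤ} {h g : ℤ} (M : Md C d A A' h g)
include M

theorem Md.inj' {y y' : K → ℤ} (e : A *ᵥ y = A *ᵥ y') : y = y' := sub_eq_zero.1 (M.inj _ (by rw [mulVec_sub, e, sub_self]))

theorem Md.gen2 (hg : g ∣ 2) (y : K → ℤ) : ∃ β, β ᵥ* A' = (2 : ℤ) • y :=
  M.gen _ (hg.trans (Finset.dvd_sum fun _ _ => Dvd.intro _ rfl))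

theorem Md.act (hg : g ∣ 2) (hB : Au C d B) (hE : Ell B) (hL : ∀ y, ∃ y', A *ᵥ y' = B *ᵥ (A *ᵥ y)) {v μ : I → ℤ}
    (hv : B *ᵥ v - v = (4 : ℤ) • μ) : ∃ y η, A *ᵥ y = h • v ∧ A *ᵥ η = h • μ ∧ (∀ k, 2 ∣ y k) ∧
      ((∀ k, 2 ∣ η k) → ∀ k, 4 ∣ y k) ∧ y ⬝ᵥ η + 2 * η ⬝ᵥ η = 0 := by
  choose f hf using hL
  let T : Module.End ℤ (K → ℤ) := (AddMonoidHom.mk' f fun y y' => M.inj' (by simp only [hf, mulVec_add])).toIntLinearMap
  have hT : ∀ y, A *ᵥ T y = B *ᵥ (A *ᵥ y) := hf
  obtain ⟨a, ha, hd⟩ := M.dd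
  have form : ∀ β y, a * ((β ᵥ* A') ⬝ᵥ y) = ∑ i, β i * d i * (A *ᵥ y) i := fun β y => by
    rw [← dotProduct_mulVec, dotProduct, Finset.mul_sum]
    refine Finset.sum_congr rfl fun i _ => ?_
    rw [mulVec, mulVec, dotProduct, dotProduct, Finset.mul_sum, Finset.mul_sum, Finset.mul_sum]
    exact Finset.sum_congr rfl fun k _ => by linear_combination β i * y k * hd i k
  have iso : ∀ y y', T y ⬝ᵥ T y' = y ⬝ᵥ y' := fun y y' => by
    obtain ⟨β, hβ⟩ := M.gen2 hg y
    obtain ⟨β', k1, k2⟩ := hB.iso β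
    rw [M.c, M.c, hβ, ← hT] at k1
    have k3 := k2 (A *ᵥ y')
    rw [← hT, ← form, ← form, ← M.inj' k1, hβ, map_smul, smul_dotProduct, smul_dotProduct] at k3
    exact mul_left_cancel₀ two_ne_zero (mul_left_cancel₀ ha k3)
  obtain ⟨N, hN, h1⟩ := hB.fin
  have hp : ∀ j y, A *ᵥ (T ^ j) y = (B ^ j) *ᵥ (A *ᵥ y) := fun j y => by
    induction j with
    | zero => simp
    | succ j ih => rw [pow_succ', Module.End.mul_apply, hT, ih, pow_succ', ← mulVec_mulVec (A *ᵥ y)]
  have h2 : T ^ N = 1 := LinearMap.ext fun y => M.inj' (by rw [hp, h1, one_mulVec, Module.End.one_apply])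
  have h3 : ∀ y, T y = y → y = 0 := fun y e => M.inj y (hE _ (by rw [← hT, e]))
  obtain ⟨y, hy⟩ := M.sur v
  obtain ⟨η, hη⟩ := M.sur μ
  have h4 : T y - y = (4 : ℤ) • η := M.inj' (by
    rw [mulVec_sub, hT, hy, mulVec_smul, mulVec_smul, hη, ← smul_sub, hv, smul_comm])
  refine ⟨y, η, hy, hη, fun k => ?_, fun h5 k => ?_, ?_⟩
  · have := core T iso hN h2 h3 h4 k
    omega
  · choose z hz using h5
    have := core T iso hN h2 h3 (η := z) (m := 8) (h4.trans (funext fun k => by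
      simp only [Pi.smul_apply, smul_eq_mul, hz]; ring)) k
    omega
  · have h5 := iso y y
    rw [sub_eq_iff_eq_add'.1 h4, add_dotProduct, dotProduct_add, dotProduct_add, dotProduct_smul, smul_dotProduct,
      smul_dotProduct, dotProduct_smul, dotProduct_comm η y] at h5
    simp only [smul_eq_mul] at h5
    linarith

omit M in
theorem dz_mulVec {m : ℤ} {y : K → ℤ} (hy : ∀ k, m ∣ y k) : Dz m (A *ᵥ y) := fun _ =>
  Finset.dvd_sum fun k _ => (hy k).mul_left _

omit M in
theorem half {y : K → ℤ} {v : I → ℤ} (hy : A *ᵥ y = (2 : ℤ) • v) {z : K → ℤ} (hz : ∀ k, y k = 2 * z k) : v = A *ᵥ z := by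
  rw [show y = (2 : ℤ) • z from funext hz, mulVec_smul] at hy
  exact (smul_right_injective _ two_ne_zero hy).symm

omit M

theorem tyB (M : Md C d A A' 1 2) (hB : Au C d B) (hE : Ell B) {v μ : I → ℤ} (hv : B *ᵥ v - v = (4 : ℤ) • μ) : Dz 2 v := by
  obtain ⟨y, -, h1, -, h2, -⟩ := M.act dvd_rfl hB hE (fun y => by simpa using M.sur _) hv
  rw [one_smul] at h1
  exact h1 ▸ dz_mulVec h2

theorem tyC (M : Md C d A A' 2 1) (hB : Au C d B) (hE : Ell B) {v μ : I → ℤ} (hv : B *ᵥ v - v = (4 : ℤ) • μ) :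
    ∃ β, v = β ᵥ* C := by
  obtain ⟨y, -, h1, -, h2, -⟩ := M.act (one_dvd 2) hB hE (fun y => by
    obtain ⟨β, rfl⟩ := M.gen y (one_dvd _)
    obtain ⟨β', k, -⟩ := hB.iso β
    exact ⟨β' ᵥ* A', by rw [← M.c, ← M.c, k]⟩) hv
  choose z hz using h2
  obtain ⟨β, rfl⟩ := M.gen z (one_dvd _)
  exact ⟨β, (half h1 hz).trans (M.c β).symm⟩

theorem tyD (M : Md C d A A' 2 2) (hn : Even (Fintype.card K)) (hT : Tv 2 C B) (hB : Au C d B) (hE : Ell B) {v μ : I → ℤ}
    (hv : B *ᵥ v - v = (4 : ℤ) • μ) : Dz 2 v ∨ ∃ β, v = β ᵥ* C := by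
  obtain ⟨y, η, h1, h2, h3, h4, h5⟩ := M.act dvd_rfl hB hE (fun y => by
    obtain ⟨β, hβ⟩ := M.gen2 dvd_rfl y
    obtain ⟨β', k⟩ := hT (A *ᵥ y) β (by rw [M.c, hβ, mulVec_smul]; rfl)
    exact ⟨y + β' ᵥ* A', by rw [mulVec_add, ← M.c, ← k, add_sub_cancel]⟩) hv
  choose z hz using h3
  by_cases h6 : ∀ k, 2 ∣ η k
  · refine Or.inl (half h1 hz ▸ dz_mulVec fun k => ?_)
    have := h4 h6 k
    have := hz k
    omega
  push Not at h6
  obtain ⟨k₀, hk₀⟩ := h6
  have h7 : (2 : ℤ) ∣ ∑ k, (z k * η k + η k * η k - (z k + 1)) := Finset.dvd_sum fun k _ => by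
    obtain ⟨r, hr⟩ : ∃ r, η k = 2 * r + 1 := by
      have := M.par η 2 (fun i => by rw [h2]; exact Dvd.intro _ rfl) k k₀
      exact ⟨η k / 2, by omega⟩
    exact ⟨z k * r + 2 * r * r + 2 * r, by rw [hr]; ring⟩
  rw [show y = (2 : ℤ) • z from funext hz, smul_dotProduct, smul_eq_mul, dotProduct, dotProduct] at h5
  rw [Finset.sum_sub_distrib, Finset.sum_add_distrib, Finset.sum_add_distrib, Finset.sum_const, Finset.card_univ,
    nsmul_eq_mul, mul_one] at h7
  obtain ⟨r, hr⟩ := hn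
  obtain ⟨β, rfl⟩ := M.gen z (by omega)
  exact Or.inr ⟨β, (half h1 hz).trans (M.c β).symm⟩

end abs

/-- the standard basis -/
def dl (i k : ℕ) : ℤ := if k = i then 1 else 0

/-- the simple roots -/
def rt (n : ℕ) (s t : ℤ) (i k : ℕ) : ℤ := if i + 1 < n then dl i k - dl (i + 1) k else s * dl (n - 2) k + t * dl (n - 1) k

/-- extension by zero -/
def ex {n : ℕ} (y : Fin n → ℤ) (k : ℕ) : ℤ := if h : k < n then y ⟨k, h⟩ else 0

theorem ex_val {n : ℕ} (y : Fin n → ℤ) (k : Fin n) : ex y k = y k := dif_pos k.2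

theorem ex_fun {n : ℕ} (Y : ℕ → ℤ) {k : ℕ} (hk : k < n) : ex (fun j : Fin n => Y j) k = Y k := dif_pos hk

theorem dl_sum {n i : ℕ} (hi : i < n) (y : Fin n → ℤ) : ∑ k : Fin n, dl i k * y k = ex y i := by
  rw [Finset.sum_eq_single ⟨i, hi⟩ (fun k _ hk => by rw [dl, if_neg fun e => hk (Fin.ext e), zero_mul]) (by simp), dl,
    if_pos rfl, one_mul, ex, dif_pos hi]

theorem rt_sum {n i : ℕ} (hn : 2 ≤ n) (s t : ℤ) (y : Fin n → ℤ) : ∑ k : Fin n, rt n s t i k * y k =
    if i + 1 < n then ex y i - ex y (i + 1) else s * ex y (n - 2) + t * ex y (n - 1) := by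
  unfold rt
  split_ifs with h
  · simp only [sub_mul, Finset.sum_sub_distrib]
    rw [dl_sum (by omega), dl_sum h]
  · simp only [add_mul, mul_assoc, Finset.sum_add_distrib, ← Finset.mul_sum]
    rw [dl_sum (by omega), dl_sum (by omega)]

theorem model {I : Type} [Fintype I] [DecidableEq I] {C : Matrix I I ℤ} {d : I → ℤ} {n : ℕ} {c : ℕ → ℕ → ℤ} (hC : Car C d)
    (hT : Ty C n c) (hn : 2 ≤ n) (s t s' t' : ℤ) (h0 : s + t ≠ 0) (h3 : (s = 0 ∧ s' = 0) ∨ 3 ≤ n)
    (hc : ∀ i < n, ∀ j < n, c i j = if i + 1 < n then rt n s t j i - rt n s t j (i + 1) else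
      s' * rt n s t j (n - 2) + t' * rt n s t j (n - 1))
    (h4 : ∀ i, i + 2 < n → c i (i + 1) = -1 ∧ c (i + 1) i = -1)
    (h5 : c (n - 1) (n - 2) = s' - t' ∧ c (n - 2) (n - 1) = s - t)
    (h6 : 3 ≤ n → c (n - 1) (n - 3) = -s' ∧ c (n - 3) (n - 1) = -s) :
    ∃ A A' : Matrix I (Fin n) ℤ, Md C d A A' (s + t) (s' + t') := by
  obtain ⟨e, he⟩ := hT
  let A : ℤ → ℤ → Matrix I (Fin n) ℤ := fun s t => Matrix.of fun i k => rt n s t (e.symm i) k
  have hA : ∀ s t y (i : Fin n), (A s t *ᵥ y) (e i) =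
      if (i : ℕ) + 1 < n then ex y i - ex y (i + 1) else s * ex y (n - 2) + t * ex y (n - 1) := fun s t y i => by
    rw [← rt_sum hn]
    simp only [A, mulVec, dotProduct, of_apply, Equiv.symm_apply_apply]
  have par : ∀ y m, Dz m (A s t *ᵥ y) → ∀ k < n, m ∣ ex y 0 - ex y k := fun y m h k => by
    induction k with
    | zero => simp
    | succ k ih =>
      intro hk
      have h1 := h (e ⟨k, by omega⟩)
      rw [hA, if_pos hk] at h1
      simpa using dvd_add (ih (by omega)) h1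
  refine ⟨A s t, A s' t', fun β => ?_, ?_, fun y h => ?_, fun y m h k k' => ?_, fun v => ?_, fun z hz => ?_⟩
  · rw [← vecMul_transpose, vecMul_vecMul]
    congr 1
    ext i j
    obtain ⟨i, rfl⟩ := e.surjective i
    obtain ⟨j, rfl⟩ := e.surjective j
    rw [he, hc _ i.2 _ j.2, mul_apply]
    simp only [A, transpose_apply, of_apply, Equiv.symm_apply_apply]
    rw [rt_sum hn, ex_fun _ i.2, ex_fun _ (by omega : n - 2 < n), ex_fun _ (by omega : n - 1 < n)]
    split_ifs with h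
    · rw [ex_fun _ h]
    · rfl
  · have sy : ∀ i < n, ∀ j < n, ex (d ∘ e) j * c i j = ex (d ∘ e) i * c j i := fun i hi j hj => by
      have h1 := hC.sym (e ⟨i, hi⟩) (e ⟨j, hj⟩)
      rwa [he, he, ← show ex (d ∘ e) i = d (e ⟨i, hi⟩) from dif_pos hi,
        ← show ex (d ∘ e) j = d (e ⟨j, hj⟩) from dif_pos hj] at h1
    have k1 : ∀ i, i + 1 < n → ex (d ∘ e) i = ex (d ∘ e) 0 := fun i => by
      induction i with
      | zero => exact fun _ => rfl
      | succ i ih =>
        intro hi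
        have h1 := sy i (by omega) (i + 1) (by omega)
        rw [(h4 i hi).1, (h4 i hi).2, ih (by omega)] at h1
        linarith
    have k2 := sy (n - 1) (by omega) (n - 2) (by omega)
    rw [h5.1, h5.2, k1 (n - 2) (by omega)] at k2
    have k3 : ex (d ∘ e) 0 * s' = ex (d ∘ e) (n - 1) * s := by
      rcases h3 with ⟨rfl, rfl⟩ | h3
      · simp
      · have h1 := sy (n - 1) (by omega) (n - 3) (by omega)
        rw [(h6 h3).1, (h6 h3).2, k1 (n - 3) (by omega)] at h1
        linarith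
    refine ⟨ex (d ∘ e) 0, ?_, fun i k => ?_⟩
    · rw [ex, dif_pos (by omega)]
      exact (hC.dpos _).ne'
    · obtain ⟨i, rfl⟩ := e.surjective i
      simp only [A, of_apply, Equiv.symm_apply_apply, rt]
      rw [show d (e i) = ex (d ∘ e) i from (ex_val (d ∘ e) i).symm]
      split_ifs with h
      · rw [k1 i h]
      · rw [show (i : ℕ) = n - 1 by omega]
        linear_combination (dl (n - 2) k + dl (n - 1) k) * k3 - dl (n - 1) k * k2
  · have h1 : ∀ k < n, ex y k = ex y 0 := fun k hk =>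
      (sub_eq_zero.1 (zero_dvd_iff.1 (par y 0 (fun i => by rw [h]; rfl) k hk))).symm
    have h2 := hA s t y ⟨n - 1, by omega⟩
    rw [h, if_neg (by simp only []; omega), h1 (n - 2) (by omega), h1 (n - 1) (by omega), ← add_mul] at h2
    funext k
    rw [← ex_val y k, h1 k k.2]
    exact (mul_eq_zero.1 h2.symm).resolve_left h0
  · have h1 := dvd_sub (par y m h k' k'.2) (par y m h k k.2)
    rwa [sub_sub_sub_cancel_left, ex_val, ex_val] at h1
  · let S : ℕ → ℤ := fun k => ∑ i ∈ Finset.range k, ex (v ∘ e) i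
    let Y : ℕ → ℤ := fun k => ex (v ∘ e) (n - 1) + s * S (n - 2) + t * S (n - 1) - (s + t) * S k
    refine ⟨fun k => Y k, funext fun i => ?_⟩
    obtain ⟨i, rfl⟩ := e.surjective i
    rw [hA, Pi.smul_apply, smul_eq_mul, show v (e i) = ex (v ∘ e) i from (ex_val (v ∘ e) i).symm]
    split_ifs with h
    · rw [ex_fun Y i.2, ex_fun Y h]
      simp only [Y, S, Finset.sum_range_succ]
      ring
    · rw [ex_fun Y (by omega), ex_fun Y (by omega), show (i : ℕ) = n - 1 by omega]
      simp only [Y]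
      ring
  · let R := LinearMap.range (A s' t').vecMulLinear
    have row : ∀ i < n, (fun k : Fin n => rt n s' t' i k) ∈ R := fun i hi =>
      ⟨Pi.single (e ⟨i, hi⟩) 1, by
        rw [vecMulLinear_apply, single_one_vecMul]
        funext k
        simp only [A, row, of_apply, Equiv.symm_apply_apply]⟩
    have k1 : ∀ i < n, (fun k : Fin n => dl 0 k - dl i k) ∈ R := fun i => by
      induction i with
      | zero => exact fun _ => by simp only [sub_self]; exact R.zero_mem
      | succ i ih =>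
        intro hi
        convert R.add_mem (ih (by omega)) (row i (by omega)) using 1
        funext k
        rw [Pi.add_apply, rt, if_pos hi, sub_add_sub_cancel]
    obtain ⟨r, hr⟩ := hz
    have k2 := R.sub_mem (R.smul_mem r (R.add_mem (row (n - 1) (by omega)) (R.add_mem
      (R.smul_mem s' (k1 (n - 2) (by omega))) (R.smul_mem t' (k1 (n - 1) (by omega))))))
      (R.sum_mem (t := Finset.univ) fun (j : Fin n) _ => R.smul_mem (z j) (k1 j j.2))
    show z ∈ R
    convert k2 using 1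
    funext k
    have k3 : ∑ j : Fin n, z j * dl j k = z k := by
      rw [← ex_val z k, ← dl_sum k.2]
      exact Finset.sum_congr rfl fun j _ => by simp only [dl, mul_comm, eq_comm]
    simp only [Pi.sub_apply, Pi.add_apply, Pi.smul_apply, Finset.sum_apply, smul_eq_mul, rt, mul_sub,
      Finset.sum_sub_distrib, ← Finset.sum_mul, k3, hr, if_neg (show ¬ n - 1 + 1 < n by omega)]
    ring

private theorem car_B (n : ℕ) (hn : 2 ≤ n) : ∀ i < n, ∀ j < n, cB n i j = if i + 1 < n then rt n 0 1 j i - rt n 0 1 j (i + 1) else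
      0 * rt n 0 1 j (n - 2) + 2 * rt n 0 1 j (n - 1) := by
  intro i hi j hj
  unfold cB cA rt dl
  by_cases h1 : i + 1 < n <;> by_cases h2 : j + 1 < n <;> simp only [h1, h2, if_true, if_false, zero_mul, zero_add, one_mul] <;> (solve | lia | omega)

private theorem car_C (n : ℕ) (hn : 2 ≤ n) : ∀ i < n, ∀ j < n, cC n i j = if i + 1 < n then rt n 0 2 j i - rt n 0 2 j (i + 1) else
      0 * rt n 0 2 j (n - 2) + 1 * rt n 0 2 j (n - 1) := by
  intro i hi j hj
  unfold cC cB cA rt dl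
  by_cases h1 : i + 1 < n <;> by_cases h2 : j + 1 < n <;> simp only [h1, h2, if_true, if_false, zero_mul, zero_add, one_mul] <;> (solve | lia | omega)

private theorem car_D (n : ℕ) (hn : 4 ≤ n) : ∀ i < n, ∀ j < n, cT (n - 3) n i j = if i + 1 < n then rt n 1 1 j i - rt n 1 1 j (i + 1) else
      1 * rt n 1 1 j (n - 2) + 1 * rt n 1 1 j (n - 1) := by
  intro i hi j hj
  obtain ⟨m, rfl⟩ : ∃ m, n = m + 3 := ⟨n - 3, by omega⟩
  rw [Nat.add_sub_cancel]
  unfold cT rt dl
  rw [show m + 3 - 2 = m + 1 from rfl, show m + 3 - 1 = m + 2 from rfl]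
  by_cases h1 : i + 1 < m + 3 <;> by_cases h2 : j + 1 < m + 3 <;> simp only [h1, h2, if_true, if_false, one_mul, and_true, and_false, or_false, false_or] <;> (first | (lia; done) | (split_ifs <;> omega))

end KB

open KB in
/-- **types `B`, `C`, `D`** -/
theorem boxKB : BoxKB := by
  intro I _ _ C B d n hC hB hE h v hv
  choose μ hμ using hv
  have h1 : B *ᵥ v - v = (4 : ℤ) • μ := funext fun i => by simpa using hμ i
  rcases h with ⟨hn, hT⟩ | ⟨hn, hT⟩ | ⟨hn, he, hT, hv⟩
  · obtain ⟨A, A', M⟩ := model hC hT hn 0 1 0 2 (by decide) (Or.inl ⟨rfl, rfl⟩)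
      (car_B n hn) (fun i hi => by unfold cB cA; split_ifs <;> omega)
      (by unfold cB cA; split_ifs <;> omega) fun _ => by unfold cB cA; split_ifs <;> omega
    exact Or.inl (tyB M hB hE h1)
  · obtain ⟨A, A', M⟩ := model hC hT hn 0 2 0 1 (by decide) (Or.inl ⟨rfl, rfl⟩)
      (car_C n hn) (fun i hi => by unfold cC cB cA; split_ifs <;> omega)
      (by unfold cC cB cA; split_ifs <;> omega) fun _ => by unfold cC cB cA; split_ifs <;> omega
    exact Or.inr (tyC M hB hE h1)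
  · obtain ⟨A, A', M⟩ := model hC hT (by omega) 1 1 1 1 (by decide) (Or.inr (by omega))
      (car_D n hn) (fun i hi => by unfold cT; split_ifs <;> omega)
      (by unfold cT; split_ifs <;> omega) fun _ => by unfold cT; split_ifs <;> omega
    exact tyD M (by rwa [Fintype.card_fin]) hv hB hE h1

end Cfsg.Agent.BZ.TA
end

-- part: BZ/L/TA/KR
section
/-!
# BZ / L / TA : the reduction of the lattice lemma to one component (helper55)
-/

set_option autoImplicit false
set_option linter.unusedSectionVars false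

namespace Cfsg.Agent.BZ.TA

open Matrix

namespace KR

variable {I K : Type} [Fintype I] [DecidableEq I] [DecidableEq K]

/-- `M` moves the classes of `p` along `τ` -/
def Gr (p : I → K) (τ : K → K) (M : Matrix I I ℤ) : Prop := ∀ a b, M a b ≠ 0 → p a = τ (p b)

/-- `M` keeps the class `x` and its complement -/
def Bl (p : I → K) (x : K) (M : Matrix I I ℤ) : Prop := ∀ a b, M a b ≠ 0 → (p a = x ↔ p b = x)

/-- supported on the class `x` -/
def Sp (p : I → K) (x : K) (y : I → ℤ) : Prop := ∀ a, p a ≠ x → y a = 0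

/-- the part on the class `x` -/
def pr (p : I → K) (x : K) (y : I → ℤ) : I → ℤ := fun a => if p a = x then y a else 0

/-- restriction -/
def res (p : I → K) (x : K) (y : I → ℤ) : {a // p a = x} → ℤ := fun a => y a

/-- extension by zero -/
def ext {p : I → K} {x : K} (u : {a // p a = x} → ℤ) : I → ℤ := fun a => if h : p a = x then u ⟨a, h⟩ else 0

/-- the block -/
def sub (p : I → K) (x : K) (M : Matrix I I ℤ) : Matrix {a // p a = x} {a // p a = x} ℤ := M.submatrix Subtype.val Subtype.val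

/-- a multiple of the coroot lattice -/
def LR (C : Matrix I I ℤ) (n : ℤ) : Submodule ℤ (I → ℤ) := LinearMap.range (n • C.vecMulLinear)

variable {p : I → K} {τ τ' : K → K} {x : K} {M N C B w : Matrix I I ℤ} {d y y' : I → ℤ} {n : ℤ}

theorem mem_LR : y ∈ LR C n ↔ ∃ β, y = n • (β ᵥ* C) := exists_congr fun _ => eq_comm

theorem Gr.mul (h : Gr p τ M) (h' : Gr p τ' N) : Gr p (τ' ∘ τ) (N * M) := fun a b k => by
  obtain ⟨c, -, hc⟩ := Finset.exists_ne_zero_of_sum_ne_zero (mul_apply (M := N) (N := M) ▸ k)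
  rw [h' a c (left_ne_zero_of_mul hc), h c b (right_ne_zero_of_mul hc)]; rfl

theorem Gr.pow (h : Gr p τ M) (j : ℕ) : Gr p τ^[j] (M ^ j) := by
  induction j with
  | zero => intro a b k; rw [pow_zero, one_apply] at k; split_ifs at k with e; exacts [e ▸ rfl, absurd rfl k]
  | succ j ih => rw [pow_succ, Function.iterate_succ]; exact h.mul ih

theorem Gr.smul (h : Gr p τ M) (c : ℤ) : Gr p τ (c • M) := fun a b k => h a b (right_ne_zero_of_mul k)

theorem Gr.sp (h : Gr p τ M) (hy : Sp p x y) : Sp p (τ x) (M *ᵥ y) := fun a ha => Finset.sum_eq_zero fun b _ => by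
  by_contra k
  exact ha ((h a b (left_ne_zero_of_mul k)).trans (congrArg τ (not_not.1 fun e => right_ne_zero_of_mul k (hy b e))))

theorem Gr.pr (h : Gr p τ M) (hτ : τ.Injective) (x : K) (y : I → ℤ) : pr p (τ x) (M *ᵥ y) = M *ᵥ pr p x y := by
  funext a
  simp only [KR.pr, mulVec, dotProduct]
  rw [← Finset.sum_const_zero (s := Finset.univ (α := I)), ← Finset.sum_ite_irrel]
  refine Finset.sum_congr rfl fun b _ => ?_
  by_cases k : M a b = 0
  · simp [k]
  · simp [h a b k, hτ.eq_iff]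

theorem Gr.bl (h : Gr p τ M) (hτ : τ.Injective) (hx : τ x = x) : Bl p x M := fun a b k => by
  rw [h a b k]; conv_lhs => rw [← hx]
  exact hτ.eq_iff

theorem sumJ {f : I → ℤ} (h : Sp p x f) : ∑ a, f a = ∑ a : {a // p a = x}, f a := by
  rw [← Fintype.sum_subtype_add_sum_subtype (fun a => p a = x) f, Finset.sum_eq_zero (s := Finset.univ (α := {a // ¬ p a = x}))
    fun a _ => h a a.2, add_zero]

theorem Bl.res (h : Bl p x M) (y : I → ℤ) : res p x (M *ᵥ y) = sub p x M *ᵥ res p x y := funext fun a =>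
  sumJ (f := fun b => M a b * y b) fun b hb => mul_eq_zero_of_left (not_not.1 fun k => hb ((h a b k).1 a.2)) _

theorem Bl.res' (h : Bl p x M) (y : I → ℤ) : KR.res p x (y ᵥ* M) = KR.res p x y ᵥ* sub p x M := funext fun a =>
  sumJ (f := fun b => y b * M b a) fun b hb => mul_eq_zero_of_right _ (not_not.1 fun k => hb ((h b a k).2 a.2))

theorem Bl.sp (h : Bl p x M) (hy : Sp p x y) : Sp p x (M *ᵥ y) := fun a ha => Finset.sum_eq_zero fun b _ => by
  by_contra k
  exact ha ((h a b (left_ne_zero_of_mul k)).2 (not_not.1 fun e => right_ne_zero_of_mul k (hy b e)))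

theorem Bl.sp' (h : Bl p x M) (hy : Sp p x y) : Sp p x (y ᵥ* M) := fun a ha => Finset.sum_eq_zero fun b _ => by
  by_contra k
  exact ha ((h b a (right_ne_zero_of_mul k)).1 (not_not.1 fun e => left_ne_zero_of_mul k (hy b e)))

theorem res_ext (u : {a // p a = x} → ℤ) : res p x (ext u) = u := funext fun a => dif_pos a.2

theorem sp_ext (u : {a // p a = x} → ℤ) : Sp p x (ext u) := fun _ h => dif_neg h

theorem eq_of_res (h : Sp p x y) (h' : Sp p x y') (e : res p x y = res p x y') : y = y' := funext fun a => by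
  by_cases k : p a = x
  exacts [congrFun e ⟨a, k⟩, (h a k).trans (h' a k).symm]

theorem Bl.pow (h : Bl p x M) (j : ℕ) (y : I → ℤ) : KR.res p x ((M ^ j) *ᵥ y) = (sub p x M ^ j) *ᵥ KR.res p x y := by
  induction j with
  | zero => simp
  | succ j ih => rw [pow_succ', pow_succ', ← mulVec_mulVec, ← mulVec_mulVec, h.res, ih]

theorem res_LR (h : Bl p x C) (hy : y ∈ LR C n) : ∃ β, res p x y = n • (β ᵥ* sub p x C) := by
  obtain ⟨β, rfl⟩ := mem_LR.1 hy
  exact ⟨res p x β, by rw [← h.res']; rfl⟩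

theorem LR_of_res (h : Bl p x C) (hy : Sp p x y) {β : {a // p a = x} → ℤ} (e : res p x y = n • (β ᵥ* sub p x C)) : y ∈ LR C n :=
  mem_LR.2 ⟨ext β, eq_of_res hy (fun a ha => mul_eq_zero_of_right _ (h.sp' (sp_ext β) a ha)) (by
    rw [e]; conv_lhs => rw [← res_ext β, ← h.res']
    rfl)⟩

theorem pr_LR (h : Gr p id C) (hy : y ∈ LR C n) (z : K) : pr p z y ∈ LR C n := by
  have h' := h.bl (x := z) Function.injective_id rfl
  obtain ⟨β, e⟩ := res_LR h' hy
  exact LR_of_res h' (fun a ha => if_neg ha) (β := β) (e ▸ funext fun a => if_pos a.2)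

theorem au_pow (h : Au C d B) (j : ℕ) (β : I → ℤ) :
    ∃ β' : I → ℤ, (B ^ j) *ᵥ (β ᵥ* C) = β' ᵥ* C ∧ ∀ v, ∑ i, β' i * d i * ((B ^ j) *ᵥ v) i = ∑ i, β i * d i * v i := by
  induction j with
  | zero => exact ⟨β, by simp⟩
  | succ j ih =>
    obtain ⟨β', h1, h2⟩ := ih
    obtain ⟨β'', h3, h4⟩ := h.iso β'
    exact ⟨β'', by rw [pow_succ', ← mulVec_mulVec, h1, h3], fun v => by rw [pow_succ', ← mulVec_mulVec, h4, h2]⟩

theorem pow_LR (h : Au C d B) (c : ℤ) (j : ℕ) (hy : y ∈ LR C n) : ((c • B) ^ j) *ᵥ y ∈ LR C n := by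
  obtain ⟨β, rfl⟩ := mem_LR.1 hy
  obtain ⟨β', h1, -⟩ := au_pow h j β
  rw [smul_pow, smul_mulVec, mulVec_smul, h1]
  exact Submodule.smul_mem _ _ (mem_LR.2 ⟨β', rfl⟩)

/-- the norm map -/
def Nm (c : ℤ) (B : Matrix I I ℤ) (k : ℕ) : Matrix I I ℤ := ∑ j ∈ Finset.range k, (c • B) ^ j

theorem Nm_LR (h : Au C d B) (c : ℤ) (k : ℕ) (hy : y ∈ LR C n) : Nm c B k *ᵥ y ∈ LR C n := by
  rw [Nm, sum_mulVec]; exact Submodule.sum_mem _ fun j _ => pow_LR h c j hy

theorem Nm_l (c : ℤ) (k : ℕ) (y : I → ℤ) : Nm c B k *ᵥ (c • (B *ᵥ y) - y) = c ^ k • ((B ^ k) *ᵥ y) - y := by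
  have h := congrArg (· *ᵥ y) (geom_sum_mul (c • B) k)
  simp only [← mulVec_mulVec, sub_mulVec, smul_pow, smul_mulVec, one_mulVec] at h
  simpa only [Nm, smul_pow] using h

theorem Nm_r (c : ℤ) (k : ℕ) (y : I → ℤ) : c • (B *ᵥ (Nm c B k *ᵥ y)) - Nm c B k *ᵥ y = c ^ k • ((B ^ k) *ᵥ y) - y := by
  have h := congrArg (· *ᵥ y) (mul_geom_sum (c • B) k)
  simp only [← mulVec_mulVec, sub_mulVec, smul_pow, smul_mulVec, one_mulVec] at h
  simpa only [Nm, smul_pow] using h

/-- the orbit of the class `x` has length `k` -/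
structure Ob (p : I → K) (τ : K → K) (B : Matrix I I ℤ) (x : K) (k : ℕ) : Prop where
  inj : τ.Injective
  gr : Gr p τ B
  pos : 0 < k
  per : τ^[k] x = x
  min : ∀ j, 0 < j → j < k → τ^[j] x ≠ x

variable {k : ℕ}

theorem Ob.bl (h : Ob p τ B x k) : Bl p x (B ^ k) := (h.gr.pow k).bl (h.inj.iterate k) h.per

theorem Ob.resN (h : Ob p τ B x k) (c : ℤ) (u : {a // p a = x} → ℤ) : res p x (Nm c B k *ᵥ ext u) = u := by
  funext a
  rw [Nm, sum_mulVec]
  change (∑ j ∈ Finset.range k, ((c • B) ^ j) *ᵥ ext u) a.1 = _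
  rw [Finset.sum_apply, Finset.sum_eq_single 0]
  · rw [pow_zero, one_mulVec]; exact congrFun (res_ext u) a
  · exact fun j hj h0 => ((h.gr.smul c).pow j).sp (sp_ext u) a fun e =>
      h.min j (Nat.pos_of_ne_zero h0) (Finset.mem_range.1 hj) (e.symm.trans a.2)
  · exact fun e => absurd (Finset.mem_range.2 h.pos) e

theorem Ob.vv (h : Ob p τ B x k) {c : ℤ} {u : {a // p a = x} → ℤ} (hu : Dz n (c ^ k • (sub p x (B ^ k) *ᵥ u) - u)) :
    Dz n (c • (B *ᵥ (Nm c B k *ᵥ ext u)) - Nm c B k *ᵥ ext u) := fun a => by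
  rw [Nm_r]
  by_cases e : p a = x
  · have h1 := hu ⟨a, e⟩
    rw [← res_ext u, ← h.bl.res] at h1
    exact h1
  · rw [Pi.sub_apply, Pi.smul_apply, h.bl.sp (sp_ext u) a e, sp_ext u a e]; simp

theorem Ob.au (h : Ob p τ B x k) (hC : Bl p x C) (ha : Au C d B) : Au (sub p x C) (res p x d) (sub p x (B ^ k)) := by
  refine ⟨?_, fun β => ?_⟩
  · obtain ⟨n, h0, h1⟩ := ha.fin
    refine ⟨n, h0, ext_iff_mulVec.2 fun u => ?_⟩
    rw [← res_ext u, ← h.bl.pow, ← pow_mul, mul_comm, pow_mul, h1, one_pow, one_mulVec, one_mulVec]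
  · obtain ⟨β', h1, h2⟩ := au_pow ha k (ext β)
    refine ⟨res p x β', ?_, fun v => ?_⟩
    · rw [← hC.res', ← h1, h.bl.res, hC.res', res_ext]
    · have h3 := h2 (ext v)
      rw [sumJ (p := p) (x := x) fun a e => mul_eq_zero_of_right _ (h.bl.sp (sp_ext v) a e),
        sumJ (p := p) (x := x) fun a e => mul_eq_zero_of_right _ (sp_ext v a e)] at h3
      conv_lhs => rw [← res_ext v, ← h.bl.res]
      conv_rhs => rw [← res_ext v, ← res_ext β]
      exact h3

theorem car (hC : Bl p x C) (h : Car C d) : Car (sub p x C) (res p x d) := by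
  refine ⟨fun i => h.diag i, fun i j e => h.off i j fun k => e (Subtype.ext k), fun i => h.dpos i, fun i j => h.sym i j, fun β e => ?_⟩
  have h1 := h.pos (ext β) fun k => e (by rw [← res_ext β, k]; rfl)
  rw [sumJ (p := p) (x := x) fun a e => mul_eq_zero_of_right _ (hC.sp' (sp_ext β) a e)] at h1
  rw [← res_ext β, ← hC.res']
  exact h1

theorem Ob.ell (h : Ob p τ B x k) {r : ℕ} (hr : r.Prime) {t η : ℤ} (hv : ∀ v, Vv r t B 1 v → Dz r v)
    (ht : (r : ℤ) ∣ t ^ k - η) : Ell (η • sub p x (B ^ k)) := by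
  have h1 : ∀ u, (η • sub p x (B ^ k)) *ᵥ u = u → Dz r u := fun u hu a => by
    have h2 := hv _ (h.vv (c := t) (u := u) fun b => ?_) a
    · rw [← h.resN t u]; exact h2
    · have h3 : u b = η * (sub p x (B ^ k) *ᵥ u) b := by rw [smul_mulVec] at hu; exact (congrFun hu b).symm
      rw [pow_one, Pi.sub_apply, Pi.smul_apply, h3, smul_eq_mul, ← sub_mul]
      exact ht.mul_right _
  have h2 : ∀ (m : ℕ) u, (η • sub p x (B ^ k)) *ᵥ u = u → Dz ((r : ℤ) ^ m) u := fun m => by
    induction m with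
    | zero => exact fun u _ a => by simp
    | succ m ih =>
      intro u hu a
      choose u' e using h1 u hu
      obtain rfl : u = (r : ℤ) • u' := funext e
      rw [mulVec_smul] at hu
      rw [pow_succ']
      exact mul_dvd_mul_left _ (ih u' (smul_right_injective _ (Int.natCast_ne_zero.2 hr.ne_zero) hu) a)
  intro u hu
  funext a
  refine Int.eq_zero_of_dvd_of_natAbs_lt_natAbs (h2 (u a).natAbs u hu a) ?_
  rw [Int.natAbs_pow, Int.natAbs_natCast]
  exact Nat.lt_pow_self hr.one_lt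

variable {l : ℕ} {c : ℤ}

theorem vv_pow {e : ℕ} (h : Vv l c B e y) (j : ℕ) : Vv l c B e ((B ^ j) *ᵥ y) := by
  choose μ hμ using h
  have h1 : c • (B *ᵥ y) - y = (l : ℤ) ^ e • μ := funext hμ
  have h2 : c • (B *ᵥ ((B ^ j) *ᵥ y)) - (B ^ j) *ᵥ y = (l : ℤ) ^ e • ((B ^ j) *ᵥ μ) := by
    rw [← mulVec_smul (B ^ j), ← h1, mulVec_sub, mulVec_smul, mulVec_mulVec, mulVec_mulVec, ← pow_succ, ← pow_succ']
  intro a
  rw [h2]; exact Dvd.intro _ rfl

theorem fw_pow (ha : Au C d B) (h : Kd l c C B w) {e : ℕ} (hy : Vv l c B e y) (j : ℕ) :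
    (B ^ j) *ᵥ (w *ᵥ y) - w *ᵥ ((B ^ j) *ᵥ y) ∈ LR C ((l : ℤ) ^ e) := by
  induction j with
  | zero => simp
  | succ j ih =>
    have h1 := add_mem (pow_LR ha 1 1 ih) (mem_LR.2 (h.fw e _ (vv_pow hy j)))
    rw [pow_succ' B, ← mulVec_mulVec, ← mulVec_mulVec]
    simpa [mulVec_sub] using h1

theorem Ob.kd [Finite K] (h : Ob p τ B x k) (hC : Gr p id C) (hw : Gr p id w) (ha : Au C d B) (hd : Kd l c C B w) :
    Kd l (c ^ k) (sub p x C) (sub p x (B ^ k)) (sub p x w) := by
  have := Fintype.ofFinite K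
  have hC' := hC.bl (x := x) Function.injective_id rfl
  have hw' := hw.bl (x := x) Function.injective_id rfl
  refine ⟨fun u => ?_, fun e u hu a => ?_, fun e u β hu h1 a => ?_, fun e u hu => ?_, ?_⟩
  · obtain ⟨β, h1⟩ := hd.wr (ext u)
    refine ⟨res p x β, ?_⟩
    conv_lhs => rw [← res_ext u, ← hw'.res]
    rw [← hC'.res', ← h1]; rfl
  · have h1 := hd.nm e _ (h.vv hu) a
    rw [Finset.sum_apply] at h1 ⊢
    rw [← h.resN c u]
    simp only [← hw'.pow]
    exact h1
  · have h2 : Vv l c B e (Nm c B k *ᵥ ext u) := h.vv hu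
    have h3 := h.resN c u
    have h4 : ∀ z, (∀ j, τ^[j] x ≠ z) → pr p z (Nm c B k *ᵥ ext u) = 0 := fun z hz => funext fun b => by
      simp only [pr, Nm, sum_mulVec, Finset.sum_apply, Pi.zero_apply, ite_eq_right_iff]
      exact fun e => Finset.sum_eq_zero fun j _ => ((h.gr.smul c).pow j).sp (sp_ext u) b fun k => hz j (k.symm.trans e)
    generalize Nm c B k *ᵥ ext u = X at h2 h3 h4
    subst h3
    have h5 : ∀ j, ((c • B) ^ j) *ᵥ (w *ᵥ X - X) - (w *ᵥ X - X) ∈ LR C ((l : ℤ) ^ e) := fun j => by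
      rw [smul_pow, smul_mulVec, ← Nm_l]
      refine Nm_LR ha c j ?_
      choose μ hμ using id h2
      have h6 : c • (B *ᵥ X) - X = (l : ℤ) ^ e • μ := funext hμ
      obtain ⟨γ, h7⟩ := hd.wr μ
      have h8 := add_mem (Submodule.smul_mem _ c (mem_LR.2 (hd.fw e X h2))) (mem_LR.2 ⟨γ, rfl⟩)
      rw [← h7, smul_sub ((l : ℤ) ^ e), ← mulVec_smul, ← h6] at h8
      convert h8 using 1
      simp only [mulVec_sub, mulVec_smul, smul_sub]
      abel
    have h6 : pr p x (w *ᵥ X - X) ∈ LR C ((l : ℤ) ^ e) := LR_of_res hC' (fun b hb => if_neg hb) (β := β) (by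
      rw [← h1, ← hw'.res]; exact funext fun b => if_pos b.2)
    have h7 : ∀ z y y', pr p z (y - y') = pr p z y - pr p z y' := fun z y y' => funext fun b => by
      simp only [pr, Pi.sub_apply]; split_ifs <;> simp
    have h8 : ∑ z, pr p z (w *ᵥ X - X) = w *ᵥ X - X := funext fun b => by simp [pr, Finset.sum_apply]
    suffices h9 : ∀ z, pr p z (w *ᵥ X - X) ∈ LR C ((l : ℤ) ^ e) by
      obtain ⟨γ, h9⟩ := mem_LR.1 (h8 ▸ Submodule.sum_mem (LR C ((l : ℤ) ^ e)) (t := Finset.univ) fun z _ => h9 z)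
      exact hd.dl e X γ h2 h9 a
    intro z
    by_cases hz : ∀ j, τ^[j] x ≠ z
    · have h9 := hw.pr Function.injective_id z X
      rw [h4 z hz, id] at h9
      rw [h7, h4 z hz, h9]; simp
    · push Not at hz
      obtain ⟨j, rfl⟩ := hz
      have h9 := pr_LR hC (h5 j) (τ^[j] x)
      rw [h7, ((h.gr.smul c).pow j).pr (h.inj.iterate j)] at h9
      simpa using sub_mem (pow_LR ha c j h6) h9
  · obtain ⟨β, h1⟩ := res_LR hC' (fw_pow ha hd (h.vv hu) k)
    refine ⟨β, h1 ▸ ?_⟩
    conv_lhs => rw [← h.resN c u, ← hw'.res, ← h.bl.res, ← h.bl.res, ← hw'.res]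
    rfl
  · obtain ⟨s, h1, h2⟩ := hd.el
    refine ⟨s, h1, fun μ => ?_⟩
    obtain ⟨β, ν, h3⟩ := h2 (ext μ)
    obtain ⟨β', h4⟩ := res_LR hC' (Nm_LR ha c k (mem_LR.2 ⟨β, (one_smul ℤ _).symm⟩))
    refine ⟨β', res p x ν, ?_⟩
    have h5 := congrArg (fun y => res p x (Nm c B k *ᵥ y)) h3
    simp only [mulVec_smul, mulVec_add, Nm_l] at h5
    rw [← h.resN c μ, ← h.bl.res, ← one_smul ℤ (β' ᵥ* _), ← h4]
    exact h5

theorem tk {m r : ℕ} (hm : 3 ≤ m) (hr : r.Prime) {t : ℤ} (h : orderOf (t : ZMod r) = orderOf (c : ZMod m)) (k : ℕ) :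
    ((m : ℤ) ∣ c ^ k - 1 → (r : ℤ) ∣ t ^ k - 1) ∧ ((m : ℤ) ∣ c ^ k + 1 → (r : ℤ) ∣ t ^ k - -1) := by
  have := Fact.mk hr
  have := Fact.mk (show 2 < m from hm)
  have h1 : ∀ j, (t : ZMod r) ^ j = 1 ↔ (c : ZMod m) ^ j = 1 := fun j => by
    rw [← orderOf_dvd_iff_pow_eq_one, h, orderOf_dvd_iff_pow_eq_one]
  simp only [← ZMod.intCast_zmod_eq_zero_iff_dvd]
  push_cast
  refine ⟨fun e => sub_eq_zero.2 ((h1 k).2 (sub_eq_zero.1 e)), fun e => ?_⟩
  have h2 := eq_neg_of_add_eq_zero_left e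
  have h3 : (t : ZMod r) ^ k * t ^ k = 1 := by rw [← pow_add, h1, pow_add, h2]; simp
  rcases mul_self_eq_one_iff.1 h3 with h4 | h4
  · exact absurd (h2.symm.trans ((h1 k).1 h4)) ZMod.neg_one_ne_one
  · rw [h4]; simp

end KR

open KR in
theorem boxK_of (KI : BoxKI) : BoxK := by
  intro I _ _ C B w d l r c t hl hr hc ho hC ha hB hw hv hd e v β h1 i
  classical
  have hs : ∀ a b, C a b ≠ 0 → C b a ≠ 0 := fun a b k k' => by
    have := hC.sym a b
    rw [k', mul_zero] at this
    exact mul_ne_zero (hC.dpos b).ne' k this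
  let S : Setoid I := ⟨Cp C, fun _ => .refl, fun h => (@Relation.ReflTransGen.stdSymm _ _ ⟨hs⟩).symm _ _ h, fun h h' => h.trans h'⟩
  let p : I → Quotient S := Quotient.mk S
  have hp : ∀ a b, p a = p b ↔ Cp C a b := fun a b => Quotient.eq
  have hu : ∀ {M : Matrix I I ℤ} {i j a b : I}, (∀ v, Su C i v → Su C j (M *ᵥ v)) → Cp C i b → M a b ≠ 0 → Cp C j a :=
    fun {M i j a b} h k k' => not_not.1 fun k'' => k' (by
      simpa using h (Pi.single b 1) (fun b' hb => Pi.single_eq_of_ne (fun e : b' = b => hb (e ▸ k)) _) a k'')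
  choose σ hσ using hB
  have gB : Gr p (fun z => p (σ z.out)) B := fun a b k => ((hp _ _).2 (hu (hσ _) ((hp _ _).1 (Quotient.out_eq _)) k)).symm
  have gw : Gr p id w := fun a b k => ((hp _ _).2 (hu (hw b) .refl k)).symm
  have gC : Gr p id C := fun a b k => (hp _ _).2 (.single k)
  generalize (fun z : Quotient S => p (σ z.out)) = τ at gB
  have hτ : τ.Injective := Finite.injective_iff_surjective.2 fun z => by
    obtain ⟨a, rfl⟩ := Quotient.exists_rep z
    obtain ⟨n, h0, h2⟩ := ha.fin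
    obtain ⟨n, rfl⟩ := Nat.exists_eq_succ_of_ne_zero h0.ne'
    have h3 : (B * B ^ n) a a ≠ 0 := by rw [← pow_succ', h2]; simp
    obtain ⟨b, -, hb⟩ := Finset.exists_ne_zero_of_sum_ne_zero (mul_apply (M := B) (N := B ^ n) ▸ h3)
    exact ⟨p b, (gB a b (left_ne_zero_of_mul hb)).symm⟩
  have h : Ob p τ B (p i) (Function.minimalPeriod τ (p i)) := ⟨hτ, gB,
    Function.minimalPeriod_pos_of_mem_periodicPts (hτ.mem_periodicPts _), Function.iterate_minimalPeriod,
    fun j h0 hj => Function.not_isPeriodicPt_of_pos_of_lt_minimalPeriod h0.ne' hj⟩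
  generalize Function.minimalPeriod τ (p i) = k at h
  have hC' := gC.bl (x := p i) Function.injective_id rfl
  have hm : 3 ≤ if l = 2 then 4 else l := by have := hl.two_le; split_ifs <;> omega
  have hm' : lm l = ((if l = 2 then 4 else l : ℕ) : ℤ) := by unfold lm; split_ifs <;> rfl
  have h2 : ∀ a b, Cp C a b → ∀ (ha : p a = p i) (hb : p b = p i), Cp (KR.sub p (p i) C) ⟨a, ha⟩ ⟨b, hb⟩ := fun a b k ha => by
    induction k with
    | refl => exact fun _ => .refl
    | tail k k' ih => exact fun hb => (ih ((gC _ _ k').trans hb)).tail k'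
  obtain ⟨β', h3⟩ := res_LR hC' (Nm_LR ha c k (mem_LR.2 ⟨β, h1⟩))
  rw [Nm_l] at h3
  refine KI _ _ _ _ l (c ^ k) hl (fun e => hc ((Nat.prime_iff_prime_int.1 hl).dvd_of_dvd_pow e)) (car hC' hC)
    (fun a b => h2 a b ((hp _ _).1 (a.2.trans b.2.symm)) a.2 b.2) (h.au hC' ha) (fun e => ?_) (fun e => ?_) (h.kd gC gw ha hd) e
    (res p (p i) v) β' (by rw [← h3, ← h.bl.res]; rfl) ⟨i, rfl⟩
  · simpa using h.ell hr hv (η := 1) ((tk hm hr ho k).1 (hm' ▸ e))
  · simpa using h.ell hr hv (η := -1) ((tk hm hr ho k).2 (hm' ▸ e))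

end Cfsg.Agent.BZ.TA
end

private theorem dce_a18d6ab34a6e : _root_.True := by
  try have : _root_.True := by simp only [_root_.Cfsg.Agent.BZ.TA.KR.pr.congr_simp]
  try have : _root_.True := by simp only [_root_.Cfsg.Agent.BZ.TA.KR.Nm.eq_1]
  try have : _root_.True := by simp only [_root_.Cfsg.Agent.BZ.TA.KR.ext.congr_simp]
  try have : _root_.True := by simp only [_root_.Cfsg.Agent.BZ.TA.KB.dl.eq_1]
  try have : _root_.True := by simp only [_root_.Cfsg.Agent.BZ.TA.KR.Nm.congr_simp]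
  try have : _root_.True := by simp only [_root_.Cfsg.Agent.BZ.TA.KR.pr.eq_1]
  try have : _root_.True := by simp only [_root_.Cfsg.Agent.BZ.TA.KB.ex.eq_1]
  try have : _root_.True := by simp only [_root_.Cfsg.Agent.BZ.TA.KB.rt.eq_1]
  exact _root_.True.intro
end

-- part: BZ/L/TA/KAll
section
prune_inst 0x62440444177a2000000048512b22000b13d0004b010400000a0060542010d4060894220014a001409020218011805002002100000400000000aa470000003012000008000810802150e008080008a010000200080000000000000000000000000014010000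
set_option linter.all false
open scoped Cfsg.Agent.FastGrp

-- part: BZ/L/TA/Alt
section
/-!
# BZ / L / TA : the alternating form (helper38)
-/

set_option autoImplicit false

namespace Cfsg.Agent.BZ.TA

open Matrix

namespace Alt

variable {I : Type} [Fintype I] [DecidableEq I]

omit [DecidableEq I] in
theorem symm_dot {C : Matrix I I ℤ} (hs : ∀ i j, C i j = C j i) (β γ : I → ℤ) : β ⬝ᵥ (γ ᵥ* C) = γ ⬝ᵥ (β ᵥ* C) := by
  simp only [dotProduct, vecMul, Finset.mul_sum]
  rw [Finset.sum_comm]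
  refine Finset.sum_congr rfl fun i _ => Finset.sum_congr rfl fun j _ => ?_
  rw [hs i j]; ring

omit [DecidableEq I] in
theorem even_dot {C : Matrix I I ℤ} (hs : ∀ i j, C i j = C j i) (hd : ∀ i, C i i = 2) (β : I → ℤ) : (2 : ℤ) ∣ β ⬝ᵥ (β ᵥ* C) := by
  classical
  have h : ((β ⬝ᵥ (β ᵥ* C) : ℤ) : ZMod 2) = 0 := by
    have e : β ⬝ᵥ (β ᵥ* C) = ∑ p : I × I, β p.1 * (β p.2 * C p.2 p.1) := by
      simp only [dotProduct, vecMul, Finset.mul_sum]
      rw [Fintype.sum_prod_type]
    rw [e, Int.cast_sum]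
    refine Finset.sum_ninvolution (fun p : I × I => (p.2, p.1)) ?_ ?_ (fun _ => Finset.mem_univ _) (fun _ => rfl)
    · rintro ⟨i, j⟩
      have h2 : (2 : ZMod 2) = 0 := rfl
      simp only [hs i j]
      push_cast
      linear_combination ((β i : ZMod 2) * β j * C j i) * h2
    · rintro ⟨i, j⟩ hne heq
      apply hne
      have hij : j = i := congrArg Prod.fst heq
      subst hij
      have h2 : (2 : ZMod 2) = 0 := rfl
      simp only [hd]
      push_cast
      linear_combination ((β j : ZMod 2) * β j) * h2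
  exact_mod_cast (ZMod.intCast_zmod_eq_zero_iff_dvd _ 2).1 h

theorem det_ne {C : Matrix I I ℤ} (hC : Car C 1) : C.det ≠ 0 := by
  intro h
  obtain ⟨v, hv, h0⟩ := Matrix.exists_vecMul_eq_zero_iff.2 h
  have := hC.pos v hv
  simp only [h0, _root_.Pi.one_apply, _root_.mul_one, _root_.Pi.zero_apply, _root_.MulZeroClass.mul_zero, _root_.Finset.sum_const_zero, _root_.lt_self_iff_false] at this

omit [DecidableEq I] in
theorem inj {C : Matrix I I ℤ} (hC : Car C 1) {β γ : I → ℤ} (h : β ᵥ* C = γ ᵥ* C) : β = γ := by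
  by_contra hne
  have := hC.pos (β - γ) (sub_ne_zero.2 hne)
  simp only [sub_vecMul, h, _root_.Pi.sub_apply, _root_.Pi.one_apply, _root_.mul_one, _root_.sub_self, _root_.MulZeroClass.mul_zero, _root_.Finset.sum_const_zero, _root_.lt_self_iff_false] at this

/-- the isometry identity -/
theorem key {C B : Matrix I I ℤ} (hC : Car C 1) (hB : Au C 1 B) {β δ v ν : I → ℤ} (h1 : β ᵥ* C = B *ᵥ v - v)
    (h2 : δ ᵥ* C = B *ᵥ ν - ν) : δ ⬝ᵥ v = -(β ⬝ᵥ (B *ᵥ ν)) := by
  have hs : ∀ i j, C i j = C j i := fun i j => by simpa using hC.sym i j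
  have hε : (v ᵥ* C.adjugate) ᵥ* C = C.det • v := by
    rw [vecMul_vecMul, adjugate_mul, vecMul_smul, vecMul_one]
  set ε := v ᵥ* C.adjugate
  obtain ⟨ε', h3, h4⟩ := hB.iso ε
  have h5 : ε' = ε + C.det • β := by
    apply inj hC
    rw [← h3, add_vecMul, smul_vecMul, h1, hε, mulVec_smul, smul_sub]
    abel
  have h6 : ε' ⬝ᵥ (B *ᵥ ν) = ε ⬝ᵥ ν := by simpa only [dotProduct, _root_.Pi.one_apply, _root_.mul_one] using h4 ν
  have h7 : C.det * (δ ⬝ᵥ v) = ε ⬝ᵥ (B *ᵥ ν) - ε ⬝ᵥ ν := by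
    rw [← dotProduct_sub, ← h2, symm_dot hs, hε, dotProduct_smul, smul_eq_mul]
  rw [h5, add_dotProduct, smul_dotProduct, smul_eq_mul] at h6
  apply mul_left_cancel₀ (det_ne hC)
  linear_combination h7 + h6

/-- the form is alternating -/
theorem alt {C B : Matrix I I ℤ} (hC : Car C 1) (hB : Au C 1 B) {m : ℤ} (hm : m ≠ 0) {β v : I → ℤ}
    (h1 : B *ᵥ v - v = m • (β ᵥ* C)) : m ∣ β ⬝ᵥ v := by
  have hs : ∀ i j, C i j = C j i := fun i j => by simpa using hC.sym i j
  have h2 : (m • β) ᵥ* C = B *ᵥ v - v := by rw [smul_vecMul, h1]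
  have h3 := key hC hB h2 h2
  have h4 : B *ᵥ v = v + m • (β ᵥ* C) := by rw [← h1]; abel
  obtain ⟨t, ht⟩ := even_dot hs hC.diag β
  rw [h4, smul_dotProduct, smul_dotProduct, dotProduct_add, dotProduct_smul, ht, smul_eq_mul, smul_eq_mul, smul_eq_mul] at h3
  refine ⟨-t, ?_⟩
  apply mul_left_cancel₀ (mul_ne_zero two_ne_zero hm)
  linear_combination h3

omit [Fintype I] [DecidableEq I] in
theorem dz_iff {n : ℤ} {v : I → ℤ} : Dz n v ↔ ∃ w : I → ℤ, v = n • w := by
  constructor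
  · intro h
    choose w hw using h
    exact ⟨w, funext hw⟩
  · rintro ⟨w, rfl⟩ i
    exact ⟨w i, rfl⟩

omit [DecidableEq I] in
theorem vv_iff {l : ℕ} {B : Matrix I I ℤ} {e : ℕ} {v : I → ℤ} :
    Vv l 1 B e v ↔ ∃ w : I → ℤ, B *ᵥ v - v = ((l : ℤ) ^ e) • w := by
  rw [Vv, one_smul, dz_iff]

omit [DecidableEq I] in
theorem vv_div {l : ℕ} (hl : l.Prime) {B : Matrix I I ℤ} {e : ℕ} {v : I → ℤ} (h : Vv l 1 B (e + 1) ((l : ℤ) • v)) : Vv l 1 B e v := by
  obtain ⟨w, hw⟩ := vv_iff.1 h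
  refine vv_iff.2 ⟨w, ?_⟩
  have hl0 : (l : ℤ) ≠ 0 := by exact_mod_cast hl.ne_zero
  apply smul_right_injective (I → ℤ) hl0
  show (l : ℤ) • _ = (l : ℤ) • _
  rw [smul_sub, ← mulVec_smul, hw, smul_smul, pow_succ']

omit [DecidableEq I] in
theorem vv_le {l : ℕ} {B : Matrix I I ℤ} {e e' : ℕ} (he : e ≤ e') {v : I → ℤ} (h : Vv l 1 B e' v) : Vv l 1 B e v :=
  fun i => (pow_dvd_pow _ he).trans (h i)

omit [DecidableEq I] in
/-- a primitive fixed point generates -/
theorem cycA {l : ℕ} (hl : l.Prime) {B : Matrix I I ℤ} (hr : ¬ Rk l B 2) {v : I → ℤ} (hv : ¬ Dz l v) :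
    ∀ (e : ℕ) (u : I → ℤ), Vv l 1 B e v → Vv l 1 B e u → ∃ (k : ℤ) (ν : I → ℤ), u = k • v + ((l : ℤ) ^ e) • ν := by
  have hp : Prime (l : ℤ) := Nat.prime_iff_prime_int.1 hl
  intro e
  induction e with
  | zero => intro u _ _; exact ⟨0, u, by simp⟩
  | succ e ih =>
    intro u h1 h2
    have h3 : ∃ a b : ℤ, Dz l (a • u + b • v) ∧ ¬ ((l : ℤ) ∣ a ∧ (l : ℤ) ∣ b) := by
      by_contra hc
      refine hr ⟨![u, v], ?_, fun a ha => ?_⟩
      · intro i
        fin_cases i
        · exact vv_le (Nat.succ_le_succ (Nat.zero_le e)) h2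
        · exact vv_le (Nat.succ_le_succ (Nat.zero_le e)) h1
      · have h4 : (l : ℤ) ∣ a 0 ∧ (l : ℤ) ∣ a 1 := by
          by_contra h5
          exact hc ⟨a 0, a 1, by simpa only [Fin.sum_univ_two, _root_.Fin.isValue, _root_.zsmul_eq_mul, _root_.Matrix.cons_val_zero, _root_.Matrix.cons_val_one, _root_.Matrix.cons_val_fin_one] using ha, h5⟩
        intro i
        fin_cases i
        · exact h4.1
        · exact h4.2
    obtain ⟨a, b, hab, hn⟩ := h3
    have ha : ¬ (l : ℤ) ∣ a := by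
      intro ha
      have hb : ¬ (l : ℤ) ∣ b := fun hb => hn ⟨ha, hb⟩
      refine hv fun i => ?_
      have h5 : (l : ℤ) ∣ a * u i + b * v i := hab i
      exact (hp.dvd_or_dvd ((dvd_add_right (ha.mul_right _)).1 h5)).resolve_left hb
    obtain ⟨x, y, hxy⟩ := (hp.coprime_iff_not_dvd.2 ha)
    obtain ⟨w, hw⟩ := dz_iff.1 hab
    have h6 : u = (-(y * b)) • v + (l : ℤ) • (x • u + y • w) := by
      funext i
      have h7 : a * u i + b * v i = l * w i := congrFun hw i
      show u i = -(y * b) * v i + l * (x * u i + y * w i)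
      linear_combination (-(u i)) * hxy + y * h7
    have h8 : Vv l 1 B (e + 1) ((l : ℤ) • (x • u + y • w)) := by
      have h9 : (l : ℤ) • (x • u + y • w) = u + (y * b) • v := by
        rw [neg_smul] at h6
        rw [add_comm u, ← neg_add_eq_iff_eq_add, ← h6]
      obtain ⟨w1, hw1⟩ := vv_iff.1 h1
      obtain ⟨w2, hw2⟩ := vv_iff.1 h2
      refine vv_iff.2 ⟨w2 + (y * b) • w1, ?_⟩
      rw [h9, mulVec_add, mulVec_smul, smul_add, ← hw2, smul_comm, ← hw1, smul_sub]
      abel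
    obtain ⟨k, ν, hk⟩ := ih _ (vv_le (Nat.le_succ e) h1) (vv_div hl h8)
    refine ⟨-(y * b) + l * k, ν, ?_⟩
    rw [h6, hk, smul_add, smul_smul, smul_smul, add_smul, pow_succ', add_assoc]

omit [DecidableEq I] in
/-- the fixed points form a cyclic group -/
theorem cycB {l : ℕ} (hl : l.Prime) {B : Matrix I I ℤ} (hr : ¬ Rk l B 2) :
    ∀ (e : ℕ) (u v : I → ℤ), Vv l 1 B e u → Vv l 1 B e v → (∃ (k : ℤ) (ν : I → ℤ), u = k • v + ((l : ℤ) ^ e) • ν) ∨
      ∃ (k : ℤ) (ν : I → ℤ), v = k • u + ((l : ℤ) ^ e) • ν := by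
  intro e
  induction e with
  | zero => intro u v _ _; exact Or.inl ⟨0, u, by simp⟩
  | succ e ih =>
    intro u v h1 h2
    by_cases hv : Dz l v
    · by_cases hu : Dz l u
      · obtain ⟨u', rfl⟩ := dz_iff.1 hu
        obtain ⟨v', rfl⟩ := dz_iff.1 hv
        rcases ih u' v' (vv_div hl h1) (vv_div hl h2) with ⟨k, ν, h⟩ | ⟨k, ν, h⟩
        · refine Or.inl ⟨k, ν, ?_⟩
          rw [h, smul_add, smul_comm k, smul_smul (l : ℤ) ((l : ℤ) ^ e), pow_succ']
        · refine Or.inr ⟨k, ν, ?_⟩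
          rw [h, smul_add, smul_comm k, smul_smul (l : ℤ) ((l : ℤ) ^ e), pow_succ']
      · exact Or.inr (cycA hl hr hu _ _ h1 h2)
    · exact Or.inl (cycA hl hr hv _ _ h2 h1)

/-- the form vanishes -/
theorem van {C B : Matrix I I ℤ} {l : ℕ} (hl : l.Prime) (hC : Car C 1) (hB : Au C 1 B) (hr : ¬ Rk l B 2) {e : ℕ} {v β u γ : I → ℤ}
    (h1 : B *ᵥ v - v = ((l : ℤ) ^ e) • (β ᵥ* C)) (h2 : B *ᵥ u - u = ((l : ℤ) ^ e) • (γ ᵥ* C)) : (l : ℤ) ^ e ∣ γ ⬝ᵥ v := by
  have hm : (l : ℤ) ^ e ≠ 0 := pow_ne_zero _ (by exact_mod_cast hl.ne_zero)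
  rcases cycB hl hr e u v (vv_iff.2 ⟨_, h2⟩) (vv_iff.2 ⟨_, h1⟩) with ⟨k, ν, h⟩ | ⟨k, ν, h⟩
  · have h3 : (γ - k • β) ᵥ* C = B *ᵥ ν - ν := by
      apply smul_right_injective (I → ℤ) hm
      show (l : ℤ) ^ e • _ = (l : ℤ) ^ e • _
      rw [sub_vecMul, smul_vecMul, smul_sub, ← h2, smul_comm _ k, ← h1, h, mulVec_add, mulVec_smul, mulVec_smul, smul_sub, smul_sub]
      abel
    have h4 : (((l : ℤ) ^ e) • β) ᵥ* C = B *ᵥ v - v := by rw [smul_vecMul, h1]
    have h5 := key hC hB h4 h3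
    rw [sub_dotProduct, smul_dotProduct, smul_dotProduct, smul_eq_mul, smul_eq_mul] at h5
    obtain ⟨t, ht⟩ := alt hC hB hm h1
    exact ⟨k * t - β ⬝ᵥ (B *ᵥ ν), by linear_combination h5 + k * ht⟩
  · obtain ⟨t, ht⟩ := alt hC hB hm h2
    refine ⟨k * t + γ ⬝ᵥ ν, ?_⟩
    rw [h, dotProduct_add, dotProduct_smul, dotProduct_smul, ht, smul_eq_mul, smul_eq_mul]
    ring

end Alt

open Alt in
/-- **the alternating form** -/
theorem boxAlt : BoxAlt := by
  intro I _ _ C B l hl hC hB hE hr e v β h i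
  have hp : Prime (l : ℤ) := Nat.prime_iff_prime_int.1 hl
  have hl0 : (l : ℤ) ≠ 0 := hp.ne_zero
  rw [one_smul] at h
  have hD : (B - 1).det ≠ 0 := by
    intro h0
    obtain ⟨w, hw, h1⟩ := Matrix.exists_mulVec_eq_zero_iff.2 h0
    rw [sub_mulVec, one_mulVec, sub_eq_zero] at h1
    exact hw (hE w h1)
  obtain ⟨a, s, hs, hD'⟩ := WfDvdMonoid.max_power_factor' hD hp.not_isUnit
  set u := (B - 1).adjugate *ᵥ (Pi.single i 1 ᵥ* C)
  have hu : B *ᵥ u - u = ((l : ℤ) ^ a) • ((Pi.single i s : I → ℤ) ᵥ* C) := by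
    have h1 : (B - 1) *ᵥ u = (B - 1).det • ((Pi.single i 1 : I → ℤ) ᵥ* C) := by
      rw [mulVec_mulVec, mul_adjugate, smul_mulVec, one_mulVec]
    rw [sub_mulVec, one_mulVec] at h1
    rw [h1, hD', mul_smul, ← smul_vecMul s, ← Pi.single_smul', smul_eq_mul, mul_one]
  have h1 : B *ᵥ (((l : ℤ) ^ a) • v) - ((l : ℤ) ^ a) • v = ((l : ℤ) ^ (a + e)) • (β ᵥ* C) := by
    rw [mulVec_smul, ← smul_sub, h, smul_smul, pow_add]
  have h2 : B *ᵥ (((l : ℤ) ^ e) • u) - ((l : ℤ) ^ e) • u = ((l : ℤ) ^ (a + e)) • ((Pi.single i s : I → ℤ) ᵥ* C) := by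
    rw [mulVec_smul, ← smul_sub, hu, smul_smul, pow_add, mul_comm]
  have h3 := van hl hC hB hr h1 h2
  rw [dotProduct_smul, single_dotProduct, smul_eq_mul, pow_add, mul_dvd_mul_iff_left (pow_ne_zero a hl0)] at h3
  exact hp.pow_dvd_of_dvd_mul_left e hs h3

end Cfsg.Agent.BZ.TA
end

-- part: BZ/L/TA/KA
section
/-!
# BZ / L / TA : type `A`, the Coxeter torus is cyclic (helper96)

`boxKA : BoxKA`.
-/

set_option autoImplicit false
set_option maxHeartbeats 400000
set_option linter.unusedSectionVars false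

namespace Cfsg.Agent.BZ.TA

open Matrix Finset

namespace KAp

/-- the vectors of norm two and sum zero -/
theorem root {J : Type} [Fintype J] [DecidableEq J] {y : J → ℤ} (h0 : ∑ a, y a = 0) (h2 : y ⬝ᵥ y = 2) :
    ∃ a b, a ≠ b ∧ y = Pi.single a 1 - Pi.single b 1 := by
  have h1 : ∀ a, y a * y a ≤ 2 := fun a => h2 ▸ single_le_sum (f := fun a => y a * y a) (fun a _ => mul_self_nonneg _) (mem_univ a)
  have h3 : ∀ s : ℤ, s = 1 ∨ s = -1 → ∃ a, y a = s := fun s hs => by
    by_contra h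
    push Not at h
    have h4 : ∑ a, (y a * y a + s * y a) = 0 := sum_eq_zero fun a _ => by
      have h4 := h1 a
      have h5 := h a
      have h6 : -2 < y a := by nlinarith only [h4]
      have h7 : y a < 2 := by nlinarith only [h4]
      generalize y a = t at *
      rcases hs with rfl | rfl <;> interval_cases t <;> simp_all only [_root_.Finset.mem_univ, _root_.ne_eq, _root_.Int.reduceNeg, _root_.mul_neg, _root_.mul_one, _root_.neg_neg, _root_.Nat.one_le_ofNat, _root_.neg_lt_neg_iff, _root_.Order.lt_two_iff, _root_.Std.le_refl, _root_.neg_le_self_iff, _root_.zero_le_one, _root_.reduceCtorEq, _root_.not_false_eq_true, _root_.add_neg_cancel, _root_.MulZeroClass.mul_zero, _root_.Nat.ofNat_nonneg, _root_.Int.neg_neg_iff_pos, _root_.zero_ne_one, _root_.add_zero, _root_.Int.reduceLT, _root_.not_true_eq_false, _root_.zero_eq_neg, _root_.one_ne_zero]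
    rw [sum_add_distrib, ← mul_sum, h0] at h4
    have h5 : (2 : ℤ) + s * 0 = 0 := h2 ▸ h4
    omega
  obtain ⟨a, ha⟩ := h3 1 (.inl rfl)
  obtain ⟨b, hb⟩ := h3 (-1) (.inr rfl)
  have hab : a ≠ b := fun e => by
    rw [e, hb] at ha
    omega
  refine ⟨a, b, hab, sub_eq_zero.1 (dotProduct_self_eq_zero.1 ?_)⟩
  simp only [sub_dotProduct, dotProduct_sub, h2, single_dotProduct, dotProduct_single]
  simp [ha, hb, hab, hab.symm]

theorem star {J α : Type} [Nonempty J] {a b : J → α}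
    (h : ∀ j k, j ≠ k → (a j = a k ∧ b j ≠ b k) ∨ (b j = b k ∧ a j ≠ a k)) :
    ((∃ c, ∀ j, b j = c) ∧ Function.Injective a) ∨ ((∃ c, ∀ j, a j = c) ∧ Function.Injective b) := by
  by_cases h1 : Function.Injective b
  · obtain ⟨i⟩ := ‹Nonempty J›
    refine .inr ⟨⟨a i, fun j => by_contra fun e => ?_⟩, h1⟩
    have h2 : j ≠ i := fun e' => e (e' ▸ rfl)
    exact (h j i h2).elim (fun h3 => e h3.1) fun h3 => h2 (h1 h3.1)
  · obtain ⟨j, k, h2, h3⟩ := Function.not_injective_iff.1 h1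
    have h4 : ∀ m, b m = b j := fun m => by_contra fun e => by
      have h4 := (h m j fun e' => e (e' ▸ rfl)).resolve_right fun h4 => e h4.1
      have h5 := (h m k fun e' => e (e' ▸ h2.symm)).resolve_right fun h5 => e (h5.1.trans h2.symm)
      exact ((h j k h3).resolve_left fun h6 => h6.2 h2).2 (h4.1.symm.trans h5.1)
    exact .inl ⟨⟨_, h4⟩, fun m i e => by_contra fun e' =>
      (h m i e').elim (fun h5 => h5.2 ((h4 m).trans (h4 i).symm)) fun h5 => h5.2 e⟩

variable {I : Type} [Fintype I] [DecidableEq I] {n : ℕ}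

/-- the differences -/
def Pm (e : Fin n ≃ I) : Matrix I (Fin (n + 1)) ℤ :=
  .of fun i => Pi.single (e.symm i).castSucc 1 - Pi.single (e.symm i).succ 1

/-- the partial sums -/
def Qv (e : Fin n ≃ I) (v : I → ℤ) : Fin (n + 1) → ℤ := fun a => ∑ k : Fin n, if (a : ℕ) ≤ k then v (e k) else 0

theorem P_apply (e : Fin n ≃ I) (x : Fin (n + 1) → ℤ) (k : Fin n) : (Pm e *ᵥ x) (e k) = x k.castSucc - x k.succ := by
  change (Pi.single (e.symm (e k)).castSucc 1 - Pi.single (e.symm (e k)).succ 1) ⬝ᵥ x = _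
  rw [sub_dotProduct, single_one_dotProduct, single_one_dotProduct, e.symm_apply_apply]

theorem PQ (e : Fin n ≃ I) (v : I → ℤ) : Pm e *ᵥ Qv e v = v := funext fun i => by
  obtain ⟨k, rfl⟩ := e.surjective i
  rw [P_apply, Qv, Qv, ← sum_sub_distrib, sum_eq_single k]
  · simp
  · intro j _ hj
    have h1 : (j : ℕ) ≠ k := fun h => hj (Fin.ext h)
    simp only [Fin.val_castSucc, Fin.val_succ]
    split_ifs <;> omega
  · simp only [_root_.Finset.mem_univ, _root_.not_true_eq_false, _root_.Fin.val_castSucc, _root_.Std.le_refl, ↓ _root_.reduceIte, _root_.Fin.val_succ, _root_.add_le_iff_nonpos_right, _root_.nonpos_iff_eq_zero, _root_.one_ne_zero, _root_.sub_zero, _root_.IsEmpty.forall_iff]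

theorem const (e : Fin n ≃ I) {x x' : Fin (n + 1) → ℤ} (h : Pm e *ᵥ x = Pm e *ᵥ x') : ∃ c, ∀ a, x a = x' a + c := by
  refine ⟨x 0 - x' 0, fun a => ?_⟩
  induction a using Fin.induction with
  | zero => ring
  | succ k ih =>
    have h1 := congrFun h (e k)
    rw [P_apply, P_apply] at h1
    omega

theorem P_const (e : Fin n ≃ I) {x x' : Fin (n + 1) → ℤ} {c : ℤ} (h : ∀ a, x a = x' a + c) : Pm e *ᵥ x = Pm e *ᵥ x' :=
  funext fun i => by
    obtain ⟨k, rfl⟩ := e.surjective i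
    rw [P_apply, P_apply, h, h]
    ring

theorem dot_eq (e : Fin n ≃ I) {y x x' : Fin (n + 1) → ℤ} (hy : ∑ a, y a = 0) (h : Pm e *ᵥ x = Pm e *ᵥ x') :
    y ⬝ᵥ x = y ⬝ᵥ x' := by
  obtain ⟨c, hc⟩ := const e h
  simp only [dotProduct, hc, mul_add, sum_add_distrib, ← sum_mul, hy, zero_mul, add_zero]

theorem sum_zero (e : Fin n ≃ I) (β : I → ℤ) : ∑ a, (β ᵥ* Pm e) a = 0 := by
  have h1 := dotProduct_mulVec β (Pm e) (fun _ => 1)
  rw [P_const e (x' := 0) (c := 1) (by simp), mulVec_zero, dotProduct_zero] at h1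
  simpa [dotProduct] using h1.symm

theorem exists_beta (e : Fin n ≃ I) {y : Fin (n + 1) → ℤ} (hy : ∑ a, y a = 0) : ∃ β, β ᵥ* Pm e = y := by
  refine ⟨fun i => y ⬝ᵥ Qv e (Pi.single i 1), dotProduct_eq _ _ fun x => ?_⟩
  rw [← dotProduct_mulVec, dot_eq e hy (PQ e (Pm e *ᵥ x)).symm]
  generalize Pm e *ᵥ x = v
  simp only [dotProduct, Qv, sum_mul, mul_sum]
  rw [sum_comm]
  refine sum_congr rfl fun a _ => ?_
  rw [sum_comm]
  refine sum_congr rfl fun k _ => ?_
  split_ifs <;> simp only [Pi.single_apply, _root_.mul_ite, _root_.mul_one, _root_.MulZeroClass.mul_zero, _root_.ite_mul, _root_.MulZeroClass.zero_mul, _root_.Finset.sum_ite_eq, _root_.Finset.mem_univ, ↓ _root_.reduceIte, _root_.Finset.sum_const_zero]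

theorem vec_C {C : Matrix I I ℤ} (e : Fin n ≃ I) (h : ∀ i j, C (e i) (e j) = cA i j) (β : I → ℤ) :
    β ᵥ* C = Pm e *ᵥ (β ᵥ* Pm e) := by
  rw [← vecMul_transpose, vecMul_vecMul]
  congr 1
  ext i j
  obtain ⟨i, rfl⟩ := e.surjective i
  obtain ⟨j, rfl⟩ := e.surjective j
  have h1 := P_apply e (Pm e (e j)) i
  rw [h, show (Pm e * (Pm e)ᵀ) (e i) (e j) = _ from h1]
  simp only [cA, Pm, of_apply, Equiv.symm_apply_apply, Pi.sub_apply, Pi.single_apply, Fin.ext_iff, Fin.val_castSucc, Fin.val_succ]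
  split_ifs <;> omega

/-- an isometry is a signed permutation -/
theorem perm {C B : Matrix I I ℤ} (e : Fin n ≃ I) (h : ∀ i j, C (e i) (e j) = cA i j) (hn : 0 < n) (hB : Au C 1 B) :
    ∃ (s : ℤ) (σ : Fin (n + 1) → Fin (n + 1)), (s = 1 ∨ s = -1) ∧ Function.Bijective σ ∧
      ∀ x x', Pm e *ᵥ x' = B *ᵥ (Pm e *ᵥ x) → ∃ c, ∀ j, x' (σ j) = s * x j + c := by
  have h1 : ∀ j : Fin n, ∃ y : Fin (n + 1) → ℤ, ∑ a, y a = 0 ∧
      Pm e *ᵥ y = B *ᵥ (Pm e *ᵥ (Pi.single j.succ 1 - Pi.single 0 1)) ∧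
      ∀ x x', Pm e *ᵥ x' = B *ᵥ (Pm e *ᵥ x) → y ⬝ᵥ x' = x j.succ - x 0 := fun j => by
    obtain ⟨β, hβ⟩ := exists_beta e (y := Pi.single j.succ 1 - Pi.single 0 1) (by simp only [_root_.Pi.sub_apply, _root_.Finset.sum_sub_distrib, _root_.Finset.sum_pi_single', _root_.Finset.mem_univ, ↓ _root_.reduceIte, _root_.sub_self])
    obtain ⟨β', h1, h2⟩ := hB.iso β
    refine ⟨β' ᵥ* Pm e, sum_zero e _, by rw [← vec_C e h, ← h1, vec_C e h, hβ], fun x x' hx => ?_⟩
    have h3 := h2 (Pm e *ᵥ x)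
    simp only [Pi.one_apply, mul_one] at h3
    rw [← dotProduct_mulVec, hx, show β' ⬝ᵥ _ = β ⬝ᵥ _ from h3, dotProduct_mulVec, hβ]
    simp
  choose y h2 h3 h4 using h1
  have h5 : ∀ j, ∃ a b, a ≠ b ∧ y j = Pi.single a 1 - Pi.single b 1 := fun j => root (h2 j) (by
    rw [h4 j _ _ (h3 j)]
    simp [Fin.succ_ne_zero, (Fin.succ_ne_zero j).symm])
  choose a b h5 h6 using h5
  have h7 : ∀ j x x', Pm e *ᵥ x' = B *ᵥ (Pm e *ᵥ x) → x' (a j) - x' (b j) = x j.succ - x 0 := fun j x x' hx => by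
    rw [← h4 j x x' hx, h6]
    simp
  have : Nonempty (Fin n) := ⟨⟨0, hn⟩⟩
  rcases star (a := a) (b := b) (fun j k hjk => by
    have h8 := h7 j _ _ (h3 k)
    have h9 := h5 j
    have h10 := h5 k
    rw [h6] at h8
    simp only [Pi.sub_apply, Pi.single_apply, Fin.succ_inj, hjk, Fin.succ_ne_zero, (Fin.succ_ne_zero k).symm] at h8
    split_ifs at h8 <;> simp_all only [_root_.not_isEmpty_of_nonempty, _root_.IsEmpty.forall_iff, _root_.implies_true, _root_.Finset.univ_eq_empty, _root_.Pi.sub_apply, _root_.Finset.sum_sub_distrib, _root_.Finset.sum_pi_single', _root_.Finset.notMem_empty, ↓ _root_.reduceIte, _root_.sub_self, _root_.Matrix.mulVec_mulVec, _root_.Matrix.dotProduct_of_isEmpty, _root_.ne_eq, _root_.not_true_eq_false, _root_.Finset.mem_univ, _root_.sub_dotProduct, _root_.single_dotProduct, _root_.one_mul, _root_.not_false_eq_true, _root_.zero_sub, _root_.Int.reduceNeg, _root_.sub_neg_eq_add, _root_.zero_add, _root_.zero_ne_one, _root_.sub_zero,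 _root_.Int.reduceAdd, _root_.OfNat.ofNat_ne_one, _root_.and_self, _root_.or_false, _root_.Int.reduceSub, _root_.reduceCtorEq, _root_.or_true]) with ⟨⟨c, hc⟩, hi⟩ | ⟨⟨c, hc⟩, hi⟩
  · refine ⟨1, Fin.cons c a, .inl rfl, Finite.injective_iff_bijective.1 (Fin.cons_injective_iff.2
      ⟨fun ⟨j, hj⟩ => h5 j (hj.trans (hc j).symm), hi⟩), fun x x' hx => ⟨x' c - x 0, fun j => ?_⟩⟩
    refine Fin.cases (by simp) (fun j => ?_) j
    have h8 := h7 j x x' hx
    rw [hc] at h8
    simp only [Fin.cons_succ]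
    omega
  · refine ⟨-1, Fin.cons c b, .inr rfl, Finite.injective_iff_bijective.1 (Fin.cons_injective_iff.2
      ⟨fun ⟨j, hj⟩ => h5 j ((hc j).trans hj.symm), hi⟩), fun x x' hx => ⟨x' c + x 0, fun j => ?_⟩⟩
    refine Fin.cases (by simp) (fun j => ?_) j
    have h8 := h7 j x x' hx
    rw [hc] at h8
    simp only [Fin.cons_succ]
    omega

end KAp

open KAp

theorem boxKA : BoxKA := by
  rintro I _ _ C B l n hl h2 ⟨m, hm⟩ ⟨e, he⟩ hB hE hT ⟨f, hf, hi⟩
  have hm0 : 0 < m := Nat.pos_of_ne_zero fun h => by simp [h] at hm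
  have hl2 := hl.two_le
  obtain ⟨s, σ, hs, hσ, h⟩ := perm e he (by nlinarith) hB
  have hm' : (n : ℤ) + 1 = l * m := by exact_mod_cast hm
  obtain rfl : s = 1 := by
    refine hs.resolve_right ?_
    rintro rfl
    obtain ⟨β, hβ⟩ := exists_beta e (y := fun a => (Pi.single 0 (n + 1 : ℤ) : Fin (n + 1) → ℤ) a - 1) (by simp only [_root_.Finset.sum_sub_distrib, _root_.Finset.sum_pi_single', _root_.Finset.mem_univ, ↓ _root_.reduceIte, _root_.Finset.sum_const, _root_.Finset.card_univ, _root_.Fintype.card_fin, _root_.Int.nsmul_eq_mul, _root_.Nat.cast_add, _root_.Nat.cast_one, _root_.mul_one, _root_.sub_self])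
    obtain ⟨β', h3⟩ := hT (Pm e *ᵥ Pi.single 0 (m : ℤ)) β (by
      rw [vec_C e he, hβ, ← mulVec_smul]
      refine P_const e (c := 1) fun a => ?_
      simp only [Pi.smul_apply, Pi.single_apply, smul_eq_mul]
      split_ifs <;> omega)
    obtain ⟨c, hc⟩ := h (Pi.single 0 (m : ℤ)) (β' ᵥ* Pm e + Pi.single 0 (m : ℤ)) (by
      rw [mulVec_add, ← vec_C e he, ← h3, sub_add_cancel])
    have h4 := hσ.sum_comp (β' ᵥ* Pm e + Pi.single 0 (m : ℤ))
    simp only [hc] at h4
    simp only [Pi.add_apply, sum_add_distrib, sum_zero, ← mul_sum, sum_pi_single', mem_univ, if_true, sum_const, card_univ,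
      Fintype.card_fin, nsmul_eq_mul] at h4
    push_cast at h4
    rw [hm'] at h4
    have h5 : (l : ℤ) ∣ 2 := ⟨c, mul_right_cancel₀ (b := (m : ℤ)) (by omega) (by linarith only [h4])⟩
    exact h2 ((Nat.prime_dvd_prime_iff_eq hl Nat.prime_two).1 (by exact_mod_cast h5))
  have h3 : ∀ i, ∃ c : ℤ, ∀ j, (l : ℤ) ∣ Qv e (f i) (σ j) - Qv e (f i) j - c := fun i => by
    choose w hw using hf i
    obtain ⟨c, hc⟩ := h (Qv e (f i)) (Qv e (f i) + (l : ℤ) • Qv e w) (by
      rw [mulVec_add, mulVec_smul, PQ, PQ]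
      funext k
      have h3 := hw k
      simp only [Pi.sub_apply, Pi.add_apply, Pi.smul_apply, smul_eq_mul, one_mul, pow_one] at h3 ⊢
      omega)
    refine ⟨c, fun j => ⟨-Qv e w (σ j), ?_⟩⟩
    have h3 := hc j
    simp only [Pi.add_apply, Pi.smul_apply, smul_eq_mul] at h3
    linarith only [h3]
  choose c hc using h3
  have key : ∀ a : Fin 2 → ℤ, (l : ℤ) ∣ a 0 * c 0 + a 1 * c 1 → ∀ i, (l : ℤ) ∣ a i := fun a ha => by
    obtain ⟨z, hz⟩ : ∃ z, z = a 0 • Qv e (f 0) + a 1 • Qv e (f 1) := ⟨_, rfl⟩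
    have h3 : ∀ j, z (σ j) % l = z j % l := fun j => by
      refine Int.ModEq.symm (Int.modEq_iff_dvd.2 ?_)
      have h3 := dvd_add (dvd_add ((hc 0 j).mul_left (a 0)) ((hc 1 j).mul_left (a 1))) ha
      refine (congrArg ((l : ℤ) ∣ ·) ?_).mp h3
      rw [hz]
      simp only [Pi.add_apply, Pi.smul_apply, smul_eq_mul]
      ring
    obtain ⟨k, hk⟩ := h (fun j => z j % l) _ (PQ e _)
    have h4 := hE (Pm e *ᵥ fun j => z j % l) (by
      rw [← PQ e (B *ᵥ _)]
      refine P_const e (c := k) fun j => ?_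
      obtain ⟨j, rfl⟩ := hσ.2 j
      rw [hk, h3, one_mul])
    refine hi a fun i => ⟨(Pm e *ᵥ fun j => z j / l) i, ?_⟩
    have h5 : z = (fun j => z j % l) + (l : ℤ) • fun j => z j / l := funext fun j => (Int.emod_add_mul_ediv _ _).symm
    have h6 := congrArg (Pm e *ᵥ ·) hz
    simp only [mulVec_add, mulVec_smul, PQ] at h6
    rw [Fin.sum_univ_two, ← h6]
    conv_lhs => rw [h5, mulVec_add, mulVec_smul, h4, zero_add]
    rfl
  have h4 := key ![c 1, -c 0] (by simp [mul_comm]) 1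
  have h5 := key ![1, 0] (by simpa only [_root_.Fin.isValue, _root_.Matrix.cons_val_zero, _root_.one_mul, _root_.Matrix.cons_val_one, _root_.Matrix.cons_val_fin_one, _root_.MulZeroClass.zero_mul, _root_.add_zero, _root_.dvd_neg] using h4) 0
  exact hl.one_lt.ne' (by exact_mod_cast Int.eq_one_of_dvd_one (by positivity) h5)

end Cfsg.Agent.BZ.TA
end

-- part: BZ/L/TA/KAll
section
/-!
# BZ / L / TA : the lattice lemma (helper91)
-/

set_option autoImplicit false

namespace Cfsg.Agent.BZ.TA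

/-- **the lattice lemma** -/
theorem boxK : BoxK := boxK_of (boxKI_of boxCl boxOm boxAlt boxKA boxKE boxKB)

end Cfsg.Agent.BZ.TA
end

private theorem dce_fe809998ae52 : _root_.True := by
  try have : _root_.True := by simp only [_root_.Cfsg.Agent.BZ.TA.KAp.Pm.eq_1]
  try have : _root_.True := by simp only [_root_.Cfsg.Agent.BZ.TA.KAp.Qv.eq_1]
  try have : _root_.True := by simp only [_root_.Cfsg.Agent.BZ.TA.cA.eq_1]
  try have : _root_.True := by simp only [_root_.Cfsg.Agent.BZ.TA.Au.congr_simp]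
  exact _root_.True.intro
end

-- part: BZ/X/O82Chk
section
prune_inst 0x62460544177a2000000048512f2203fb7fd0005b2102b8000a9060f420b4d6f228942af204ea0140b9266b2891805006002100040400000000aa474000003012008aad60473a5a31d8e008680308f590c00200080000000000000000000000000014010000
set_option linter.all false
open scoped Cfsg.Agent.FastGrp

/-!
# BZ-X-o82 : the checks of the tables (helper76)
-/

set_option autoImplicit false
set_option maxRecDepth 100000
set_option Elab.async false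

namespace Cfsg.Agent.BZ.X.O82

open Cfsg.Agent.OddHalf.D9.EEight.Id Cfsg.Agent.OddHalf.D9.EEight.Id.Homs Cfsg.Agent.OddHalf.D9.EEight.Id.HomChk
open Cfsg.Agent.OddHalf.D9.EEight.Id.HomData Cfsg.Agent.KFacts.OddLift.Basic
open Cfsg.Agent.SporadicRecognition.CosetCertHyp (invw)

/-- an entry of a matrix -/
def ent (T k : ℕ) : ℤ := ((T >>> (4 * k) % 16 : ℕ) : ℤ) - 6

/-- the graph -/
def adj (a b : ℕ) : Bool := Nat.testBit AD (135 * a + b)

/-- digits of width `w` -/
private noncomputable def pk (w : ℕ) (f : ℕ → ℕ) (n : ℕ) : ℕ :=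
  Nat.rec 0 (fun i r => Nat.add (Nat.shiftLeft (f i) (Nat.mul w i)) r) n

private noncomputable def sm (f : ℕ → ℕ) (n : ℕ) : ℕ := Nat.rec 0 (fun i r => Nat.add r (f i)) n

private noncomputable def al (f : ℕ → Bool) (n : ℕ) : Bool := Nat.rec true (fun i r => and (f i) r) n

private theorem al_spec {f : ℕ → Bool} : ∀ {n}, al f n = true → ∀ i < n, f i = true
  | 0, _, _, h => absurd h (Nat.not_lt_zero _)
  | n + 1, e, i, h => by
    have e' : f n = true ∧ al f n = true := Bool.and_eq_true_iff.1 e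
    exact (Nat.lt_succ_iff_lt_or_eq.1 h).elim (al_spec e'.2 i) fun h => h ▸ e'.1

private theorem al_of {f : ℕ → Bool} : ∀ {n}, (∀ i < n, f i = true) → al f n = true
  | 0, _ => rfl
  | n + 1, h => Bool.and_eq_true_iff.2 ⟨h n (Nat.lt_succ_self n), al_of fun i hi => h i (Nat.lt_succ_of_lt hi)⟩

@[reducible] private noncomputable def ball (n : ℕ) (P : ℕ → Prop) [DecidablePred P] : Decidable (∀ i < n, P i) :=
  decidable_of_iff (al (fun i => decide (P i)) n = true)
    ⟨fun h i hi => of_decide_eq_true (al_spec h i hi), fun h => al_of fun i hi => decide_eq_true (h i hi)⟩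

attribute [local instance 10000] ball

private theorem sm_eq (f : ℕ → ℕ) : ∀ n, sm f n = ∑ i ∈ Finset.range n, f i
  | 0 => rfl
  | n + 1 => by rw [Finset.sum_range_succ, ← sm_eq f n]; rfl

private theorem pk_succ (w : ℕ) (f : ℕ → ℕ) (n : ℕ) : pk w f (n + 1) = 2 ^ (w * n) * f n + pk w f n :=
  congrArg (· + pk w f n) ((Nat.shiftLeft_eq _ _).trans (mul_comm _ _))

private theorem pk_eq (w : ℕ) (f : ℕ → ℕ) : ∀ n, pk w f n = ∑ i ∈ Finset.range n, 2 ^ (w * i) * f i
  | 0 => rfl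
  | n + 1 => by rw [Finset.sum_range_succ, ← pk_eq w f n, pk_succ, add_comm]

private theorem pk_lt {w : ℕ} {f : ℕ → ℕ} : ∀ {n}, (∀ i < n, f i < 2 ^ w) → pk w f n < 2 ^ (w * n)
  | 0, _ => Nat.one_pos
  | n + 1, h => by
    have h1 := pk_lt (n := n) fun i hi => h i (by omega)
    have h2 := Nat.mul_le_mul_left (2 ^ (w * n)) (Nat.succ_le_of_lt (h n (by omega)))
    rw [pk_succ, mul_add, mul_one, pow_add]
    rw [Nat.mul_succ] at h2
    omega

private theorem pk_bit {w : ℕ} {f : ℕ → ℕ} {c : ℕ} (hc : c < w) : ∀ {n}, (∀ i < n, f i < 2 ^ w) → ∀ i < n,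
    (pk w f n).testBit (w * i + c) = (f i).testBit c
  | 0, _, _, h => absurd h (Nat.not_lt_zero _)
  | n + 1, h, i, hi => by
    rw [pk_succ, Nat.testBit_two_pow_mul_add _ (pk_lt fun i hi => h i (by omega))]
    obtain hi | rfl := Nat.lt_succ_iff_lt_or_eq.1 hi
    · have := Nat.mul_le_mul_left w (Nat.succ_le_of_lt hi)
      rw [Nat.mul_succ] at this
      rw [if_pos (by omega), pk_bit hc (fun i hi => h i (by omega)) i hi]
    · rw [if_neg (by omega), Nat.add_sub_cancel_left]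

private theorem pk_dig {w : ℕ} {f : ℕ → ℕ} {n : ℕ} (h : ∀ i < n, f i < 2 ^ w) {i : ℕ} (hi : i < n) :
    pk w f n >>> (w * i) % 2 ^ w = f i := Nat.eq_of_testBit_eq fun c => by
  rw [Nat.testBit_mod_two_pow, Nat.testBit_shiftRight]
  by_cases hc : c < w
  · rw [pk_bit hc h i hi, decide_eq_true hc, Bool.true_and]
  · rw [decide_eq_false hc, Bool.false_and]
    exact (Nat.testBit_lt_two_pow ((h i hi).trans_le (Nat.pow_le_pow_right (by omega) (by omega)))).symm

private noncomputable def _root_.Cfsg.Agent.LsF.f3d1f80_0 : {f // @Cfsg.Agent.OddHalf.D9.EEight.Id.HomChk.look = f} := ⟨_, by first | (delta Cfsg.Agent.OddHalf.D9.EEight.Id.HomChk.look; rewrite [Cfsg.Agent.LsF.ndiv_pat, Cfsg.Agent.LsF.nmod_pat, Cfsg.Agent.LsF.npow_pat]; exact rfl) | exact rfl⟩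
private noncomputable def _root_.Cfsg.Agent.LsF.f3d1f80_1 : {f // @Cfsg.Agent.BZ.X.O82.PT = f} := ⟨_, by first | (delta Cfsg.Agent.BZ.X.O82.PT; (try delta Cfsg.Agent.BZ.X.O82.PT.match_1); (try rewrite [Cfsg.Agent.LsF.instDecEq_eq, Cfsg.Agent.LsF.dite_eq]); exact rfl) | exact rfl⟩
private noncomputable def _root_.Cfsg.Agent.LsF.f3d1f80_2 : {f // @Cfsg.Agent.KFacts.OddLift.Basic.iv = f} := ⟨_, by first | (delta Cfsg.Agent.KFacts.OddLift.Basic.iv; rewrite [Cfsg.Agent.LsF.nadd_pat, Cfsg.Agent.LsF.nsub_pat, Cfsg.Agent.LsF.nmod_pat, Cfsg.Agent.LsF.instDecEq_eq, Cfsg.Agent.LsF.ite_eq]; exact rfl) | exact rfl⟩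
private noncomputable def _root_.Cfsg.Agent.LsF.f3d1f80_4 : {f // @Cfsg.Agent.BZ.X.O82.ball = f} := ⟨_, by first | (delta Cfsg.Agent.BZ.X.O82.ball; rewrite [Cfsg.Agent.LsF.dIff_eq, Cfsg.Agent.LsF.dBoolEq_eq]; exact rfl) | exact rfl⟩
theorem pt_ok : ∀ y < 14, ∀ i < 135, look (PT y) i < 135 ∧ look (PT (iv y)) (look (PT y) i) = i := by (refine of_decide_eq_true ?_; (try (rewrite [Cfsg.Agent.LsF.f3d1f80_0.2, Cfsg.Agent.LsF.f3d1f80_1.2, Cfsg.Agent.LsF.f3d1f80_2.2, Cfsg.Agent.LsF.f3d1f80_4.2, Cfsg.Agent.LsF.instDecEq_eq, Cfsg.Agent.LsF.decLt_eq, Cfsg.Agent.LsF.dAnd_eq, Cfsg.Agent.LsF.decide_eq])); decide +kernel)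

private noncomputable def on1 : ℕ := pk 135 (fun _ => 1) 135

private noncomputable def rws (T : ℕ) : ℕ := pk 135 (fun a => AD >>> (135 * look T a) % 2 ^ 135) 135

private theorem adj_of {T : ℕ} (h0 : ∀ b < 135, look T b < 135)
    (h : al (fun b => Nat.beq (Nat.land (rws T >>> look T b) on1) (Nat.land (AD >>> b) on1)) 135 = true) :
    ∀ a < 135, ∀ b < 135, adj (look T a) (look T b) = adj a b := fun a ha b hb => by
  have h1 : (rws T >>> look T b &&& on1).testBit (135 * a + 0) = (AD >>> b &&& on1).testBit (135 * a + 0) :=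
    congrArg (Nat.testBit · _) (Nat.eq_of_beq_eq_true (al_spec h b hb))
  rw [Nat.testBit_and, Nat.testBit_and, on1, pk_bit (by omega) (fun _ _ => by norm_num) a ha, Nat.testBit_shiftRight,
    Nat.testBit_shiftRight, add_zero, add_comm, add_comm b, rws,
    pk_bit (h0 b hb) (fun _ _ => Nat.mod_lt _ (by positivity)) a ha, Nat.testBit_mod_two_pow, Nat.testBit_shiftRight,
    decide_eq_true (h0 b hb)] at h1
  simpa [adj] using h1

theorem adj_inv : ∀ j < 7, ∀ a < 135, ∀ b < 135, adj (look (PT (2 * j)) a) (look (PT (2 * j)) b) = adj a b := fun j hj =>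
  adj_of (fun b hb => (pt_ok _ (by omega) b hb).1) (al_spec (n := 7) (f := fun j => al (fun b => Nat.beq
    (Nat.land (rws (PT (2 * j)) >>> look (PT (2 * j)) b) on1) (Nat.land (AD >>> b) on1)) 135) (by decide +kernel) j hj)

private noncomputable def _root_.Cfsg.Agent.LsF.f3d1f80_5 : {f // @Cfsg.Agent.BZ.X.O82.adj = f} := ⟨_, by first | (delta Cfsg.Agent.BZ.X.O82.adj; rewrite [Cfsg.Agent.LsF.nadd_pat, Cfsg.Agent.LsF.nmul_pat, Cfsg.Agent.LsF.testBit_eq]; exact rfl) | exact rfl⟩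
theorem adj_symm : ∀ a < 135, adj a a = false ∧ ∀ b < 135, adj a b = adj b a := by (refine of_decide_eq_true ?_; (try (rewrite [Cfsg.Agent.LsF.f3d1f80_5.2, Cfsg.Agent.LsF.f3d1f80_4.2, Cfsg.Agent.LsF.dAnd_eq, Cfsg.Agent.LsF.dBoolEq_eq, Cfsg.Agent.LsF.decide_eq])); decide +kernel)

theorem adj_card : ∀ a : Fin 135, (Finset.univ.filter fun b : Fin 135 => adj a b = true).card = 70 := by (refine of_decide_eq_true ?_; (try (rewrite [Cfsg.Agent.LsF.f3d1f80_5.2, Cfsg.Agent.LsF.finFintype_eq, Cfsg.Agent.LsF.fcard_eq, Cfsg.Agent.LsF.ffilter_eq, Cfsg.Agent.LsF.instDecEq_eq, Cfsg.Agent.LsF.dBoolEq_eq, Cfsg.Agent.LsF.dForallFin_eq, Cfsg.Agent.LsF.decide_eq])); decide +kernel)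

private noncomputable def _root_.Cfsg.Agent.LsF.f3d1f80_6 : {f // @Cfsg.Agent.OddHalf.D9.EEight.Id.Homs.run = f} := ⟨_, by first | (delta Cfsg.Agent.OddHalf.D9.EEight.Id.Homs.run List.brecOn List.brecOn.go Cfsg.Agent.OddHalf.D9.EEight.Id.Homs.run._f; rewrite [Cfsg.Agent.LsF.f3d1f80_0.2]; (try delta Cfsg.Agent.OddHalf.D9.EEight.Id.Homs.run.match_1); (try delta List.casesOn); first | dsimp -zeta only | exact rfl) | exact rfl⟩
theorem pt_rel : ∀ r ∈ w1 :: Bound.rels, (∀ y ∈ r, y < 14) ∧ ∀ i < 135, run PT r i = i := by (refine of_decide_eq_true ?_; (try (rewrite [Cfsg.Agent.LsF.f3d1f80_6.2, Cfsg.Agent.LsF.f3d1f80_1.2, Cfsg.Agent.LsF.f3d1f80_4.2, Cfsg.Agent.LsF.instDecEq_eq, Cfsg.Agent.LsF.decLt_eq, Cfsg.Agent.LsF.dAnd_eq, Cfsg.Agent.LsF.dBAll_eq, Cfsg.Agent.LsF.decide_eq])); decide +kernel)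

theorem wu_ok : ∀ x < 135, (∀ y ∈ WU.getD x [], y < 14) ∧ run PT (WU.getD x []) 0 = x := by (refine of_decide_eq_true ?_; (try (rewrite [Cfsg.Agent.LsF.f3d1f80_6.2, Cfsg.Agent.LsF.f3d1f80_1.2, Cfsg.Agent.LsF.f3d1f80_4.2, Cfsg.Agent.LsF.instDecEq_eq, Cfsg.Agent.LsF.decLt_eq, Cfsg.Agent.LsF.getD_eq, Cfsg.Agent.LsF.dAnd_eq, Cfsg.Agent.LsF.dBAll_eq, Cfsg.Agent.LsF.decide_eq])); decide +kernel)

theorem wv_ok : ∀ x < 135, x ≠ 0 → (∀ y ∈ WV.getD x [], y < 14) ∧ run PT (WV.getD x []) 0 = 0 ∧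
    run PT (WV.getD x []) (if adj 0 x = true then 5 else 1) = x := by (refine of_decide_eq_true ?_; (try (rewrite [Cfsg.Agent.LsF.f3d1f80_6.2, Cfsg.Agent.LsF.f3d1f80_1.2, Cfsg.Agent.LsF.f3d1f80_5.2, Cfsg.Agent.LsF.f3d1f80_4.2, Cfsg.Agent.LsF.instDecEq_eq, Cfsg.Agent.LsF.decLt_eq, Cfsg.Agent.LsF.getD_eq, Cfsg.Agent.LsF.dAnd_eq, Cfsg.Agent.LsF.dNot_eq, Cfsg.Agent.LsF.dBoolEq_eq, Cfsg.Agent.LsF.dBAll_eq, Cfsg.Agent.LsF.dAllP_eq, Cfsg.Agent.LsF.ite_eq, Cfsg.Agent.LsF.decide_eq])); decide +kernel)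

/-- the tables of a family of words -/
def Fam (Z : List (List ℕ)) (F I z : ℕ) : Prop :=
  ∀ i < 64, (∀ y ∈ Z.getD i [], y < 14) ∧ (∀ y ∈ invw iv (Z.getD i []), y < 14) ∧ run PT (Z.getD i []) 0 = 0 ∧
    run PT (Z.getD i []) z = z ∧ ∀ a < 8, ∀ b < 8, cf (run T1 (Z.getD i []) (7 - a)) b = ent F (64 * (8 * b + a) + i) ∧
      cf (run T1 (invw iv (Z.getD i [])) (7 - a)) b = ent I (64 * (8 * a + b) + i)

private noncomputable def _root_.Cfsg.Agent.LsF.f3d1f80_7 : {f // @Cfsg.Agent.SporadicRecognition.CosetCertHyp.invw = f} := ⟨_, by first | (delta Cfsg.Agent.SporadicRecognition.CosetCertHyp.invw; rewrite [Cfsg.Agent.LsF.map_eq, Cfsg.Agent.LsF.reverse_eq]; exact rfl) | exact rfl⟩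
private noncomputable def _root_.Cfsg.Agent.LsF.f3d1f80_8 : {f // @Cfsg.Agent.OddHalf.D9.EEight.Id.HomChk.cf = f} := ⟨_, by first | (delta Cfsg.Agent.OddHalf.D9.EEight.Id.HomChk.cf; rewrite [Cfsg.Agent.LsF.nsub_pat, Cfsg.Agent.LsF.ndiv_pat, Cfsg.Agent.LsF.nmod_pat, Cfsg.Agent.LsF.npow_pat, Cfsg.Agent.LsF.ineg_pat, Cfsg.Agent.LsF.icast_pat, Cfsg.Agent.LsF.decLt_eq, Cfsg.Agent.LsF.ite_eq]; exact rfl) | exact rfl⟩
private noncomputable def _root_.Cfsg.Agent.LsF.f3d1f80_9 : {f // @Cfsg.Agent.OddHalf.D9.EEight.Id.HomData.T1 = f} := ⟨_, by first | (delta Cfsg.Agent.OddHalf.D9.EEight.Id.HomData.T1; (try delta Cfsg.Agent.OddHalf.D9.EEight.Id.HomData.T1.match_1); (try rewrite [Cfsg.Agent.LsF.instDecEq_eq, Cfsg.Agent.LsF.dite_eq]); exact rfl) | exact rfl⟩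
private noncomputable def _root_.Cfsg.Agent.LsF.f3d1f80_10 : {f // @Cfsg.Agent.BZ.X.O82.ent = f} := ⟨_, by first | (delta Cfsg.Agent.BZ.X.O82.ent; rewrite [Cfsg.Agent.LsF.nmul_pat, Cfsg.Agent.LsF.nmod_pat, Cfsg.Agent.LsF.nshr_pat, Cfsg.Agent.LsF.isub_pat, Cfsg.Agent.LsF.icast_pat]; exact rfl) | exact rfl⟩
theorem fam_A : Fam WA FA IA 5 := by
  unfold Fam
  (refine of_decide_eq_true ?_; (try (rewrite [Cfsg.Agent.LsF.f3d1f80_7.2, Cfsg.Agent.LsF.f3d1f80_2.2, Cfsg.Agent.LsF.f3d1f80_6.2, Cfsg.Agent.LsF.f3d1f80_1.2, Cfsg.Agent.LsF.f3d1f80_8.2, Cfsg.Agent.LsF.f3d1f80_9.2, Cfsg.Agent.LsF.f3d1f80_10.2, Cfsg.Agent.LsF.f3d1f80_4.2, Cfsg.Agent.LsF.nadd_pat, Cfsg.Agent.LsF.nmul_pat, Cfsg.Agent.LsF.nsub_pat, Cfsg.Agent.LsF.instDecEq_eq, Cfsg.Agent.LsF.decLt_eq, Cfsg.Agent.LsF.getD_eq, Cfsg.Agent.LsF.instIDecEq_eq, Cfsg.Agent.LsF.dAnd_eq, Cfsg.Agent.LsF.dBAll_eq, Cfsg.Agent.LsF.decide_eq])); decide +kernel)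

theorem fam_B : Fam WB FB IB 1 := by
  unfold Fam
  (refine of_decide_eq_true ?_; (try (rewrite [Cfsg.Agent.LsF.f3d1f80_7.2, Cfsg.Agent.LsF.f3d1f80_2.2, Cfsg.Agent.LsF.f3d1f80_6.2, Cfsg.Agent.LsF.f3d1f80_1.2, Cfsg.Agent.LsF.f3d1f80_8.2, Cfsg.Agent.LsF.f3d1f80_9.2, Cfsg.Agent.LsF.f3d1f80_10.2, Cfsg.Agent.LsF.f3d1f80_4.2, Cfsg.Agent.LsF.nadd_pat, Cfsg.Agent.LsF.nmul_pat, Cfsg.Agent.LsF.nsub_pat, Cfsg.Agent.LsF.instDecEq_eq, Cfsg.Agent.LsF.decLt_eq, Cfsg.Agent.LsF.getD_eq, Cfsg.Agent.LsF.instIDecEq_eq, Cfsg.Agent.LsF.dAnd_eq, Cfsg.Agent.LsF.dBAll_eq, Cfsg.Agent.LsF.decide_eq])); decide +kernel)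

/-- the inverses are the dual basis -/
def Dual (F I : ℕ) : Prop :=
  ∀ p < 64, ∀ q < 64, ∑ i ∈ Finset.range 64, ent I (64 * p + i) * ent F (64 * q + i) = if p = q then 8 else 0

private def nb (T p i : ℕ) : ℕ := T >>> (4 * (64 * p + i)) % 16

private noncomputable def xp (F I p : ℕ) : ℕ := sm (fun i => nb I p i * pk 16 (fun q => nb F q i) 64) 64

private theorem dual_of {F I : ℕ} (h : al (fun p => al (fun q => Nat.beq (xp F I p >>> (16 * q) % 2 ^ 16 + 2304)
    ((bif Nat.beq p q then 8 else 0) + 6 * sm (nb I p) 64 + 6 * sm (nb F q) 64)) 64) 64 = true) : Dual F I := fun p hp q hq => by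
  have h1 := Nat.eq_of_beq_eq_true (al_spec (al_spec h p hp) q hq)
  have h2 : xp F I p = pk 16 (fun q => ∑ i ∈ Finset.range 64, nb I p i * nb F q i) 64 := by
    simp only [xp, sm_eq, pk_eq, Finset.mul_sum]
    exact Finset.sum_comm.trans (Finset.sum_congr rfl fun _ _ => Finset.sum_congr rfl fun _ _ => mul_left_comm _ _ _)
  have h3 : ∀ T p i, nb T p i ≤ 15 := fun _ _ _ => Nat.le_of_lt_succ (Nat.mod_lt _ (by omega))
  rw [h2, pk_dig (fun q _ => (Finset.sum_le_card_nsmul _ _ (15 * 15) fun i _ => Nat.mul_le_mul (h3 _ _ _) (h3 _ _ _)).trans_lt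
    (by simp)) hq, sm_eq, sm_eq] at h1
  have h4 : ((bif Nat.beq p q then 8 else 0 : ℕ) : ℤ) = if p = q then 8 else 0 := by
    by_cases e : p = q
    · rw [if_pos e, e, Nat.beq_refl]; rfl
    · rw [if_neg e, Bool.eq_false_iff.2 (mt Nat.eq_of_beq_eq_true e)]; rfl
  have h5 := congrArg (Nat.cast : ℕ → ℤ) h1
  push_cast at h5
  rw [← h4, Finset.sum_congr rfl fun i _ => show ent I (64 * p + i) * ent F (64 * q + i) =
    (nb I p i : ℤ) * nb F q i + 36 - 6 * nb I p i - 6 * nb F q i by unfold ent nb; ring]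
  simp only [Finset.sum_sub_distrib, Finset.sum_add_distrib, ← Finset.mul_sum, Finset.sum_const, Finset.card_range, nsmul_eq_mul]
  push_cast
  linarith

theorem dual_A : Dual FA IA := dual_of (by decide +kernel)

theorem dual_B : Dual FB IB := dual_of (by decide +kernel)

end Cfsg.Agent.BZ.X.O82
end

-- part: BZ/Lab/Cor
section
prune_inst 0x200080000000000000000000000000014010000
set_option linter.all false
open scoped Cfsg.Agent.FastGrp

/-!
# BZ / Lab: the consequences of `HZr` (helper64)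
-/

set_option autoImplicit false

namespace Cfsg.Agent.BZ.Lab

open Cfsg Subgroup Cfsg.Agent.Characters Cfsg.Agent.Characters.Core Cfsg.Agent.Blocks MulAction

namespace Cor

section grp

variable {G : Type} [Group G] [Finite G] {l : ℕ} [hl : Fact l.Prime] {S : Subgroup G}

omit [Finite G] in
theorem le_of_normal (hS : ¬ l ∣ S.index) {O : Subgroup G} [hO : O.Normal] (h : ∀ x ∈ O, ∃ j, x ^ l ^ j ∈ S.normalCore) :
    O ≤ S := fun x hx => by
  have h1 : IsPGroup l (O.map (toPermHom G (G ⧸ S))) := by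
    rintro ⟨_, y, hy, rfl⟩
    obtain ⟨j, hj⟩ := h y hy
    rw [normalCore_eq_ker] at hj
    exact ⟨j, Subtype.ext ((map_pow _ y _).symm.trans hj)⟩
  obtain ⟨z, hz⟩ := h1.nonempty_fixed_point_of_prime_not_dvd_card (G ⧸ S) hS
  obtain ⟨z, rfl⟩ := QuotientGroup.mk_surjective z
  have h2 := QuotientGroup.eq.1 (show ((z : G) : G ⧸ S) = (z * x * z⁻¹ * z : G) from
    (hz ⟨_, _, hO.conj_mem x hx z, rfl⟩).symm)
  simpa [mul_assoc] using h2

omit [Finite G] in
theorem mem_of_norm (hS : ¬ l ∣ S.index) {x : G} (hx : x ∈ normalizer (S : Set G)) {j : ℕ} (h : x ^ l ^ j ∈ S) : x ∈ S := by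
  have h1 : (QuotientGroup.mk ⟨x, hx⟩ : normalizer (S : Set G) ⧸ S.subgroupOf _) = 1 :=
    (pow_eq_one_iff_of_coprime ((hl.out.coprime_iff_not_dvd.2 fun k => hS (k.trans
      (relIndex_dvd_index_of_le le_normalizer))).pow_left j)).1 ⟨(QuotientGroup.mk_pow _ _ _).symm.trans ((QuotientGroup.eq_one_iff _).2 h), pow_card_eq_one'⟩
  exact mem_subgroupOf.1 ((QuotientGroup.eq_one_iff _).1 h1)

/-- a member of the block over a given character of a central `l`-subgroup -/
theorem exists_over {M : Ideal AlgInt} (hM : IsPModular l M) {b : Set (IrrCharacter G)} (hb : IsPBlock M b) {U : Subgroup G}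
    (hU : U ≤ center G) (hp : IsPGroup l U) (θ : U →* ℂˣ) : ∃ ψ ∈ b, ∀ u : U, (ψ : G → ℂ) u = θ u * (ψ : G → ℂ) 1 := by
  classical
  have := Fintype.ofFinite G
  have := Fintype.ofFinite U
  have : U.Normal := ⟨fun n hn g => by rwa [mem_center_iff.1 (hU hn) g, mul_inv_cancel_right]⟩
  have h1 : ∀ χ : IrrCharacter G, ∃ ω : U →* ℂˣ, (fun u : U => (χ : G → ℂ) u) = (χ : G → ℂ) 1 • fun u => (ω u : ℂ) := fun χ => by
    obtain ⟨ω, hω⟩ := HZ.Gen.exists_omega χ.2 U.subtype fun a => hU a.2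
    exact ⟨ω, funext fun u => by rw [Pi.smul_apply, smul_eq_mul, mul_comm, ← hω, mul_one]; rfl⟩
  have h2 : ∀ χ ψ : IrrCharacter U, ψ ∈ blockOf M (χ : U → ℂ) := fun χ ψ =>
    PRegular.sameBlock_of_isPRegular hM χ.2 ψ.2 fun g hg => by
      rw [show g = 1 from by_contra fun k => hg (hp.dvd_orderOf k), Basic.centralChar_one (isIrr_apply_one_ne_zero χ.2),
        Basic.centralChar_one (isIrr_apply_one_ne_zero ψ.2), sub_self]
      exact Induced.memLocalIdeal_zero hM.2.1.isPrime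
  obtain ⟨χ, rfl⟩ := hb
  obtain ⟨ω, hω⟩ := h1 χ
  obtain ⟨ψ, h3, h4⟩ := S4432.result l M hM U _ ⟨χ, rfl⟩ _ ⟨⟨_, Linear.isIrrCharacter_hom θ⟩, rfl⟩
    ⟨χ, fun g => sub_self (centralChar χ.1 g) ▸ Induced.memLocalIdeal_zero hM.2.1.isPrime, ⟨_, Linear.isIrrCharacter_hom ω⟩,
      h2 _ _, by
        rw [hω, classInner_smul_left, classInner_irr_self (Linear.isIrrCharacter_hom ω), mul_one]
        exact isIrr_apply_one_ne_zero χ.2⟩ ⟨_, Linear.isIrrCharacter_hom θ⟩ (h2 _ _)
  obtain ⟨ω', hω'⟩ := h1 ψ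
  rw [hω', classInner_smul_left] at h4
  have h5 := by_contra fun k => right_ne_zero_of_mul h4
    (classInner_irr_ne (Linear.isIrrCharacter_hom ω') (Linear.isIrrCharacter_hom θ) k)
  exact ⟨ψ, h3, fun u => (congrFun hω' u).trans (by rw [h5, mul_comm]; rfl)⟩

end grp

/-- the action on the irreducible characters -/
@[reducible] def aX {W C : Type} [Group W] [Group C] (φ : W →* MulAut C) : MulAction W (IrrCharacter C) where
  smul g ψ := ⟨ψ.1 ∘ (φ g⁻¹).toMonoidHom, isIrr_comp _ (φ g⁻¹).surjective ψ.2⟩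
  one_smul ψ := Subtype.ext (funext fun y => show ψ.1 (φ 1⁻¹ y) = _ by simp)
  mul_smul g h ψ := Subtype.ext (funext fun y => show ψ.1 (φ (g * h)⁻¹ y) = ψ.1 (φ h⁻¹ (φ g⁻¹ y)) by simp)

/-- the action on the linear characters -/
@[reducible] def aY {W C : Type} [Group W] [Group C] (φ : W →* MulAut C) : MulAction W (C →* ℂˣ) where
  smul g θ := θ.comp (φ g⁻¹).toMonoidHom
  one_smul θ := MonoidHom.ext fun y => show θ (φ 1⁻¹ y) = _ by simp
  mul_smul g h θ := MonoidHom.ext fun y => show θ (φ (g * h)⁻¹ y) = θ (φ h⁻¹ (φ g⁻¹ y)) by simp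

variable {K : Type} [Group K]

/-- conjugation -/
abbrev cn {T S : Subgroup K} (h : T ≤ normalizer (S : Set K)) : T →* MulAut S := S.normalizerMonoidHom.comp (inclusion h)

theorem tr_iff {T S : Subgroup K} (h : T ≤ normalizer (S : Set K)) {A : Type} (g : T) (f f' : S → A) :
    (∀ y y' : S, (y' : K) = g * y * (g : K)⁻¹ → f' y' = f y) ↔ ∀ y, f (cn h g⁻¹ y) = f' y :=
  ⟨fun k y => (k _ y (show (y : K) = g * ((g : K)⁻¹ * y * (g : K)⁻¹⁻¹) * (g : K)⁻¹ by group)).symm, fun k y y' e =>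
    (k y').symm.trans (congrArg f (Subtype.ext (show (g : K)⁻¹ * y' * (g : K)⁻¹⁻¹ = y by rw [e]; group)))⟩

theorem norm_le (P : Subgroup K) : normalizer (P : Set K) ≤ normalizer (centralizer (P : Set K) : Set K) := by
  have h : ∀ g ∈ normalizer (P : Set K), ∀ c ∈ centralizer (P : Set K), g * c * g⁻¹ ∈ centralizer (P : Set K) :=
    fun g hg c hc x hx => by
      have h1 := hc _ ((mem_normalizer_iff''.1 hg x).1 hx)
      calc x * (g * c * g⁻¹) = g * (g⁻¹ * x * g * c) * g⁻¹ := by group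
        _ = _ := by rw [h1]; group
  exact fun g hg c => ⟨h g hg c, fun k => by simpa [mul_assoc] using h _ (inv_mem hg) _ k⟩

variable {M : Ideal AlgInt} {P : Subgroup K} {b : Set (IrrCharacter (centralizer (P : Set K)))}

theorem cj_iff {T : Subgroup K} (h : T ≤ normalizer (centralizer (P : Set K) : Set K)) (g : T)
    (ψ ψ' : IrrCharacter (centralizer (P : Set K))) :
    Cj (centralizer (P : Set K)).subtype g ψ.1 ψ'.1 ↔ (aX (cn h)).smul g ψ = ψ' :=
  (tr_iff h g ψ.1 ψ'.1).trans ⟨fun k => Subtype.ext (funext k), fun k => congrFun (congrArg Subtype.val k)⟩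

theorem same (g : normalizer (P : Set K)) {ψ ψ' : IrrCharacter (centralizer (P : Set K))} (h : SameBlock M ψ.1 ψ'.1) :
    SameBlock M ((aX (cn (norm_le P))).smul g ψ).1 ((aX (cn (norm_le P))).smul g ψ').1 := fun y =>
  (congrArg₂ (· - ·) (Covering.centralChar_comp_equiv _ ψ.1 y) (Covering.centralChar_comp_equiv _ ψ'.1 y)).symm ▸ h _

theorem stab_iff (hM : M.IsPrime) (hb : IsPBlock M b) (g : normalizer (P : Set K)) {ψ : IrrCharacter (centralizer (P : Set K))}
    (hψ : ψ ∈ b) : Stab (centralizer (P : Set K)).subtype b g ↔ (aX (cn (norm_le P))).smul g ψ ∈ b :=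
  ⟨fun h => h ψ hψ _ ((cj_iff _ g _ _).2 rfl), fun h _ h1 _ h2 => (cj_iff (norm_le P) g _ _).1 h2 ▸
    Covering.mem_of_sameBlock hM hb h (same g (Covering.sameBlock_of_mem hM hb hψ h1))⟩

/-- the stabiliser of the block -/
def Gb (hM : M.IsPrime) (hb : IsPBlock M b) : Subgroup K where
  carrier := {g | g ∈ normalizer (P : Set K) ∧ Stab (centralizer (P : Set K)).subtype b g}
  one_mem' := ⟨one_mem _, fun ψ h ψ' k => (show ψ' = ψ from Subtype.ext (funext fun y => k y y (by simp))) ▸ h⟩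
  mul_mem' := fun {x y} hx hy => ⟨mul_mem hx.1 hy.1, fun ψ h ψ' k => by
    rw [← (cj_iff (norm_le P) (⟨x, hx.1⟩ * ⟨y, hy.1⟩) _ _).1 k]
    have h1 := (stab_iff hM hb ⟨y, hy.1⟩ h).1 hy.2
    exact Set.mem_of_eq_of_mem ((aX (cn (norm_le P))).mul_smul _ _ ψ) ((stab_iff hM hb ⟨x, hx.1⟩ h1).1 hx.2)⟩
  inv_mem' := fun {x} hx => ⟨inv_mem hx.1, fun ψ h => by
    have h1 := (stab_iff hM hb ⟨x, hx.1⟩ h).1 hx.2
    refine (stab_iff hM hb (⟨x, hx.1⟩ : normalizer (P : Set K))⁻¹ h1).2 ?_ ψ h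
    exact Set.mem_of_eq_of_mem (@inv_smul_smul _ _ _ (aX (cn (norm_le P))) ⟨x, hx.1⟩ ψ) h⟩

variable {l r : ℕ} [Fintype K] {α : MulAut K} {B : Set (IrrCharacter K)} {D' D₁ Z Q : Subgroup K}

omit [Fintype K] in
theorem crit (o : Out l r M α B P b D' D₁) (hZ : Z ≤ center K) (h : HZr l Z B) {ψ : IrrCharacter (centralizer (P : Set K))}
    (hψ : ψ ∈ b) (ho : Ov (Z.subgroupOf (centralizer (P : Set K))) ψ.1) : blockHeight l b ψ.1 = 0 ∧
      ¬ l ∣ (Orb (centralizer (P : Set K)).subtype P ψ.1 ∩ b).ncard := by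
  obtain ⟨ξ, h1, h2, h3⟩ := o.crit ψ hψ
  refine h3 (h ξ h1 fun z hz => ?_)
  have h4 := h2 ⟨z, center_le_centralizer _ (hZ hz)⟩ (hZ hz)
  rwa [ho _ hz, div_self (isIrr_apply_one_ne_zero ψ.2), div_eq_one_iff_eq (isIrr_apply_one_ne_zero ξ.2)] at h4

theorem key (hM : IsPModular l M) (o : Out l r M α B P b D' D₁) (hZ : Z ≤ center K) (h : HZr l Z B) (hQ : IsPGroup l Q)
    (h1 : Z ≤ Q) (h2 : Q ≤ centralizer (P : Set K)) (h3 : centralizer (P : Set K) ≤ centralizer (Q : Set K))
    (h4 : Gb hM.2.1.isPrime o.blk ≤ normalizer (Q : Set K)) (θ : Q →* ℂˣ) (hθ : ∀ z : Q, (z : K) ∈ Z → θ z = 1) :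
    ¬ l ∣ (@stabilizer _ _ _ (aY (cn h4)) θ).index := by
  have : Fact l.Prime := ⟨hM.1⟩
  obtain ⟨ψ, hψ, k⟩ := exists_over hM o.blk (U := Q.subgroupOf _)
    (fun u hu => mem_center_iff.2 fun g => Subtype.ext (h3 g.2 u hu).symm) hQ.comap_subtype
    (θ.comp (subgroupOfEquivOfLe h2).toMonoidHom)
  have k1 : ∀ u : Q, ψ.1 ⟨u, h2 u.2⟩ = θ u * ψ.1 1 := fun u => k ⟨⟨u, h2 u.2⟩, u.2⟩
  have h5 : Gb hM.2.1.isPrime o.blk ≤ _ := fun _ hg => norm_le P hg.1
  refine fun k2 => (crit o hZ h hψ fun z hz => (k1 ⟨z, h1 hz⟩).trans (by rw [hθ ⟨z, h1 hz⟩ hz, Units.val_one, one_mul])).2 ?_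
  rw [show Orb _ P ψ.1 ∩ b = @orbit _ _ (aX (cn h5)).toSMul ψ from Set.ext fun ψ' => ⟨fun ⟨⟨g, g1, g2⟩, g3⟩ =>
    ⟨⟨g, g1, (stab_iff hM.2.1.isPrime o.blk ⟨g, g1⟩ hψ).2 (((cj_iff (norm_le P) ⟨g, g1⟩ _ _).1 g2).symm ▸ g3)⟩,
      (cj_iff h5 _ _ _).1 g2⟩, fun ⟨g, g1⟩ => ⟨⟨g, g.2.1, (cj_iff h5 g _ _).2 g1⟩, g.2.2 ψ hψ _ ((cj_iff h5 g _ _).2 g1)⟩⟩,
    ← @index_stabilizer _ _ _ (aX (cn h5))]
  refine k2.trans (index_dvd_of_le fun g hg => MonoidHom.ext fun y => Units.ext
    (mul_right_cancel₀ (isIrr_apply_one_ne_zero ψ.2) ?_))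
  exact (k1 _).symm.trans ((congrFun (congrArg Subtype.val hg) ⟨y, h2 y.2⟩).trans (k1 y))

end Cor

open Cor

open scoped IsMulCommutative in
theorem boxCor : BoxCor where
  hz o hZ h _ hψ ho := (crit o hZ h hψ ho).1
  orb {l r M K _ _ α B P b D' D₁ Z Q} hM o hZ h hQ h1 h2 h3 h4 θ hθ := by
    have h5 : Gb hM.2.1.isPrime o.blk ≤ _ := fun _ hg => h4 hg.1
    have h6 := key hM o hZ h hQ h1 h2 h3 h5 θ hθ
    rw [@index_stabilizer _ _ _ (aY (cn h5))] at h6
    convert h6 using 3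
    exact Set.ext fun θ' => ⟨fun ⟨g, g1, g2, g3⟩ => ⟨⟨g, g1, g2⟩, MonoidHom.ext ((tr_iff h5 ⟨g, g1, g2⟩ θ θ').1 g3)⟩,
      fun ⟨g, g1⟩ => ⟨g, g.2.1, g.2.2, (tr_iff h5 g θ θ').2 (DFunLike.congr_fun g1)⟩⟩
  pw {l r M K _ _ α B P b D' D₁ Z Q} hM o hZ h hQ h1 h2 h3 h4 θ hθ g g1 g2 k hk e := by
    have : Fact l.Prime := ⟨hM.1⟩
    have h5 : Gb hM.2.1.isPrime o.blk ≤ _ := fun _ hg => h4 hg.1
    have h6 := key hM o hZ h hQ h1 h2 h3 h5 θ hθ
    let _ := aY (cn h5)
    let x : Gb hM.2.1.isPrime o.blk := ⟨g, g1, g2⟩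
    have e1 : x⁻¹ • θ = θ ^ k := MonoidHom.ext fun y => e y _ (show (x : K)⁻¹⁻¹ * y * (x : K)⁻¹⁻¹⁻¹ = _ by rw [inv_inv])
    have e2 : ∀ (u : Gb hM.2.1.isPrime o.blk) (n : ℕ), u • θ ^ n = (u • θ) ^ n := fun _ _ => rfl
    have e3 : ∀ n : ℕ, x⁻¹ ^ n • θ = θ ^ k ^ n := fun n => by
      induction n with
      | zero =>
        rw [pow_zero, pow_zero, one_smul]
        exact MonoidHom.ext fun y => (pow_one (θ y)).symm
      | succ n ih =>
        rw [pow_succ', mul_smul, ih, e2, e1, pow_succ']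
        exact MonoidHom.ext fun y => (pow_mul (θ y) k _).symm
    obtain ⟨j, hj⟩ := IsPGroup.iff_card.1 hQ
    have e4 : x⁻¹ ∈ stabilizer _ θ := mem_of_norm h6 (inv_mem (mem_normalizer_fintype fun s hs => by
      rw [SetLike.mem_coe, mem_stabilizer_iff, mul_smul, mul_smul, e1, e2, show s • θ = θ from hs, ← e1, smul_inv_smul]))
      (j := j) ((e3 _).trans (MonoidHom.ext fun y => by
        have k1 : k ^ l ^ j ≡ 1 [MOD l ^ j] := (Nat.modEq_iff_dvd.2 (by
          have k2 := dvd_sub_pow_of_dvd_sub (Nat.modEq_iff_dvd.1 hk.symm) j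
          push_cast at k2 ⊢
          rw [one_pow] at k2
          exact (pow_dvd_pow _ j.le_succ).trans k2)).symm
        rw [MonoidHom.pow_apply, ← map_pow, pow_eq_pow_iff_modEq.2 (k1.of_dvd (hj ▸ orderOf_dvd_natCard y)), pow_one]))
    exact DFunLike.congr_fun (e1.symm.trans e4)
  ol {l r M K _ _ α B P b D' D₁ Z Q Δ} hM o hZ h hQ h1 h2 h3 h4 d1 d2 d3 g g1 g2 g3 y hy := by
    have : Fact l.Prime := ⟨hM.1⟩
    have : IsMulCommutative Q := ⟨⟨fun a c => Subtype.ext (h3 (h2 c.2) a a.2)⟩⟩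
    have h5 : Gb hM.2.1.isPrime o.blk ≤ _ := fun _ hg => h4 hg.1
    have c1 : ∀ x, cn h5 x = 1 ↔ (x : K) ∈ centralizer (Q : Set K) := fun x =>
      (Q.normalizerMonoidHom_ker.le.antisymm Q.normalizerMonoidHom_ker.ge ▸ Iff.rfl :
        inclusion h5 x ∈ Q.normalizerMonoidHom.ker ↔ inclusion h5 x ∈ (centralizer (Q : Set K)).subgroupOf _)
    let O : Subgroup (Gb hM.2.1.isPrime o.blk) :=
      { carrier := {x | (x : K) ∈ Δ ∧ ∃ j, cn h5 x ^ l ^ j = 1}
        one_mem' := ⟨one_mem _, 0, by rw [map_one, one_pow]⟩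
        mul_mem' := fun {u v} ⟨u1, i, u2⟩ ⟨v1, j, v2⟩ => ⟨mul_mem u1 v1, i + j, by
          have k : Commute (cn h5 u) (cn h5 v) := by
            have k1 := (c1 (u * v * u⁻¹ * v⁻¹)).2 (d3 u u1 v v1)
            rwa [map_mul, map_mul, map_mul, map_inv, map_inv, mul_inv_eq_one, mul_inv_eq_iff_eq_mul] at k1
          rw [map_mul, k.mul_pow, pow_add, pow_mul, u2, mul_comm (l ^ i), pow_mul, v2, one_pow, one_pow, one_mul]⟩
        inv_mem' := fun {u} ⟨u1, i, u2⟩ => ⟨inv_mem u1, i, by rw [map_inv, inv_pow, u2, inv_one]⟩ }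
    have : O.Normal := ⟨fun u ⟨u1, i, u2⟩ v => ⟨(mem_normalizer_iff.1 (d2 v.2.1) u).1 u1, i, by
      rw [map_mul, map_mul, map_inv, conj_pow, u2, mul_one, mul_inv_cancel]⟩⟩
    let x : Gb hM.2.1.isPrime o.blk := ⟨g, d1 g1, g2⟩
    refine (CommGroup.forall_monoidHom_apply_eq_one_iff ℂ (Z.subgroupOf Q) (cn h5 x ⟨y, hy⟩ * ⟨y, hy⟩⁻¹)).1 fun θ hθ => ?_
    let _ := aY (cn h5)
    have k1 := le_of_normal (key hM o hZ h hQ h1 h2 h3 h5 θ hθ) (O := O) (fun u hu => hu.2.imp fun j hj =>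
      normal_le_normalCore (N := (cn h5).ker).2 (fun v hv => MonoidHom.ext fun t => show θ (cn h5 v⁻¹ t) = θ t by
        rw [map_inv, show cn h5 v = 1 from hv]; rfl) ((map_pow _ _ _).trans hj))
      (inv_mem (show x ∈ O from ⟨g1, g3.imp fun j hj => (map_pow _ _ _).symm.trans ((c1 _).2 hj)⟩))
    rw [map_mul, map_inv, mul_inv_eq_one]
    exact (congrArg (fun u => θ (cn h5 u ⟨y, hy⟩)) (inv_inv x)).symm.trans (DFunLike.congr_fun k1 ⟨y, hy⟩)

end Cfsg.Agent.BZ.Lab
end

-- part: BZ/Lab/Start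
section
prune_inst 0x200080000000000000000000000000014010000
set_option linter.all false
open scoped Cfsg.Agent.FastGrp

/-!
# BZ / Lab: a stable block below a stable block (helper17)

For every `Q ≤ D` there is a stable character of `N(Q)` whose block induces the block of `χ` (downward induction from the first
main theorem), and a stable constituent of it on `C(Q)`.
-/

set_option autoImplicit false

namespace Cfsg.Agent.BZ.Lab

open Cfsg Subgroup Cfsg.Agent.Blocks.Basic Cfsg.Agent.H649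

namespace Start

theorem ex_fix {X : Type} {f : X → X} {m : ℕ} (hm : m.Prime) (hf : ∀ x, f^[m] x = x) {S : Set X} [Finite S]
    (hS : Set.MapsTo f S S) (h : ¬ m ∣ Nat.card S) : ∃ x ∈ S, f x = x := by
  classical
  have := Fact.mk hm
  have := Fintype.ofFinite S
  let g : Function.End S := hS.restrict
  have h1 : g ^ m ^ 1 = 1 := funext fun x => Subtype.ext (by
    rw [pow_one]
    show ((hS.restrict^[m] x : S) : X) = x
    rw [Set.MapsTo.coe_iterate_restrict, hf])
  have h2 := Equiv.Perm.card_fixedPoints_modEq h1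
  by_contra hn
  have h3 : IsEmpty (Function.fixedPoints g) := ⟨fun x => hn ⟨x.1.1, x.1.2, congrArg Subtype.val x.2⟩⟩
  rw [Fintype.card_eq_zero (α := Function.fixedPoints g), ← Nat.card_eq_fintype_card] at h2
  exact h (Nat.modEq_zero_iff_dvd.1 h2)

theorem all_fix {X : Type} {f : X → X} {m : ℕ} (hm : m.Prime) (hf : ∀ x, f^[m] x = x) {S : Set X} [Finite S]
    (hS : Set.MapsTo f S S) (h : Nat.card S < m) {x : X} (hx : x ∈ S) : f x = x := by
  rcases (Nat.dvd_prime hm).1 (Function.IsPeriodicPt.minimalPeriod_dvd (hf x)) with e | e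
  · exact Function.minimalPeriod_eq_one_iff_isFixedPt.1 e
  · have h1 := Nat.card_le_card_of_injective (fun i : Fin m => (⟨f^[i] x, hS.iterate i hx⟩ : S)) fun i j hij =>
      Fin.ext (Function.iterate_injOn_Iio_minimalPeriod (f := f) (x := x) (e.symm ▸ i.2) (e.symm ▸ j.2) (congrArg Subtype.val hij))
    rw [Nat.card_eq_fintype_card, Fintype.card_fin] at h1
    exact absurd h (not_lt.2 h1)

variable {l m N : ℕ} {M : Ideal AlgInt} {K L J : Type} [Group K] [Fintype K] [Group L] [Fintype L] [Group J] [Fintype J]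
  {α : MulAut K} {β : MulAut L} {γ : MulAut J}

omit [Fintype K] in
theorem tw_iter (h : Gl l m N K α) (χ : IrrCharacter K) : (irrMap α.symm)^[m] χ = χ := by
  have h1 : ∀ (k : ℕ) (x : K), ((irrMap α.symm)^[k] χ : IrrCharacter K).1 x = χ.1 ((α ^ k) x) := fun k => by
    induction k with
    | zero => exact fun _ => rfl
    | succ k ih => exact fun x => by rw [Function.iterate_succ_apply', irrMap_apply, ih, pow_succ]; rfl
  exact Subtype.ext (funext fun x => by rw [h1, h.pow]; rfl)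

/-- a character in a stable block is stable -/
theorem st_of_same (h : Gl l m N K α) (hM : IsPModular l M) {ψ : IrrCharacter K}
    (hs : SameBlock M (ψ : K → ℂ) (irrMap α.symm ψ : K → ℂ)) : St α (ψ : K → ℂ) := by
  have := Fact.mk h.lp
  have := hM.2.1.isPrime
  have : Finite (IrrCharacter K) := Characters.Core.finite_irr
  have h1 := H608.BrauerFeit.card_le l hM (isPBlock_blockOf (M := M) ψ)
  have h2 : l ^ blockDefect l (blockOf M (ψ : K → ℂ)) ≤ N :=
    (Nat.pow_le_pow_right h.lp.pos (Nat.sub_le _ _)).trans h.syl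
  have h3 : l ^ (2 * blockDefect l (blockOf M (ψ : K → ℂ))) ≤ N ^ 2 := by
    rw [mul_comm, pow_mul]
    exact Nat.pow_le_pow_left h2 2
  have h4 : N ^ 2 ≤ N ^ 4 := by
    rcases Nat.eq_zero_or_pos N with e | e
    · simp [e]
    · exact Nat.pow_le_pow_right e (by norm_num)
  have h5 := h.big
  have h6 : N ^ 4 + 1 ≤ (N ^ 4 + 1) ^ 2 := Nat.le_self_pow two_ne_zero _
  have h7 := all_fix h.mp (tw_iter h) (S := blockOf M (ψ : K → ℂ))
    (fun χ hχ => sameBlock_trans hs ((sameBlock_irrMap_iff α.symm ψ χ).2 hχ)) (by omega) (mem_blockOf_self ψ)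
  exact fun g => congrFun (congrArg Subtype.val h7) g

omit [Fintype L] [Fintype J] in
theorem sum_tw {κ : J →* L} (e : Emb κ γ β) (φ : J → ℂ) (x : L) :
    ∑ᶠ y ∈ {y | IsConj x (κ y)}, φ (γ y) / φ 1 = ∑ᶠ y ∈ {y | IsConj (β x) (κ y)}, φ y / φ 1 := by
  refine finsum_mem_eq_of_bijOn γ ⟨fun y hy => ?_, γ.injective.injOn, fun y hy => ⟨γ.symm y, ?_, γ.apply_symm_apply y⟩⟩ fun _ _ => rfl
  · show IsConj (β x) (κ (γ y))
    rw [e.cm]
    exact β.toMonoidHom.map_isConj hy
  · have h1 := β.symm.toMonoidHom.map_isConj hy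
    have h2 : β.symm (κ y) = κ (γ.symm y) := β.injective (by rw [← e.cm, γ.apply_symm_apply, β.apply_symm_apply])
    show IsConj x (κ (γ.symm y))
    rw [← h2, ← β.symm_apply_apply x]
    exact h1

/-- what lies above a stable character is stable -/
theorem st_of_up (hU : BoxUp) (h : Gl l m N L β) (hM : IsPModular l M) {κ : J →* L} (e : Emb κ γ β) {φ : J → ℂ} (hφ : St γ φ)
    {ψ : IrrCharacter L} (hu : Up l M κ φ ψ) : St β (ψ : L → ℂ) :=
  st_of_same h hM (hU.uniq hM hu fun x hx => by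
    have h1 := hu (β x) (by rwa [MulEquiv.orderOf_eq])
    rw [← sum_tw e] at h1
    simp only [hφ _] at h1
    exact (centralChar_map β.symm (ψ : L → ℂ) x).symm ▸ h1)

/-- a stable constituent -/
theorem ex_con (h : Gl l m N K α) {S : Subgroup K} [S.Normal] [Fintype S] (hS : StS α S) {χ : IrrCharacter K}
    (hχ : St α (χ : K → ℂ)) : ∃ φ : IrrCharacter S, St hS.res (φ : S → ℂ) ∧ classInner ((χ : K → ℂ) ∘ S.subtype) φ ≠ 0 := by
  classical
  have : Finite (IrrCharacter S) := Characters.Core.finite_irr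
  have hc : ∀ c : MulAut S, (∀ n, (χ : K → ℂ) (c n) = (χ : K → ℂ) n) → ∀ φ : IrrCharacter S,
      classInner ((χ : K → ℂ) ∘ S.subtype) φ ≠ 0 → classInner ((χ : K → ℂ) ∘ S.subtype) (irrMap c.symm φ) ≠ 0 := fun c hc φ h0 => by
    rw [← H710.Gow.Star.inner_bij c.toMonoidHom c.bijective] at h0
    exact fun e => h0 ((congrArg (classInner · _) (funext hc)).trans e)
  let _ : MulAction K (IrrCharacter S) :=
    { smul := fun g φ => irrMap (MulAut.conjNormal g) φ
      one_smul := fun φ => Subtype.ext (funext fun n => by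
        show φ.1 ((MulAut.conjNormal (1 : K) : MulAut S).symm n) = φ.1 n
        rw [map_one]; rfl)
      mul_smul := fun g k φ => Subtype.ext (funext fun n => by
        show φ.1 ((MulAut.conjNormal (g * k) : MulAut S).symm n) = φ.1 _
        rw [map_mul]; rfl) }
  obtain ⟨φ₀, h0⟩ := Blocks.Fong.exists_constituent S χ
  have h1 : {φ : IrrCharacter S | classInner ((χ : K → ℂ) ∘ S.subtype) φ ≠ 0} = MulAction.orbit K φ₀ := by
    ext φ
    constructor
    · intro h3
      obtain ⟨g, hg⟩ := Characters.Clifford.exists_conj_of_constituents S χ.2 φ₀.2 φ.2 h0 h3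
      refine ⟨g⁻¹, Subtype.ext (funext fun n => ?_)⟩
      show φ₀.1 ((MulAut.conjNormal g⁻¹ : MulAut S).symm n) = φ.1 n
      rw [hg, map_inv]; rfl
    · rintro ⟨g, rfl⟩
      exact hc (MulAut.conjNormal g : MulAut S).symm (fun n => by
        rw [← MulAut.inv_def, ← map_inv]; exact irr_conj χ.2 n g⁻¹) φ₀ h0
  obtain ⟨φ, h2, h3⟩ := ex_fix h.mp (tw_iter (h.sub hS.emb)) (S := {φ : IrrCharacter S | classInner ((χ : K → ℂ) ∘ S.subtype) φ ≠ 0})
    (fun φ => hc hS.res (fun n => hχ n) φ) fun hd => h.cop (hd.trans (by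
      rw [h1, Nat.card_coe_set_eq, ← MulAction.index_stabilizer]; exact index_dvd_card _))
  exact ⟨φ, fun g => congrFun (congrArg Subtype.val h3) g, h2⟩

/-- the centraliser of a normal `l`-subgroup -/
theorem up_cen (hM : IsPModular l M) (Q : Subgroup K) [Q.Normal] (hQ : IsPGroup l Q) [Fintype (centralizer (Q : Set K))]
    {φ : IrrCharacter (centralizer (Q : Set K))} {θ : IrrCharacter K}
    (h : classInner ((θ : K → ℂ) ∘ (centralizer (Q : Set K)).subtype) φ ≠ 0) : Up l M (centralizer (Q : Set K)).subtype φ θ := by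
  have := Fact.mk hM.1
  have := hM.2.1.isPrime
  intro x _
  by_cases hx : x ∈ centralizer (Q : Set K)
  · have h1 := Blocks.CliffordCentral.centralChar_eq_inducedCentralChar _ θ φ h ⟨x, hx⟩
    have h2 := sameBlock_refl (M := M) (θ : K → ℂ) x
    rw [sub_self] at h2
    exact (sub_eq_zero.2 h1).symm ▸ h2
  · have h1 : {y : centralizer (Q : Set K) | IsConj x ((centralizer (Q : Set K)).subtype y)} = ∅ :=
      Set.eq_empty_of_forall_notMem fun y hy => by
        obtain ⟨c, hc⟩ := isConj_iff.1 hy.symm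
        exact hx (hc ▸ Normal.conj_mem inferInstance _ y.2 c)
    rw [h1, finsum_mem_empty, sub_zero]
    exact Blocks.BrauerMap.memLocalIdeal_centralChar_of_notMem hM θ.2 Q hQ x hx

omit [Fintype K] in
theorem st_nor {P : Subgroup K} (h : StS α P) : StS α (normalizer (P : Set K)) := fun g => by
  rw [mem_normalizer_iff, mem_normalizer_iff]
  refine ⟨fun e x => ?_, fun e x => ?_⟩
  · rw [← h x, e, ← h (g * x * g⁻¹), map_mul, map_mul, map_inv]
  · obtain ⟨y, rfl⟩ := α.surjective x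
    rw [h y, e, ← h (g * y * g⁻¹), map_mul, map_mul, map_inv]

omit [Fintype K] in
theorem cen_sub {Q T : Subgroup K} (h : Q ≤ T) (y : T) :
    y ∈ centralizer (Q.subgroupOf T : Set T) ↔ (y : K) ∈ centralizer (Q : Set K) :=
  ⟨fun e x hx => congrArg Subtype.val (e ⟨x, h hx⟩ hx), fun e x hx => Subtype.ext (e x hx)⟩

/-- a stable character of `C(Q)` below `χ` -/
def PC (l : ℕ) (M : Ideal AlgInt) (α : MulAut K) (χ : K → ℂ) (Q : Subgroup K) : Prop :=
  ∃ (J : Type) (_ : Group J) (_ : Fintype J) (γ : MulAut J) (κ : J →* K) (φ : IrrCharacter J),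
    Emb κ γ α ∧ κ.range = centralizer (Q : Set K) ∧ St γ (φ : J → ℂ) ∧ Up l M κ φ χ

theorem pc_of (hU : BoxUp) (h : Gl l m N K α) (hM : IsPModular l M) {χ : K → ℂ} {Q : Subgroup K} (hQ : IsPGroup l Q)
    (hs : StS α Q) {θ : IrrCharacter (normalizer (Q : Set K))} (hθ : St (st_nor hs).res θ.1)
    (hu : Up l M (normalizer (Q : Set K)).subtype θ χ) : PC l M α χ Q := by
  have := Fintype.ofFinite (normalizer (Q : Set K))
  have := Fintype.ofFinite (centralizer (Q.subgroupOf (normalizer (Q : Set K)) : Set (normalizer (Q : Set K))))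
  have h1 := StS.cen (P := Q.subgroupOf (normalizer (Q : Set K))) (hs.comap (st_nor hs).emb)
  obtain ⟨φ, h2, h3⟩ := ex_con (h.sub (st_nor hs).emb) h1 hθ
  refine ⟨_, _, this, _, _, φ, (st_nor hs).emb.comp h1.emb, ?_, h2,
    hU.trans hM (subtype_injective _) (up_cen hM (Q.subgroupOf _) hQ.comap_subtype h3) (subtype_injective _) hu⟩
  ext x
  exact ⟨fun ⟨y, e⟩ => e ▸ (cen_sub le_normalizer y.1).1 y.2, fun hx =>
    ⟨⟨⟨x, centralizer_le_normalizer _ hx⟩, (cen_sub le_normalizer _).2 hx⟩, rfl⟩⟩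

/-- the block of a character of `N(Q)` induces a block -/
theorem ex_ind (hU : BoxUp) (hM : IsPModular l M) {Q : Subgroup K} (hQ : IsPGroup l Q) (θ : IrrCharacter (normalizer (Q : Set K))) :
    ∃ (χ : IrrCharacter K) (E : Subgroup K), Up l M (normalizer (Q : Set K)).subtype θ χ ∧
      IsDefectGroup l M (blockOf M (χ : K → ℂ)) E ∧ Q ≤ E := by
  have := Fact.mk hM.1
  have := hM.2.1.isPrime
  obtain ⟨B, hB⟩ := S0919.result l M hM Q _ hQ le_normalizer (centralizer_le_normalizer _) le_rfl _ (isPBlock_blockOf θ)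
  obtain ⟨χ, rfl⟩ := hB.2.1
  obtain ⟨E₀, h1⟩ := H592.Defect.exists_defectGroup l hM hB.1
  obtain ⟨E, h2, h3⟩ := S0917.result l M hM _ _ hB.1 _ hB.2.1 hB E₀ h1
  refine ⟨χ, E, hU.ind hB θ (mem_blockOf_self θ) χ (mem_blockOf_self χ), h2, fun x hx => h3 ⟨⟨x, le_normalizer hx⟩, ?_, rfl⟩⟩
  exact S0912.result l M hM _ hB.1 E₀ h1 (Lib.Cores.le_pCore (N := Q.subgroupOf _) inferInstance hQ.comap_subtype hx)

theorem pc_step (hU : BoxUp) (h : Gl l m N K α) (hM : IsPModular l M) {χ : IrrCharacter K} {Q R : Subgroup K} (hR : IsPGroup l R)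
    (hQR : Q ≤ R) (hn : R ≤ normalizer (Q : Set K)) (hs : StS α Q) (hp : PC l M α χ R) : PC l M α χ Q := by
  have := hM.2.1.isPrime
  have := Fintype.ofFinite (normalizer (Q : Set K))
  obtain ⟨J, _, _, γ, κ, φ, e, hr, h1, h2⟩ := hp
  have h3 : ∀ y, κ y ∈ normalizer (Q : Set K) := fun y =>
    centralizer_le_normalizer _ (centralizer_le hQR (hr.le ⟨y, rfl⟩))
  have e' : Emb (κ.codRestrict _ h3) γ (st_nor hs).res := ⟨fun a b hab => e.inj (congrArg Subtype.val hab), fun y => Subtype.ext (e.cm y)⟩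
  obtain ⟨θ, h4⟩ := hU.ex hM e'.inj ⟨R.subgroupOf _, hR.comap_subtype, fun _ ⟨y, hy⟩ => hy ▸ (cen_sub hn _).2 (hr.le ⟨y, rfl⟩),
    fun y hy _ => by
      obtain ⟨z, hz⟩ := hr.ge ((cen_sub hn y).1 hy)
      exact ⟨z, Subtype.ext hz⟩⟩ φ
  obtain ⟨χ', -, h5, -⟩ := ex_ind hU hM (hR.to_le hQR) θ
  exact pc_of hU h hM (hR.to_le hQR) hs (st_of_up hU (h.sub (st_nor hs).emb) hM e' h1 h4)
    (hU.congr hM (sameBlock_refl _) (hU.uniq hM (hU.trans hM e'.inj h4 (subtype_injective _) h5) h2) h5)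

theorem pc_top (hS : BoxSt) (hU : BoxUp) (h : Gl l m N K α) (hM : IsPModular l M) {χ : IrrCharacter K} (hχ : St α (χ : K → ℂ))
    {D : Subgroup K} (hD : IsDefectGroup l M (blockOf M (χ : K → ℂ)) D) (hs : StS α D) : PC l M α χ D := by
  have := Fact.mk hM.1
  have := hM.2.1.isPrime
  have := Fintype.ofFinite (normalizer (D : Set K))
  have hp := isPGroup_of_isDefectGroup hD
  obtain ⟨b, ⟨h1, h2, h3⟩, h4⟩ := (S0920.result l M hM D hp).2 _ (isPBlock_blockOf χ) hD
  obtain ⟨θ, hθ⟩ := isPBlock_nonempty h1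
  have h5 := h4 (blkMap (st_nor hs).res.symm b) ⟨isPBlock_blkMap h1, by
      rw [isDefectGroup_blkMap_iff']
      convert h2 using 1
      ext x
      rw [mem_map_equiv]
      exact (hs.comap (st_nor hs).emb ((st_nor hs).res.symm x)).symm.trans (by rw [MulEquiv.apply_symm_apply]; rfl),
    isPBlock_blkMap h1, h3.2.1, by
      rintro _ ⟨ξ, hξ, rfl⟩ χ' hχ' g
      have h6 := h3.2.2 ξ hξ χ' hχ' (α g)
      have h7 := centralChar_map α.symm (χ' : K → ℂ) g
      have h8 : (fun x => (χ' : K → ℂ) (α.symm.symm x)) = χ' := funext (hS.blk h hM χ hχ χ' hχ')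
      rw [h8] at h7
      rw [h7, inducedCentralChar_def, irrMap_one]
      exact (sum_tw (st_nor hs).emb ξ.1 g).symm ▸ h6⟩
  exact pc_of hU h hM hp hs (st_of_same (h.sub (st_nor hs).emb) hM (isPBlock_sameBlock h1 hθ (h5 ▸ ⟨θ, hθ, rfl⟩)))
    (hU.ind h3 θ hθ χ (mem_blockOf_self χ))

theorem lt_nor (hl : l.Prime) {Q D : Subgroup K} (hD : IsPGroup l D) (hlt : Q < D) : Q < D ⊓ normalizer (Q : Set K) := by
  have := Fact.mk hl
  have := hD.isNilpotent
  obtain ⟨y, hy, hy'⟩ := SetLike.exists_of_lt (Group.normalizerCondition_of_isNilpotent (G := D) (Q.subgroupOf D)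
    (lt_top_iff_ne_top.2 fun e => hlt.not_ge (subgroupOf_eq_top.1 e)))
  rw [← subgroupOf_normalizer_eq hlt.le] at hy
  exact lt_of_le_of_ne (le_inf hlt.le le_normalizer) fun e => hy' (mem_subgroupOf.2 (e ▸ ⟨y.2, hy⟩))

theorem pc_all (hS : BoxSt) (hU : BoxUp) (h : Gl l m N K α) (hM : IsPModular l M) {χ : IrrCharacter K} (hχ : St α (χ : K → ℂ))
    {D : Subgroup K} (hD : IsDefectGroup l M (blockOf M (χ : K → ℂ)) D) (hs : StS α D) (Q : Subgroup K) : Q ≤ D → PC l M α χ Q := by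
  have hp := isPGroup_of_isDefectGroup hD
  have hf := hS.grp h D hp hs
  induction Q using WellFoundedGT.induction with
  | ind Q ih =>
    intro hQ
    rcases hQ.eq_or_lt with rfl | hlt
    · exact pc_top hS hU h hM hχ hD hs
    · have h1 := lt_nor h.lp hp hlt
      exact pc_step hU h hM (hp.to_le inf_le_left) h1.le inf_le_right (fun g =>
        ⟨fun e => α.injective (hf _ (hQ e)) ▸ e, fun e => (hf g (hQ e)).symm ▸ e⟩) (ih _ h1 inf_le_left)

end Start

open Start in
theorem boxStart_of (hS : BoxSt) (hU : BoxUp) : BoxStart := by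
  intro l m N K L _ _ _ _ α β ι M h hM e hL χ D A hχ hD hs hA hr
  have := hM.2.1.isPrime
  obtain ⟨J, _, _, γ, κ, φ, e', hκ, h1, h2⟩ := pc_all hS hU h hM hχ hD hs _ hA
  have hA' : IsPGroup l A := ((isPGroup_of_isDefectGroup hD).to_le hA).of_equiv (A.equivMapOfInjective ι e.inj).symm
  let O := closure {y : J | ¬ l ∣ orderOf y}
  have hO : ∀ c : MulAut J, ∀ y ∈ O, c y ∈ O := fun c => (closure_le (O.comap c.toMonoidHom)).2 fun y hy =>
    subset_closure (show ¬ l ∣ orderOf (c y) by rwa [MulEquiv.orderOf_eq])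
  have : O.Normal := ⟨fun y hy g => hO (MulAut.conj g) y hy⟩
  have sO : StS γ O := fun y => ⟨fun hy => γ.symm_apply_apply y ▸ hO γ.symm _ hy, hO γ y⟩
  have := Fintype.ofFinite O
  obtain ⟨φ₀, h3, h4⟩ := ex_con (h.sub e') sO h1
  have h5 := hU.trans hM (subtype_injective _) (hU.nrm hM (subtype_injective O)
    (fun y hy => ⟨⟨y, subset_closure hy⟩, rfl⟩) h4) e'.inj h2
  let T := normalizer (A : Set L)
  let C := centralizer (A.subgroupOf T : Set T)
  have := Fintype.ofFinite T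
  have := Fintype.ofFinite C
  let j : C →* K := ι.comp (T.subtype.comp C.subtype)
  have hj : Function.Injective j := e.inj.comp ((subtype_injective T).comp (subtype_injective C))
  have h6 : ∀ y : O, κ y ∈ j.range := fun y => by
    obtain ⟨z, hz⟩ := (closure_le (ι.range.comap κ)).2 (fun y hy => hr _ (hκ.le ⟨y, rfl⟩) (by rwa [orderOf_injective κ e'.inj])) y.2
    have h7 : z ∈ centralizer (A : Set L) := fun x hx => e.inj (by
      rw [map_mul, map_mul, hz]; exact hκ.le ⟨y, rfl⟩ _ ⟨x, hx, rfl⟩)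
    exact ⟨⟨⟨z, centralizer_le_normalizer _ h7⟩, (cen_sub le_normalizer _).2 h7⟩, hz⟩
  let ν : O →* C := (MonoidHom.ofInjective hj).symm.toMonoidHom.comp ((κ.comp O.subtype).codRestrict _ h6)
  have hν : ∀ y, j (ν y) = κ y := fun y => MonoidHom.apply_ofInjective_symm hj _
  have hi : Function.Injective ν := fun a b hab => Subtype.ext (e'.inj (by rw [← hν, ← hν, hab]))
  obtain ⟨η, hη, h7⟩ := H710.Gow.Star.exists_over hi φ₀.2
  obtain ⟨θ, hθ, h8⟩ := H710.Gow.Star.exists_over (subtype_injective C) hη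
  obtain ⟨ψ, E, h9, h10, h11⟩ := ex_ind hU hM hA' ⟨θ, hθ⟩
  have h12 := hU.nrm hM hi (ψ := φ₀) (χ := ⟨η, hη⟩) (fun y hy => by
    obtain ⟨z, hz⟩ := hκ.ge (show j y ∈ centralizer (A.map ι : Set K) by
      rintro _ ⟨x, hx, rfl⟩
      exact (map_mul ι _ _).symm.trans ((congrArg ι ((cen_sub le_normalizer y.1).1 y.2 x hx)).trans (map_mul ι _ _)))
    exact ⟨⟨z, subset_closure (show ¬ l ∣ orderOf z by
      rwa [← orderOf_injective κ e'.inj, hz, orderOf_injective j hj])⟩, hj ((hν _).trans hz)⟩) h7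
  have hi' : Function.Injective (C.subtype.comp ν) := (subtype_injective C).comp hi
  have h13 := hU.trans hM hi' (hU.trans hM hi h12 (subtype_injective C)
    (up_cen hM (A.subgroupOf T) hA'.comap_subtype (φ := ⟨η, hη⟩) (θ := ⟨θ, hθ⟩) h8)) (subtype_injective T) h9
  have e'' : Emb (T.subtype.comp (C.subtype.comp ν)) sO.res β := ⟨(subtype_injective T).comp hi', fun y => e.inj
    ((hν _).trans ((e'.cm y).trans ((congrArg α (hν y).symm).trans (e.cm _).symm)))⟩
  obtain ⟨χ', h14⟩ := hU.ex hM e.inj hL ψ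
  have h15 := hU.trans hM e''.inj h13 e.inj h14
  rw [show ι.comp (T.subtype.comp (C.subtype.comp ν)) = κ.comp O.subtype from MonoidHom.ext hν] at h15
  exact ⟨ψ, E, st_of_up hU (h.sub e) hM e'' h3 h13, hU.congr hM (sameBlock_refl _) (hU.uniq hM h15 h5) h14, h10, h11⟩

end Cfsg.Agent.BZ.Lab
end

-- part: BZ/Lab/Orb
section
prune_inst 0x6246030451780000000188512f0203fd6e60004b0104b8000c9400f440681ef630903af21ae60171b1332ae7d003d8048131000690210000020a4c600411901a00c809606f189b119a2008640f88b490000200080000000000000000000000000014010000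
set_option linter.all false
open scoped Cfsg.Agent.FastGrp

/-!
# BZ / Lab: roots and orbits (helper34)
-/

set_option autoImplicit false
set_option linter.unusedSectionVars false
set_option maxHeartbeats 200000

namespace Cfsg.Agent.BZ.Lab

open Cfsg Subgroup Cfsg.Agent.HZ.Gen Cfsg.Agent.H662 Cfsg.Agent.Characters Cfsg.Agent.OddOrderCharacters.VChar
  Cfsg.Agent.Blocks.Basic

namespace Ob

variable {r n : ℕ} [Fact r.Prime] {K L J : Type} [Group K] [Fintype K] [Group L] [Fintype L] [Group J] [Fintype J]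
  {M : Ideal AlgInt} {P : Subgroup K} {ι : L →* K} {ξ : IrrCharacter K}

theorem exists_e {S : Subgroup K} (hι : Function.Injective ι) (hL : ι.range = S) : ∃ e : L ≃* S, ∀ y, (e y : K) = ι y :=
  ⟨(MonoidHom.ofInjective hι).trans (MulEquiv.subgroupCongr hL), fun _ => rfl⟩

theorem exists_cj (hι : Function.Injective ι) (hL : ι.range = centralizer (P : Set K)) {g : K}
    (hg : g ∈ normalizer (P : Set K)) : ∃ σ : L ≃* L, ∀ y, ι (σ y) = g * ι y * g⁻¹ := by
  obtain ⟨e, he⟩ := exists_e hι hL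
  have h1 : g ∈ normalizer ((centralizer (P : Set K) : Subgroup K) : Set K) := by
    have key : ∀ g ∈ normalizer (P : Set K), ∀ c ∈ centralizer (P : Set K), g * c * g⁻¹ ∈ centralizer (P : Set K) :=
      fun g hg c hc a ha => by
        have := hc _ ((mem_normalizer_iff.1 (inv_mem hg) a).1 ha)
        calc _ = g * (g⁻¹ * a * g⁻¹⁻¹ * c) * g⁻¹ := by group
          _ = _ := by rw [this]; group
    exact mem_normalizer_iff.2 fun c => ⟨key g hg c, fun h => by simpa [mul_assoc] using key _ (inv_mem hg) _ h⟩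
  refine ⟨(e.trans ((centralizer (P : Set K)).normalizerMonoidHom ⟨g, h1⟩)).trans e.symm, fun y => ?_⟩
  rw [← he, ← he, MulEquiv.trans_apply, e.apply_symm_apply]
  rfl

theorem inner_tr {S : Type} [Group S] [Fintype S] (e : L ≃* S) (f : S → ℂ) (ψ : IrrCharacter L) :
    classInner f (tr e ψ) = classInner (f ∘ e) ψ := by
  rw [← Clifford.classInner_comp_mulEquiv e]
  exact congrArg _ (funext fun x => tr_apply_map e ψ x)

theorem inner_e {S : Subgroup K} [Fintype S] (e : L ≃* S) (he : ∀ y, (e y : K) = ι y) (f : K → ℂ) (ψ : IrrCharacter L) :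
    classInner (f ∘ S.subtype) (tr e ψ) = classInner (f ∘ ι) ψ :=
  (inner_tr e _ ψ).trans (congrArg (classInner · (ψ : L → ℂ)) (funext fun y => congrArg f (he y)))

theorem deg_tr {S : Type} [Group S] (e : L ≃* S) (ψ : IrrCharacter L) : charDegree (tr e ψ : S → ℂ) = charDegree (ψ : L → ℂ) := by
  rw [charDegree, tr_apply_one, charDegree]

theorem tight_tr {S : Subgroup K} (e : L ≃* S) (he : ∀ y, (e y : K) = ι y) {ψ : IrrCharacter L} (h : Tight r ι P ψ) :
    Tight r S.subtype P (tr e ψ) := by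
  refine ⟨fun a ha g => ?_, by rw [deg_tr, ← h.2, Nat.card_congr e.toEquiv]⟩
  obtain ⟨a, rfl⟩ := e.surjective a
  rw [tr_apply, tr_apply, map_mul, e.symm_apply_apply, h.1 a (he a ▸ ha)]

theorem sm_tr {S : Type} [Group S] [Fintype S] (e : L ≃* S) {ψ : IrrCharacter L} (h : Sm r 1 (ψ : L → ℂ)) :
    Sm r 1 (tr e ψ : S → ℂ) :=
  ⟨gen_of_irr (tr e ψ).2, by rw [inner_tr, show (tr e ψ : S → ℂ) ∘ e = ψ from funext (tr_apply_map e ψ)]; exact h.nrm,
    h.rat.comp (ι := e.symm.toMonoidHom) e.symm.injective⟩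

theorem deg_iff (hP : P ≤ centralizer (P : Set K)) (d : ℕ) :
    d = (P.subgroupOf (centralizer (P : Set K))).index.factorization r ↔
      (Nat.card (centralizer (P : Set K))).factorization r = (Nat.card P).factorization r + d := by
  rw [← (P.subgroupOf (centralizer (P : Set K))).card_mul_index, Nat.factorization_mul Nat.card_pos.ne' index_ne_zero_of_finite,
    Nat.card_congr (subgroupOfEquivOfLe hP).toEquiv, Finsupp.add_apply, add_right_inj, eq_comm]

theorem cen_sub : P.subgroupOf (centralizer (P : Set K)) ≤ center _ := fun x hx =>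
  mem_center_iff.2 fun y => Subtype.ext (y.2 x hx).symm

theorem sup_top : P.subgroupOf (centralizer (P : Set K)) ⊔ centralizer ((P.subgroupOf (centralizer (P : Set K)) :
    Subgroup (centralizer (P : Set K))) : Set (centralizer (P : Set K))) = ⊤ :=
  top_le_iff.1 (le_sup_of_le_right fun y _ _ hx => (mem_center_iff.1 (cen_sub hx) y).symm)

theorem efmt (hM : IsPModular r M) {B : Set (IrrCharacter K)} (hB : IsPBlock M B) (hD : IsDefectGroup r M B P) {C : Subgroup K}
    (hC : C = P ⊔ centralizer (P : Set K)) : (∃ b, IsDefectGroup r M b (P.subgroupOf C) ∧ IsInducedBlock M C b B) ∧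
    ∀ b b', IsInducedBlock M C b B → IsInducedBlock M C b' B → ∃ g ∈ normalizer (P : Set K), ∀ θ ∈ b, ∃ θ' ∈ b',
      ∀ (x : C) (hx : g * x * g⁻¹ ∈ C), (θ' : C → ℂ) x = (θ : C → ℂ) ⟨_, hx⟩ := by
  subst hC
  exact S0973.result r M hM B hB P hD

variable (hB : Big K r n) (hb : bd n 1 < r) (hP : IsPGroup r P) (hξ : Sm r 1 (ξ : K → ℂ))
include hB hb hP hξ

theorem inner_cj (hι : Function.Injective ι) (hL : ι.range = centralizer (P : Set K)) {ψ ψ' : IrrCharacter L}
    (h : ψ' ∈ Orb ι P ψ) : classInner (rs r P ξ ∘ ι) ψ' = classInner (rs r P ξ ∘ ι) ψ := by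
  obtain ⟨g, hg, h⟩ := h
  obtain ⟨σ, hσ⟩ := exists_cj hι hL hg
  rw [← Clifford.classInner_comp_mulEquiv σ]
  congr 1 <;> funext y
  · exact (congrArg _ (hσ y)).trans (hB.rs_conj hP hξ hb (mem_normalizer_iff.1 hg) (hL ▸ ⟨y, rfl⟩))
  · exact h y _ (hσ y)

variable [Fintype (centralizer (P : Set K))] (hM : IsPModular r M) {ψ : IrrCharacter (centralizer (P : Set K))}
  (hT : Tight r (centralizer (P : Set K)).subtype P ψ)
  (hI : IsInducedBlock M (centralizer (P : Set K)) (blockOf M (ψ : centralizer (P : Set K) → ℂ)) (blockOf M (ξ : K → ℂ)))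
include hM hT hI

theorem dfg : IsDefectGroup r M (blockOf M (ξ : K → ℂ)) P := by
  have := Blocks.Local.isPrime_of_isPModular hM
  obtain ⟨B, h1, h2⟩ := H35.RIM.exists_block hM hP (hB.ab' hP) (fun h => by
    have h3 := (Nat.le_of_dvd (Nat.pos_of_ne_zero index_ne_zero_of_finite) h).trans (hB.nor' hP)
    have := two_mul_lt hb
    omega) ψ ((deg_iff (hB.ab' hP) _).2 hT.2)
  rwa [inducedBlock_unique hI h2]

theorem mem_orb {φ : IrrCharacter (centralizer (P : Set K))}
    (h : classInner (rs r P ξ ∘ (centralizer (P : Set K)).subtype) φ ≠ 0) : φ ∈ Orb (centralizer (P : Set K)).subtype P ψ := by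
  have := Blocks.Local.isPrime_of_isPModular hM
  obtain ⟨g, hg, h1⟩ := (efmt hM (isPBlock_blockOf ξ) (dfg hB hb hP hξ hM hT hI) (sup_eq_right.2 (hB.ab' hP)).symm).2 _ _ hI
    (hB.rs_block hP hM (isPBlock_blockOf ξ) (mem_blockOf_self ξ) hξ hb rfl φ h)
  obtain ⟨θ, h2, h3⟩ := h1 ψ (mem_blockOf_self ψ)
  obtain ⟨σ, hσ⟩ := exists_cj (subtype_injective _) (range_subtype _) hg
  have h4 : ∀ x, (θ : centralizer (P : Set K) → ℂ) x = (ψ : centralizer (P : Set K) → ℂ) (σ x) := fun x =>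
    (h3 x (hσ x ▸ (σ x).2)).trans (congrArg _ (Subtype.ext (hσ x).symm))
  have h5 := (S0969.result r M hM _ hP.comap_subtype cen_sub θ ((deg_iff (hB.ab' hP) _).2 (by
    rw [charDegree, h4, map_one]; exact hT.2))).1
  rw [← isPBlock_eq_blockOf (isPBlock_blockOf φ) h2] at h5
  have h6 := (S0968.result r M hM _ hP.comap_subtype sup_top _ (isPBlock_blockOf φ) h5).1.unique (y₁ := φ) (y₂ := θ)
    ⟨mem_blockOf_self φ, fun x hx => by
      simpa using hB.rs_ker hP hξ hb (subtype_injective _) (range_subtype _) φ.2 h (a := x) hx 1⟩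
    ⟨h2, fun x hx => by
      have h7 := hT.1 (σ x) (by rw [hσ]; exact (mem_normalizer_iff.1 hg _).1 hx) 1
      rw [h4, h4, map_one, ← h7, mul_one]⟩
  refine ⟨g⁻¹, inv_mem hg, fun y y' e => ?_⟩
  rw [h6, h4]
  refine congrArg _ (subtype_injective _ ?_)
  rw [hσ, e]
  group

theorem inner_ne : classInner (rs r P ξ ∘ (centralizer (P : Set K)).subtype) ψ ≠ 0 := fun h0 => by
  have := Blocks.Local.isPrime_of_isPModular hM
  have := Core.finite_irr (G := centralizer (P : Set K))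
  have := Fintype.ofFinite (IrrCharacter (centralizer (P : Set K)))
  obtain ⟨y, hy, S, hS⟩ := dfg hB hb hP hξ hM hT hI
  have h1 : y ∈ centralizer (P : Set K) := fun a ha => by
    obtain ⟨x, -, rfl⟩ := hS ▸ ha
    exact mem_centralizer_singleton_iff.1 x.2
  obtain ⟨a, ha, h2⟩ := hB.exists_gn hP (by have := two_mul_lt hb; omega) h1
  have h3 := hB.rs_eq hP hξ hb h1 ha h2
  have h4 := congrFun (gen_eq_sum (hB.rs_gen hP hξ hb (subtype_injective _) (range_subtype _))) ⟨y, h1⟩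
  rw [Finset.sum_eq_zero fun φ _ => ?_] at h4
  · obtain ⟨x, hx, rfl⟩ := hS ▸ ha
    refine (S0927.result r M hM _ (isPBlock_blockOf ξ) y hy S x hx).2 (fun w hw => Subtype.ext ?_) ξ (mem_blockOf_self ξ) ?_
    · exact (hB.ab' hP ha w (hS ▸ ⟨w, hw, rfl⟩)).symm
    · rw [centralChar, show (ξ : K → ℂ) (x * y) = 0 from h3.symm.trans h4, mul_zero, zero_div]
      exact Blocks.Local.memLocalIdeal_zero
  · by_contra h5
    exact left_ne_zero_of_smul h5 ((inner_cj hB hb hP hξ (subtype_injective _) (range_subtype _)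
      (mem_orb hB hb hP hξ hM hT hI (left_ne_zero_of_smul h5))).trans h0)

omit hT hI [Fintype (centralizer (P : Set K))] in
theorem ind_of {S : Subgroup K} [Fintype S] (hS : S = centralizer (P : Set K)) (e : L ≃* S) (he : ∀ y, (e y : K) = ι y)
    {ψ : IrrCharacter L} (h : classInner (rs r P ξ ∘ ι) ψ ≠ 0) :
    IsInducedBlock M S (blockOf M (tr e ψ : S → ℂ)) (blockOf M (ξ : K → ℂ)) :=
  have := Blocks.Local.isPrime_of_isPModular hM
  hB.rs_block hP hM (isPBlock_blockOf ξ) (mem_blockOf_self ξ) hξ hb hS _ (by rwa [inner_e e he])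

end Ob

open Ob in
/-- **roots and orbits** -/
theorem boxOrb : BoxOrb where
  root := fun {r n K} _ _ {M} hM hB hb ξ P _ hξ hD => by
    have : Fact r.Prime := ⟨hM.1⟩
    have := Blocks.Local.isPrime_of_isPModular hM
    have hP : IsPGroup r P := by
      obtain ⟨y, -, S, rfl⟩ := hD
      exact S.isPGroup'.map _
    obtain ⟨b, h1, h2⟩ := (efmt hM (isPBlock_blockOf ξ) hD (sup_eq_right.2 (hB.ab' hP)).symm).1
    obtain ⟨⟨θ, ⟨h3, h4⟩, -⟩, h5, -⟩ := S0968.result r M hM _ hP.comap_subtype sup_top b h2.1 h1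
    have h6 : Tight r (centralizer (P : Set K)).subtype P θ := by
      refine ⟨fun a ha g => ?_, (deg_iff (hB.ab' hP) _).1 (h5 θ h3 h4)⟩
      obtain ⟨ω, hω⟩ := exists_omega θ.2 (center _).subtype fun z => z.2
      have h7 := (mul_eq_right₀ (Core.isIrr_apply_one_ne_zero θ.2)).1
        ((hω ⟨a, cen_sub ha⟩ 1).symm.trans ((congrArg _ (mul_one a)).trans (h4 a ha)))
      exact (hω ⟨a, cen_sub ha⟩ g).trans (by rw [h7, one_mul])
    exact ⟨θ, h6, inner_ne hB hb hP hξ hM h6 (isPBlock_eq_blockOf h2.1 h3 ▸ h2)⟩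
  orb := fun {r n K L} _ _ _ _ {ι P} hr hB hb hP hι hL {ξ ψ} hξ hT h => by
    classical
    have : Fact r.Prime := ⟨hr⟩
    have := Fintype.ofFinite (centralizer (P : Set K))
    have := Core.finite_irr (G := L)
    have := Fintype.ofFinite (IrrCharacter L)
    obtain ⟨M, hM⟩ := Blocks.ExistsModular.exists_isPModular hr
    obtain ⟨e, he⟩ := exists_e hι hL
    have h1 := hB.rs_gen hP hξ hb hι hL
    obtain ⟨a, ha⟩ := gen_inner h1 (gen_of_irr ψ.2)
    refine ⟨a, fun y => (congrFun (gen_eq_sum h1) y).trans ?_⟩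
    rw [finsum_mem_eq_sum_of_inter_support_eq (t := Finset.univ.filter (· ∈ Orb ι P ψ)) _ (by simp), Finset.mul_sum,
      Finset.sum_filter, Finset.sum_apply]
    refine Finset.sum_congr rfl fun φ _ => ?_
    split_ifs with h2
    · rw [inner_cj hB hb hP hξ hι hL h2, ha]; rfl
    · by_contra h3
      obtain ⟨g, hg, h4⟩ := mem_orb hB hb hP hξ hM (tight_tr e he hT) (ind_of hB hb hP hξ hM rfl e he h) (φ := tr e φ) (by
        rw [inner_e e he]
        exact fun h5 => h3 (by rw [h5, zero_smul]; rfl))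
      exact h2 ⟨g, hg, fun y y' h5 => by simpa using h4 (e y) (e y') (by simpa [he] using h5)⟩
  link := fun {r n K L J} _ _ _ _ _ _ {ι κ P P₁} hr hB hb hP hι hL hP₁ hle hκ hJ {ξ ψ φ} hξ hψ hT h1 h2 => by
    classical
    have : Fact r.Prime := ⟨hr⟩
    obtain ⟨M, hM⟩ := Blocks.ExistsModular.exists_isPModular hr
    have := Blocks.Local.isPrime_of_isPModular hM
    have := Fintype.ofFinite (centralizer (P : Set K))
    have := Fintype.ofFinite (centralizer (P₁.map ι : Set K))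
    obtain ⟨e, he⟩ := exists_e hι hL
    have hi : Function.Injective (ι.comp κ) := hι.comp hκ
    have h3 : (ι.comp κ).range = centralizer (P₁.map ι : Set K) := by
      refine le_antisymm ?_ fun x hx => ?_
      · rintro _ ⟨y, rfl⟩ _ ⟨a, ha, rfl⟩
        rw [MonoidHom.comp_apply, ← map_mul, (hJ.le ⟨y, rfl⟩) a ha, map_mul]
      · obtain ⟨y, rfl⟩ := hL.ge (centralizer_le hle hx)
        obtain ⟨z, rfl⟩ := hJ.ge (show y ∈ centralizer (P₁ : Set L) from fun a ha =>
          hι (by rw [map_mul, map_mul]; exact hx _ ⟨a, ha, rfl⟩))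
        exact ⟨z, rfl⟩
    obtain ⟨e₁, he₁⟩ := exists_e hi h3
    have hQ : IsPGroup r (P₁.map e.toMonoidHom) := hP₁.map _
    have := Fintype.ofFinite (centralizer (P₁.map e.toMonoidHom : Set (centralizer (P : Set K))))
    obtain ⟨e₂, he₂⟩ := exists_e (ι := e.toMonoidHom.comp κ) (e.injective.comp hκ)
      (S := centralizer (P₁.map e.toMonoidHom : Set (centralizer (P : Set K)))) (by
        rw [MonoidHom.range_comp, hJ]
        refine le_antisymm ?_ fun x hx => ⟨e.symm x, fun a ha => e.injective ?_, e.apply_symm_apply x⟩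
        · rintro _ ⟨y, hy, rfl⟩ _ ⟨a, ha, rfl⟩
          rw [← map_mul, hy a ha, map_mul]
        · rw [map_mul, map_mul, e.apply_symm_apply]
          exact hx _ ⟨a, ha, rfl⟩)
    have h4 : (tr e ψ : centralizer (P : Set K) → ℂ) ∘ e.toMonoidHom = ψ := funext (tr_apply_map e ψ)
    have h5 := ind_of (hB.sub _ (subtype_injective _)) hb hQ (sm_tr e hψ) hM rfl e₂ he₂ (ψ := φ) (by
      refine fun h5 => h2 (Eq.trans (congrArg (classInner · _) (funext fun y => ?_)) h5)
      have h6 := (hB.sub _ (subtype_injective _)).rs_comp (ι := e.toMonoidHom) e.injective hP₁ (sm_tr e hψ) hb (h4 ▸ hψ) hb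
        (hJ.le ⟨y, rfl⟩)
      rwa [h4] at h6)
    have h6 := induced_trans (e₂.symm.trans e₁) (fun x => by
      obtain ⟨y, rfl⟩ := e₂.surjective x
      rw [MulEquiv.trans_apply, e₂.symm_apply_apply, he₁, he₂]
      exact (he _).symm) h5 (ind_of hB hb hP hξ hM rfl e he h1)
    rw [trB_blockOf, show tr (e₂.symm.trans e₁) (tr e₂ φ) = tr e₁ φ from Subtype.ext (funext fun x =>
      tr_apply_map e₂ φ (e₁.symm x))] at h6
    have h7 := inner_ne hB hb (hP₁.map ι) hξ hM (tight_tr e₁ he₁ ⟨fun a ⟨b, h7, h8⟩ => hT.1 a (hι h8 ▸ h7), by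
      rw [card_map_of_injective hι]; exact hT.2⟩) h6
    rwa [inner_e e₁ he₁] at h7

end Cfsg.Agent.BZ.Lab
end

-- part: BZ/L/Bes
section
prune_inst 0x60460244057a2000000188510302027344e0005b21063000088000f44020d676000432700ec20151312220a490005002002100060400000000a2000000000012008289404c1890008800080003086000000000000000000000000000000000000000000000
set_option linter.all false
open scoped Cfsg.Agent.FastGrp

/-!
# BZ / L: trivial relative Weyl group (helper34)

`boxBes`, `boxCd`; `Bs.ti_sum` : sums over the conjugates of a trivial intersection set.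
-/

set_option autoImplicit false
set_option linter.unusedSectionVars false
set_option maxHeartbeats 200000

namespace Cfsg.Agent.BZ.L

open Cfsg Subgroup Cfsg.Agent.HZ.Gen Cfsg.Agent.BZ.Lab Cfsg.Agent.Characters Cfsg.Agent.OddOrderCharacters.VChar
  Cfsg.Agent.Blocks.PPart
open scoped ComplexConjugate

namespace Bs

variable {r n : ℕ} [hr : Fact r.Prime] {K L : Type} [Group K] [Fintype K] [Group L] [Fintype L] {P : Subgroup K} {ι : L →* K}
  {η η' : IrrCharacter K} {φ : IrrCharacter L}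

open Classical in
theorem ti_sum (hι : Function.Injective ι) (T : Finset L) (h1 : ∀ g ∈ T, ∀ y, y * g * y⁻¹ ∈ T)
    (h2 : ∀ g ∈ T, ∀ g' ∈ T, ∀ x, ι g' = x * ι g * x⁻¹ → x ∈ ι.range) {F : K → ℂ} (hF : IsClassFunction K F) :
    (Nat.card K : ℂ)⁻¹ * ∑ h with ∃ x, ∃ g ∈ T, ι g = x * h * x⁻¹, F h = (Nat.card L : ℂ)⁻¹ * ∑ g ∈ T, F (ι g) := by
  have h3 : ∀ h, ∑ x, ∑ g ∈ T, (if ι g = x * h * x⁻¹ then F h else 0) =
      if ∃ x, ∃ g ∈ T, ι g = x * h * x⁻¹ then Nat.card L * F h else 0 := fun h => by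
    split_ifs with h3
    · obtain ⟨x, g, hg, e⟩ := h3
      rw [← Finset.sum_product', ← Finset.sum_filter, Finset.sum_const, nsmul_eq_mul, Nat.card_eq_fintype_card,
        ← Finset.card_univ]
      refine congrArg (fun m : ℕ => (m : ℂ) * F h) (Finset.card_bij (fun y _ => (ι y * x, y * g * y⁻¹)) (fun y _ => ?_)
        (fun y _ y' _ e => hι (mul_right_cancel (congrArg Prod.fst e))) fun z hz => ?_).symm
      · refine Finset.mem_filter.2 ⟨Finset.mem_product.2 ⟨Finset.mem_univ _, h1 g hg y⟩, ?_⟩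
        simp only [map_mul, map_inv, e]
        group
      · obtain ⟨h4, h5⟩ := Finset.mem_filter.1 hz
        obtain ⟨y, hy⟩ := h2 g hg z.2 (Finset.mem_product.1 h4).2 (z.1 * x⁻¹) (by rw [h5, e]; group)
        refine ⟨y, Finset.mem_univ _, Prod.ext (by rw [hy, inv_mul_cancel_right]) (hι ?_)⟩
        simp only [map_mul, map_inv, e, hy, h5]
        group
    · exact Finset.sum_eq_zero fun x _ => Finset.sum_eq_zero fun g hg => if_neg fun e => h3 ⟨x, g, hg, e⟩
  have h4 : ∀ x g, ∑ h, (if ι g = x * h * x⁻¹ then F h else 0) = F (ι g) := fun x g => by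
    rw [Finset.sum_eq_single (x⁻¹ * ι g * x), if_pos (by group), ← hF _ x]
    · simp [mul_assoc]
    · exact fun h _ e => if_neg fun e' => e (by rw [e']; group)
    · simp only [_root_.Finset.mem_univ, _root_.not_true_eq_false, _root_.ite_eq_right_iff, _root_.IsEmpty.forall_iff]
  have h5 := Finset.sum_congr rfl fun h (_ : h ∈ Finset.univ) => h3 h
  rw [Finset.sum_comm, Finset.sum_congr rfl fun x _ => Finset.sum_comm.trans (Finset.sum_congr rfl fun g _ => h4 x g),
    Finset.sum_const, Finset.card_univ, ← Nat.card_eq_fintype_card, nsmul_eq_mul, ← Finset.sum_filter, ← Finset.mul_sum] at h5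
  have h6 : (Nat.card K : ℂ) ≠ 0 := Nat.cast_ne_zero.2 Nat.card_pos.ne'
  have h7 : (Nat.card L : ℂ) ≠ 0 := Nat.cast_ne_zero.2 Nat.card_pos.ne'
  rw [inv_mul_eq_iff_eq_mul₀ h6, mul_left_comm, h5, inv_mul_cancel_left₀ h7]

theorem four_lt (h : bd n 1 < r) : 4 * n < r := by
  rcases Nat.eq_zero_or_pos n with rfl | h0
  · exact hr.out.pos
  · refine lt_of_le_of_lt (le_trans ?_ ((Nat.le_add_left _ _).trans (Nat.le_self_pow two_ne_zero _))) h
    rw [mul_one]
    exact Nat.mul_le_mul_right n (Nat.le_self_pow (Nat.mul_pos h0 h0).ne' 4)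

theorem sum_conj {α : Type} (s : Finset α) (f : α → ℂ) : ∑ x ∈ s, f x * conj (f x) = (∑ x ∈ s, ‖f x‖ ^ 2 : ℝ) := by
  simp [Complex.mul_conj, Complex.normSq_eq_norm_sq]

theorem sum_irr (χ : IrrCharacter K) : ∑ g, ‖(χ : K → ℂ) g‖ ^ 2 = Nat.card K := by
  rw [re_inner, Core.classInner_irr_self χ.2, Complex.one_re, mul_one]

variable (hB : Big K r n) (hb : bd n 1 < r) (hP : IsPGroup r P) (hι : Function.Injective ι)
  (hL : ι.range = centralizer (P : Set K)) (hN : normalizer (P : Set K) ≤ centralizer (P : Set K)) (hT : Tight r ι P (φ : L → ℂ))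
include hB hb hP hι hL hT

theorem van {g b : L} (h : IsPPart r g b) (h0 : (φ : L → ℂ) g ≠ 0) : ι b ∈ P := by
  obtain ⟨M, hM⟩ := Blocks.ExistsModular.exists_isPModular hr.out
  by_contra h1
  refine h0 ((S0969.result r M hM (P.comap ι) (hP.comap_of_injective ι hι) (fun x hx => mem_center_iff.2 fun y => hι ?_) φ ?_).2
    g b h h1)
  · rw [map_mul, map_mul]
    exact ((hL.le ⟨y, rfl⟩) _ hx).symm
  · have h2 := hT.2
    rw [← (P.comap ι).card_mul_index, Nat.factorization_mul Nat.card_pos.ne' index_ne_zero_of_finite, Finsupp.add_apply,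
      ← card_map_of_injective hι, map_comap_eq_self (hL ▸ hB.ab' hP), add_right_inj] at h2
    exact h2.symm

theorem ti₁ {g g' : L} (hg : Gn r (centralizer (P : Set K)) (ι g)) (h0 : (φ : L → ℂ) g' ≠ 0) {x : K} (e : ι g' = x * ι g * x⁻¹)
    {a : K} (ha : a ∈ P) : x * a * x⁻¹ ∈ P := by
  obtain ⟨b, h1⟩ := exists_isPPart r g
  obtain ⟨b', h2⟩ := exists_isPPart r g'
  have h3 : ι b' = x * ι b * x⁻¹ := isPPart_unique (part_hom ι h2) (e ▸ isPPart_conj (part_hom ι h1) x)
  have h4 : ∀ c ∈ centralizer (P : Set K), c * (x * a * x⁻¹) = x * a * x⁻¹ * c := fun c hc => by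
    have h5 := hc _ (van hB hb hP hι hL hT h2 h0)
    have h6 := hg _ (part_hom ι h1) (mem_centralizer_singleton_iff.2 (show x⁻¹ * c * x * ι b = ι b * (x⁻¹ * c * x) by
      calc _ = x⁻¹ * (c * ι b') * x := by rw [h3]; group
        _ = _ := by rw [← h5, h3]; group)) a ha
    calc _ = x * (x⁻¹ * c * x * a) * x⁻¹ := by group
      _ = _ := by rw [← h6]; group
  obtain ⟨z, hz⟩ := hL.ge (show x * a * x⁻¹ ∈ centralizer (P : Set K) from fun c hc => h4 c (hB.ab' hP hc))
  have h5 : z ∈ center L := mem_center_iff.2 fun y => hι (by rw [map_mul, map_mul, hz]; exact h4 _ (hL.le ⟨y, rfl⟩))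
  obtain ⟨ω, hω⟩ := exists_omega φ.2 (center L).subtype fun z => z.2
  obtain ⟨k, hk⟩ := ord_of_mem hP ha
  refine hz ▸ van hB hb hP hι hL hT (g := z) ⟨1, mul_one z, Commute.one_right z, ⟨k, ?_⟩, by simpa using hr.out.ne_one⟩ ?_
  · rw [← orderOf_injective ι hι, hz, ← hk]
    exact (MulAut.conj x).orderOf_eq a
  · exact fun h => mul_ne_zero (ω ⟨z, h5⟩).ne_zero (Core.isIrr_apply_one_ne_zero φ.2)
      ((hω ⟨z, h5⟩ 1).symm.trans ((congrArg _ (mul_one z)).trans h))

theorem ex_a (hN : normalizer (P : Set K) ≤ centralizer (P : Set K)) (hη : Sm r 1 (η : K → ℂ))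
    (h : Un r ι P (φ : L → ℂ) (η : K → ℂ)) : ∃ a : ℤ, a ≠ 0 ∧ ∀ y, rs r P (η : K → ℂ) (ι y) = a * (φ : L → ℂ) y := by
  obtain ⟨a, ha⟩ := boxOrb.orb hr.out hB hb hP hι hL hη hT h
  have h1 : Orb ι P (φ : L → ℂ) = {φ} := Set.eq_singleton_iff_unique_mem.2 ⟨⟨1, one_mem _, fun y y' e => by
      rw [hι (e.trans (by group) : ι y' = ι y)]⟩, fun ψ ⟨g, hg, e⟩ => Subtype.ext (funext fun y => by
    obtain ⟨z, rfl⟩ := hL.ge (hN hg)
    rw [← gen_isClassFunction (gen_of_irr ψ.2) y z]
    exact e y _ (by rw [map_mul, map_mul, map_inv]))⟩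
  simp only [h1, finsum_mem_singleton] at ha
  refine ⟨a, fun e => h ?_, ha⟩
  rw [show rs r P (η : K → ℂ) ∘ ι = 0 from funext fun y => by rw [Function.comp_apply, ha, e]; simp]
  simp [classInner]

open Classical in
/-- **the mass on the generic elements** -/
theorem mass (hN : normalizer (P : Set K) ≤ centralizer (P : Set K)) : ∃ (S : Finset K) (μ : ℝ), r * (1 - μ) ≤ n ∧
    (∀ h ∈ S, ∃ x g, (φ : L → ℂ) g ≠ 0 ∧ ι g = x * h * x⁻¹) ∧ ∀ (η η' : IrrCharacter K) (a a' : ℂ), Sm r 1 (η : K → ℂ) →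
      Sm r 1 (η' : K → ℂ) → (∀ y, rs r P (η : K → ℂ) (ι y) = a * (φ : L → ℂ) y) → (∀ y, rs r P (η' : K → ℂ) (ι y) = a' * (φ : L → ℂ) y) →
        (Nat.card K : ℂ)⁻¹ * ∑ h ∈ S, (η : K → ℂ) h * conj ((η' : K → ℂ) h) = a * conj a' * μ := by
  let T : Finset L := Finset.univ.filter fun g => Gn r (centralizer (P : Set K)) (ι g) ∧ (φ : L → ℂ) g ≠ 0
  have hT' : ∀ g, g ∈ T ↔ Gn r (centralizer (P : Set K)) (ι g) ∧ (φ : L → ℂ) g ≠ 0 := fun g => by simp [T]
  have h0 : (0 : ℝ) < Nat.card L := Nat.cast_pos.2 Nat.card_pos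
  refine ⟨Finset.univ.filter fun h => ∃ x, ∃ g ∈ T, ι g = x * h * x⁻¹, (Nat.card L : ℝ)⁻¹ * ∑ g ∈ T, ‖(φ : L → ℂ) g‖ ^ 2, ?_,
    fun h hh => ?_, fun η η' a a' hη hη' e e' => ?_⟩
  · have h1 := hB.sum_ngen hP hι hL fun a g ha => hT.1 a ha g
    have h2 := Finset.sum_filter_add_sum_filter_not Finset.univ (fun g => Gn r (centralizer (P : Set K)) (ι g))
      fun g => ‖(φ : L → ℂ) g‖ ^ 2
    have h3 : ∑ g ∈ T, ‖(φ : L → ℂ) g‖ ^ 2 = ∑ g with Gn r (centralizer (P : Set K)) (ι g), ‖(φ : L → ℂ) g‖ ^ 2 := by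
      rw [show T = _ from (Finset.filter_filter _ _ _).symm, Finset.sum_filter_of_ne]
      exact fun g _ h e => h (by rw [e, norm_zero, zero_pow two_ne_zero])
    rw [sum_irr] at h1 h2
    rw [h3, eq_sub_of_add_eq h2, mul_sub _ (Nat.card L : ℝ), inv_mul_cancel₀ h0.ne', sub_sub_cancel, mul_left_comm,
      inv_mul_le_iff₀ h0, mul_comm _ (n : ℝ)]
    exact h1
  · obtain ⟨x, g, hg, e⟩ := (Finset.mem_filter.1 hh).2
    exact ⟨x, g, ((hT' g).1 hg).2, e⟩
  · rw [ti_sum hι T (fun g hg y => (hT' _).2 ⟨?_, ?_⟩) (fun g hg g' hg' x e => hL.ge (hN (mem_normalizer_iff.2 fun a =>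
      ⟨ti₁ hB hb hP hι hL hT ((hT' g).1 hg).1 ((hT' g').1 hg').2 e, fun ha => ?_⟩)))
      (F := fun h => (η : K → ℂ) h * conj ((η' : K → ℂ) h)) fun g h => by
        simp only [gen_isClassFunction hη.gen g h, gen_isClassFunction hη'.gen g h]]
    · rw [Complex.ofReal_mul, ← sum_conj, mul_left_comm, Finset.mul_sum _ _ (a * _)]
      refine congrArg₂ _ (by simp) (Finset.sum_congr rfl fun g hg => ?_)
      rw [← hB.rs_gn hP hη hb ((hT' g).1 hg).1, ← hB.rs_gn hP hη' hb ((hT' g).1 hg).1, e, e', map_mul]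
      ring
    · rw [map_mul, map_mul, map_inv]
      exact ((hT' g).1 hg).1.conj (hL.le ⟨y, rfl⟩)
    · rw [gen_isClassFunction (gen_of_irr φ.2)]
      exact ((hT' g).1 hg).2
    · simpa [mul_assoc] using ti₁ hB hb hP hι hL hT ((hT' g').1 hg').1 ((hT' g).1 hg).2 (x := x⁻¹) (by rw [e]; group) ha

open Classical in
/-- the sign, and the mass outside of the generic elements -/
theorem main (hN : normalizer (P : Set K) ≤ centralizer (P : Set K)) : ∃ (S : Finset K) (μ : ℝ), r * (1 - μ) ≤ n ∧ 3 / 4 < μ ∧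
    (∀ h ∈ S, ∃ x g, (φ : L → ℂ) g ≠ 0 ∧ ι g = x * h * x⁻¹) ∧ (∀ η : IrrCharacter K, Sm r 1 (η : K → ℂ) →
      Un r ι P (φ : L → ℂ) (η : K → ℂ) → ∑ h with h ∉ S, ‖(η : K → ℂ) h‖ ^ 2 = Nat.card K * (1 - μ) ∧
        ∃ ε : ℂ, (ε = 1 ∨ ε = -1) ∧ ∀ y, rs r P (η : K → ℂ) (ι y) = ε * (φ : L → ℂ) y) ∧
      ∀ (η η' : IrrCharacter K) (a a' : ℂ), Sm r 1 (η : K → ℂ) → Sm r 1 (η' : K → ℂ) →
        (∀ y, rs r P (η : K → ℂ) (ι y) = a * (φ : L → ℂ) y) → (∀ y, rs r P (η' : K → ℂ) (ι y) = a' * (φ : L → ℂ) y) →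
          (Nat.card K : ℂ)⁻¹ * ∑ h ∈ S, (η : K → ℂ) h * conj ((η' : K → ℂ) h) = a * conj a' * μ := by
  obtain ⟨S, μ, h1, h2, h3⟩ := mass hB hb hP hι hL hT hN
  have h4 : (4 : ℝ) * n < r := by exact_mod_cast four_lt hb
  have h5 : (0 : ℝ) < r := Nat.cast_pos.2 hr.out.pos
  have h6 : 3 / 4 < μ := by nlinarith only [h1, h4]
  have h0 : (0 : ℝ) < Nat.card K := Nat.cast_pos.2 Nat.card_pos
  refine ⟨S, μ, h1, h6, h2, fun η hη h => ?_, h3⟩
  obtain ⟨a, ha, e⟩ := ex_a hB hb hP hι hL hT hN hη h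
  have h7 := h3 η η a a hη hη e e
  rw [sum_conj, map_intCast, inv_mul_eq_iff_eq_mul₀ (Nat.cast_ne_zero.2 Nat.card_pos.ne')] at h7
  have h8 : ∑ h ∈ S, ‖(η : K → ℂ) h‖ ^ 2 = Nat.card K * (a * a * μ) := by exact_mod_cast h7
  have h9 := Finset.sum_filter_add_sum_filter_not Finset.univ (· ∈ S) fun h => ‖(η : K → ℂ) h‖ ^ 2
  rw [Finset.filter_univ_mem, h8, sum_irr] at h9
  have h10 : a * a = 1 := by
    have h11 : (a * a : ℝ) * μ ≤ 1 := le_of_mul_le_mul_left (by
      have := Finset.sum_nonneg fun h (_ : h ∈ Finset.univ.filter (· ∉ S)) => sq_nonneg ‖(η : K → ℂ) h‖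
      linarith only [h9, this]) h0
    have h12 : a * a < 2 := by
      have : (a * a : ℝ) < 2 := by nlinarith only [h6, h11, mul_self_nonneg (a : ℝ)]
      exact_mod_cast this
    have := mul_self_pos.2 ha
    omega
  rw [← Int.cast_mul, h10] at h9
  refine ⟨by rw [eq_sub_of_add_eq' h9]; push_cast; ring, a, ?_, e⟩
  rcases mul_self_eq_one_iff.1 h10 with rfl | rfl <;> simp

end Bs

open Bs

/-- **one character above a tight character** -/
theorem boxBes : BoxBes := fun {r n K L} _ _ _ _ {ι P} hr hB hb hP hι hL hN {η φ} hη hT h => by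
  classical
  have : Fact r.Prime := ⟨hr⟩
  obtain ⟨S, μ, -, h1, -, h2, h3⟩ := main hB hb hP hι hL hT hN
  obtain ⟨h4, ε, h5, e⟩ := h2 η hη h
  refine ⟨⟨ε, h5, e⟩, fun η' hη' h' => by_contra fun hne => ?_⟩
  obtain ⟨-, ε', h6, e'⟩ := h2 η' hη' h'
  have h7 := inner_split (· ∈ S) (η : K → ℂ) η'
  have h8 := part_le _ (η : K → ℂ) η' h4.le
  rw [Finset.filter_univ_mem, h3 η η' ε ε' hη hη' e e',
    Core.classInner_irr_ne η.2 η'.2 fun e => hne (Subtype.ext e.symm)] at h7
  rw [← neg_eq_of_add_eq_zero_right h7.symm, Core.classInner_irr_self η'.2, norm_neg, norm_mul, norm_mul, Complex.norm_conj,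
    Complex.norm_real, show ‖ε‖ = 1 by rcases h5 with rfl | rfl <;> simp, show ‖ε'‖ = 1 by rcases h6 with rfl | rfl <;> simp,
    Real.norm_eq_abs, one_mul, one_mul, sq_abs, Complex.one_re] at h8
  nlinarith only [h1, h8]

/-- **central defect goes up** -/
theorem boxCd : BoxCd := fun {l r m n N K L} _ _ _ _ {α ι P Q} hF hP hι hL hN _ hQ {η φ} hη hT h hφ g x hx hxQ => by
  classical
  have : Fact r.Prime := ⟨hF.rp⟩
  have : Fact l.Prime := ⟨hF.lp⟩
  have : Q.Normal := ⟨fun y hy g => by rwa [mem_center_iff.1 (hQ hy) g, mul_inv_cancel_right]⟩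
  obtain ⟨S, μ, h1, -, h2, h3, -⟩ := main hF.bg hF.bdr hP hι hL hT hN
  obtain ⟨ε, h4, h5⟩ := exists_ind Q (dvd_refl (l ^ (Nat.card K).factorization l))
  have h6 : ((l ^ (Nat.card K).factorization l : ℕ) : ℝ) ≤ N := Nat.cast_le.2 hF.syl
  have h6' : (0 : ℝ) < (l ^ (Nat.card K).factorization l : ℕ) := Nat.cast_pos.2 (pow_pos hF.lp.pos _)
  generalize l ^ (Nat.card K).factorization l = N' at h5 h6 h6'
  let A : K → Prop := fun g => ∃ x, IsPPart l g x ∧ x ∉ Q
  obtain ⟨u, hu⟩ := gen_inner (gen_mul (gen_sub (gen_nsmul N' gen_one) h4) hη.gen) hη.gen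
  have h0 : (0 : ℝ) < Nat.card K := Nat.cast_pos.2 Nat.card_pos
  have h7 : N' * ∑ g with A g, ‖(η : K → ℂ) g‖ ^ 2 = Nat.card K * u := by
    rw [classInner, inv_mul_eq_iff_eq_mul₀ (Nat.cast_ne_zero.2 Nat.card_pos.ne')] at hu
    refine Complex.ofReal_injective ?_
    rw [Complex.ofReal_mul, ← sum_conj, Complex.ofReal_mul, Complex.ofReal_natCast, Complex.ofReal_natCast, Complex.ofReal_intCast,
      ← hu, Finset.sum_filter, Finset.mul_sum]
    refine Finset.sum_congr rfl fun g _ => ?_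
    obtain ⟨v, hv⟩ := exists_isPPart l g
    rw [Pi.mul_apply, Pi.sub_apply, h5 g v hv]
    by_cases h8 : v ∈ Q
    · rw [if_pos h8, if_neg fun ⟨x, e, h9⟩ => h9 (isPPart_unique hv e ▸ h8)]
      simp
    · rw [if_neg h8, if_pos ⟨v, hv, h8⟩]
      simp [mul_assoc]
  have h8 : ∑ g with A g, ‖(η : K → ℂ) g‖ ^ 2 ≤ Nat.card K * (1 - μ) := by
    rw [← (h3 η hη h).1]
    refine Finset.sum_le_sum_of_subset_of_nonneg (fun g hg => Finset.mem_filter.2 ⟨Finset.mem_univ _, fun e => ?_⟩)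
      fun _ _ _ => sq_nonneg _
    obtain ⟨v, hv, h8⟩ := (Finset.mem_filter.1 hg).2
    obtain ⟨z, y, h9, e⟩ := h2 g e
    exact h9 (hφ y _ (e ▸ isPPart_conj hv z) fun h10 => h8 ((‹Q.Normal›.mem_comm_iff.1 h10 : _) |> fun h11 => by simpa using h11))
  have h9 : (N : ℝ) * n < r := by
    have h10 := hF.big
    have h11 := hF.mr
    exact_mod_cast mul_lt_of_sq (show N ^ 2 < r from lt_of_le_of_lt (Nat.pow_le_pow_left
      ((Nat.le_self_pow four_ne_zero N).trans (Nat.le_succ _)) 2) (h10.trans h11)) (sq_lt hF.bdr)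
  have h10 := Finset.sum_nonneg fun h (_ : h ∈ Finset.univ.filter A) => sq_nonneg ‖(η : K → ℂ) h‖
  have h11 : (0 : ℝ) < r := Nat.cast_pos.2 hF.rp.pos
  have h12 : (u : ℝ) ≤ N' * (1 - μ) := le_of_mul_le_mul_left (by
    rw [← h7, mul_left_comm]; exact mul_le_mul_of_nonneg_left h8 h6'.le) h0
  have h13 : (u : ℝ) < 1 := lt_of_mul_lt_mul_left (by
    have := mul_le_mul h6 h1 (mul_nonneg h11.le (le_of_mul_le_mul_left (by rw [mul_zero]; exact h10.trans h8) h0)) (h6'.le.trans h6)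
    nlinarith only [h9, h12, this]) h11.le
  have h14 : (u : ℝ) ≤ 0 := by exact_mod_cast Int.lt_add_one_iff.1 (show u < 0 + 1 by exact_mod_cast h13)
  have h15 := le_antisymm (le_of_mul_le_mul_left (by rw [h7, mul_zero]; exact mul_nonpos_of_nonneg_of_nonpos h0.le h14) h6') h10
  simpa using (Finset.sum_eq_zero_iff_of_nonneg fun _ _ => sq_nonneg _).1 h15 g
    (Finset.mem_filter.2 ⟨Finset.mem_univ _, x, hx, hxQ⟩)

end Cfsg.Agent.BZ.L
end

-- part: BZ/L/Def2_mg
section
prune_inst 0x6046030445780000000188512d0203f56fe000522106b8000c9400f060688ed622903af21ace0171a1232a84d20358048101000400000000000844c00411801a00880d606f389a11da2008000a08f410000200080000000000000000000000000014010000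
set_option linter.all false
open scoped Cfsg.Agent.FastGrp

-- part: BZ/Lab/Def3
section
/-!
# BZ / Lab: Brauer pairs and `Up` (helper24)

* `pair_of_up` : `Up` from the centralizer of an `l`-subgroup is a Brauer pair;
* `step3` : a pair `(D, f)` such that `f` has the defect group `D ∩ C(D)`;
* `root_p` : the inertial quotient has no `p`-elements.
-/

set_option autoImplicit false
set_option linter.style.haveILetI false
set_option linter.unusedSectionVars false
set_option maxHeartbeats 400000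

namespace Cfsg.Agent.BZ.Lab.Df

open Cfsg Subgroup Cfsg.Agent Cfsg.Agent.Blocks Cfsg.Agent.TID.Red

variable {p : ℕ} [Fact p.Prime] {M : Ideal AlgInt} {K : Type} [Group K] [Finite K] {D : Subgroup K}
  {B : Set (IrrCharacter K)} {f : Set (IrrCharacter (centralizer (D : Set K)))}

theorem pair_of_up (hM : IsPModular p M) (hp : IsPGroup p D) {η : IrrCharacter (centralizer (D : Set K))}
    {χ : IrrCharacter K} (h : Up p M (centralizer (D : Set K)).subtype η χ) :
    IsBrauerPairOf p M (blockOf M (χ : K → ℂ)) D (blockOf M (η : centralizer (D : Set K) → ℂ)) := by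
  haveI := Local.isPrime_of_isPModular hM
  letI := Fintype.ofFinite K
  letI := Fintype.ofFinite (centralizer (D : Set K))
  have hf : IsPBlock M (blockOf M (η : centralizer (D : Set K) → ℂ)) := ⟨η, rfl⟩
  obtain ⟨B, h2, -⟩ := H644.existsUnique_isBrauerPairOf hM (⟨hp, hf⟩ : IsBrauerPair p M D _)
  obtain ⟨χ', h3⟩ := Basic.isPBlock_nonempty h2.2.1
  have e : B = blockOf M (χ : K → ℂ) :=
    Basic.isPBlock_eq_of_sameBlock h2.2.1 ⟨χ, rfl⟩ h3 (Basic.mem_blockOf_self χ) (boxUp.uniq hM (boxUp.ind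
      ((H649.isBrauerPairOf_iff_isInducedBlock hM h2.2.1 hp hf).1 h2) η (Basic.mem_blockOf_self η) χ' h3) h)
  exact e ▸ h2

end Cfsg.Agent.BZ.Lab.Df
end

-- part: BZ/L/Def2
section
/-!
# BZ / L : the defect groups above a centric pair (helper24)

* `fong` : a pair `(R, g)` above `(Q, e)` such that `R C(Q)` has index prime to `p` in the stabiliser of `(Q, e)`;
* `boxDef2`.
-/

set_option autoImplicit false
set_option linter.style.haveILetI false
set_option linter.unusedSectionVars false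
set_option maxHeartbeats 400000

namespace Cfsg.Agent.BZ.L

namespace D2

open Cfsg Subgroup Cfsg.Agent Cfsg.Agent.Blocks Cfsg.Agent.H644 Cfsg.Agent.Blocks.Local Cfsg.Agent.Blocks.ConvCentral
  Cfsg.Agent.BZ.Lab

variable {p : ℕ} {M : Ideal AlgInt} [M.IsPrime] {K : Type} [Group K] [Finite K] {Q : Subgroup K}
  {e : Set (IrrCharacter (centralizer (Q : Set K)))}

theorem fong (hM : IsPModular p M) (he : IsBrauerPair p M Q e) :
    ∃ (R : Subgroup K) (g : Set (IrrCharacter (centralizer (R : Set K)))), IsNormalSubpair p M Q e R g ∧ R ≤ pairStab M Q e ∧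
      ¬ p ∣ (R ⊔ centralizer (Q : Set K)).relIndex (pairStab M Q e) := by
  classical
  haveI : Fact p.Prime := ⟨hM.1⟩
  haveI := charP_resField hM
  obtain ⟨ξ, hξ⟩ := Basic.isPBlock_nonempty he.2
  obtain ⟨R, g, y, h1, hRT, hy, h2⟩ := exists_normal_extension hM he hξ
  refine ⟨R, g, h1, hRT, fun h3 => h2 ?_⟩
  have hle : R ⊔ centralizer (Q : Set K) ≤ pairStab M Q e := sup_le hRT (centralizer_le_pairStab Q e)
  have hyi : IsInv R (MonoidAlgebra.single y (1 : ResField M)) := isInv_single fun u hu => by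
    rw [mem_centralizer_singleton_iff]
    exact (mem_centralizer_iff.1 hy) u hu
  have hz := isInv_tr (le_sup_left : R ≤ R ⊔ centralizer (Q : Set K)) hyi
  rw [← tr_trans le_sup_left hle hyi]
  generalize tr R (R ⊔ centralizer (Q : Set K)) (MonoidAlgebra.single y (1 : ResField M)) = z at hz
  have hc : IsCls (br Q z) := isCls_br (isInv_mono le_sup_right hz)
  haveI := Fintype.ofFinite (K ⧸ (R ⊔ centralizer (Q : Set K)))
  have h4 : lam M (ξ : centralizer (Q : Set K) → ℂ) (br Q (tr (R ⊔ centralizer (Q : Set K)) (pairStab M Q e) z)) =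
      ((R ⊔ centralizer (Q : Set K)).relIndex (pairStab M Q e) : ResField M) * lam M (ξ : centralizer (Q : Set K) → ℂ) (br Q z) := by
    rw [tr_def, map_sum, map_sum, ← card_inCos hle, Finset.card_filter, Nat.cast_sum, Finset.sum_mul]
    refine Finset.sum_congr rfl fun q _ => ?_
    by_cases h : inCos (R ⊔ centralizer (Q : Set K)) (pairStab M Q e) q
    · rw [if_pos h, if_pos h, Nat.cast_one, one_mul, ← H686.PairCrit.lam_br_cj hM he.2 hξ h hc]
      refine congrArg _ (ext_coeff fun c => ?_)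
      have h5 : (qout q)⁻¹ * c * qout q ∈ centralizer (Q : Set K) := by
        have := (mem_normalizer_iff.1 (inv_mem (mem_normalizer_centralizer (pairStab_le_normalizer Q e h))) (c : K)).1 c.2
        rwa [inv_inv] at this
      rw [coeff_br, coeff_br, coeff_cj, coeff_cj, coeff_emb_of_mem _ h5, coeff_br]
    · rw [if_neg h, if_neg h, map_zero, map_zero, Nat.cast_zero, zero_mul]
  rw [h4, (CharP.cast_eq_zero_iff (ResField M) p _).2 h3, zero_mul]

theorem stab_iff {g : K} (hg : g ∈ normalizer (Q : Set K)) :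
    Stab (centralizer (Q : Set K)).subtype e g ↔ StabilizesBlock (centralizer (Q : Set K)) e g := by
  have h1 := mem_normalizer_centralizer hg
  obtain ⟨a, ha⟩ := Df.exists_cj (subtype_injective (centralizer (Q : Set K))) (x := g) (by rwa [range_subtype])
  refine ⟨fun h => ⟨h1, fun χ hχ => ?_⟩, fun h ψ hψ ψ' c => ?_⟩
  · have h2 : IsConjCharOf (centralizer (Q : Set K)) g (χ : centralizer (Q : Set K) → ℂ)
        (H649.irrMap a χ : centralizer (Q : Set K) → ℂ) := fun k k' c => by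
      rw [show k' = a k from Subtype.ext (c.trans (ha k).symm), H649.irrMap_apply']
    exact ⟨_, h χ hχ _ h2, h2⟩
  · obtain ⟨χ, h2, h3⟩ := h.2 ψ hψ
    rwa [show ψ' = χ from Subtype.ext (funext fun y => by
      obtain ⟨k, rfl⟩ := a.surjective y
      exact (c k _ (ha k)).trans (h3 k _ (ha k)).symm)]

theorem rel_sup {C N T : Subgroup K} (h1 : C ≤ T) (h2 : N ≤ T) (h3 : T ≤ normalizer (C : Set K)) :
    C.relIndex (N ⊔ C) = C.relIndex N := by
  haveI : (C.subgroupOf T).Normal := normal_subgroupOf_of_le_normalizer h3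
  rw [← relIndex_subgroupOf (sup_le h2 h1), ← relIndex_subgroupOf h2, subgroupOf_sup h2 h1, relIndex_sup_right]

end D2

open Cfsg Subgroup Cfsg.Agent Cfsg.Agent.Blocks Cfsg.Agent.H644 Cfsg.Agent.BZ.Lab D2 in
/-- **[Def2]** -/
theorem boxDef2 : BoxDef2 := by
  intro l M K _ _ Q hM hab η χ hup hd T hT
  haveI : Fact l.Prime := ⟨hM.1⟩
  haveI := Local.isPrime_of_isPModular hM
  have hp : IsPGroup l Q := (Basic.isPGroup_of_isDefectGroup hd).of_equiv (subgroupOfEquivOfLe hab)
  have h2 := Df.pair_of_up hM hp hup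
  have hf := h2.1.2
  have hS : H649.IsStab Q (blockOf M (η : centralizer (Q : Set K) → ℂ)) T := fun y =>
    (hT y).trans (and_congr_right fun h => stab_iff h)
  obtain rfl : T = pairStab M Q (blockOf M (η : centralizer (Q : Set K) → ℂ)) :=
    Subgroup.ext fun y => (hS y).trans (mem_pairStab_iff_stabilizesBlock hM hf).symm
  obtain ⟨R, g, h3, h4, h5⟩ := fong hM h2.1
  obtain ⟨P, e, hmax, h6⟩ := exists_maximal_above hM ((isBrauerPairOf_iff_of_isNormalSubpair hM h3).2 h2)
  have hle := subpairLE_trans (subpairLE_of_isNormalSubpair h3) h6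
  have hPT := H649.inf_normalizer_le hM hmax.1.1 hle hS
  have hQP : Q ≤ P := H649.SubpairLE.le hle
  have h7 : P ⊓ centralizer (Q : Set K) ≤ Q := fun n hn => by
    obtain ⟨E, h8, h9⟩ := (S4661.result l M hM _ P Q e _ hmax hQP hf hle).1
    haveI : (Q.subgroupOf (centralizer (Q : Set K))).Normal :=
      ⟨fun x hx t => (mem_normalizer_iff.1 (Subgroup.centralizer_le_normalizer _ t.2) _).1 hx⟩
    rw [TID.Red.defect_eq_of_normal hM hf hd h8] at h9
    exact @h9 ⟨n, hn.2⟩ hn
  refine ⟨P, S4659.result l M hM _ P e hmax, hQP, h7, hPT, ?_⟩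
  have h8 : Q = centralizer (Q : Set K) ⊓ (P ⊓ normalizer (Q : Set K)) :=
    le_antisymm (le_inf hab (le_inf hQP le_normalizer)) fun x hx => h7 ⟨hx.2.1, hx.1⟩
  have h9 : Q.relIndex (P ⊓ normalizer (Q : Set K)) = (centralizer (Q : Set K)).relIndex (P ⊓ normalizer (Q : Set K)) :=
    (congrArg (relIndex · (P ⊓ normalizer (Q : Set K))) h8).trans (inf_relIndex_right _ _)
  have h10 := sup_le hPT hS.centralizer_le
  have h11 : ¬ l ∣ (P ⊓ normalizer (Q : Set K) ⊔ centralizer (Q : Set K)).relIndex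
      (pairStab M Q (blockOf M (η : centralizer (Q : Set K) → ℂ))) := fun h => h5 (h.trans (relIndex_dvd_of_le_left _
        (sup_le_sup_right (le_inf (H649.SubpairLE.le h6) (h4.trans hS.le_normalizer)) _)))
  have h0 : ∀ A B : Subgroup K, A.relIndex B ≠ 0 := fun _ _ => index_ne_zero_of_finite
  rw [h9, ← relIndex_mul_relIndex _ _ _ le_sup_right h10, Nat.factorization_mul (h0 _ _) (h0 _ _),
    Finsupp.add_apply, Nat.factorization_eq_zero_of_not_dvd h11, add_zero,
    rel_sup hS.centralizer_le hPT fun x hx => mem_normalizer_centralizer (hS.le_normalizer hx)]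

end Cfsg.Agent.BZ.L
end

-- part: BZ/L/PairA
section
/-!
# BZ / L : conjugation along an embedding, canonical characters and roots (helper35)

* `By` : an automorphism induced by a conjugation; `cj_iff`, `stab_iff`, `exists_stab`, `fratt`;
* `Cn` : the canonical character of a block with a central defect group;
* `root_dfg`, `root_cj`, `root_idx`, `exists_root` : the roots of a block with an abelian defect group.
-/

set_option autoImplicit false
set_option linter.unusedSectionVars false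

namespace Cfsg.Agent.BZ.L.Pr35

open Cfsg Subgroup Cfsg.Agent.HZ.Gen Cfsg.Agent.BZ.Lab Cfsg.Agent.H662 Cfsg.Agent.Blocks Cfsg.Agent.Blocks.Basic

variable {l : ℕ} {M : Ideal AlgInt} {K J : Type} [Group K] [Fintype K] [Group J] [Fintype J] {j : J →* K} {g : K} {σ : J ≃* J}

/-- `σ` is the conjugation by `g` -/
def By (j : J →* K) (g : K) (σ : J ≃* J) : Prop := ∀ y, j (σ y) = g * j y * g⁻¹

theorem exists_by (hj : Function.Injective j) {S : Subgroup K} (hS : j.range = S) (hg : g ∈ normalizer (S : Set K)) :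
    ∃ σ, By j g σ := by
  obtain ⟨e, he⟩ := Ob.exists_e hj hS
  refine ⟨e.trans ((S.normalizerMonoidHom ⟨g, hg⟩).trans e.symm), fun y => ?_⟩
  rw [← he, ← he, MulEquiv.trans_apply, MulEquiv.trans_apply, e.apply_symm_apply]
  rfl

theorem By.symm (h : By j g σ) : By j g⁻¹ σ.symm := fun y => by
  have h1 := h (σ.symm y)
  rw [σ.apply_symm_apply] at h1
  rw [h1]
  group

theorem By.trans (h : By j g σ) {g' : K} {σ' : J ≃* J} (h' : By j g' σ') : By j (g' * g) (σ.trans σ') := fun y => by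
  rw [MulEquiv.trans_apply, h', h]
  group

theorem cj_iff (hj : Function.Injective j) (h : By j g σ) {ψ ψ' : IrrCharacter J} :
    Cj j g (ψ : J → ℂ) (ψ' : J → ℂ) ↔ ψ' = tr σ ψ :=
  ⟨fun e => Subtype.ext (funext fun y => e (σ.symm y) y (by rw [← h, σ.apply_symm_apply])), fun e y y' e' => by
    rw [e, hj (e'.trans (h y).symm), tr_apply_map]⟩

theorem stab_iff [M.IsPrime] (hj : Function.Injective j) (h : By j g σ) {f : Set (IrrCharacter J)} (hf : IsPBlock M f)
    {ψ : IrrCharacter J} (hψ : ψ ∈ f) : Stab j f g ↔ tr σ ψ ∈ f :=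
  ⟨fun e => e ψ hψ _ ((cj_iff hj h).2 rfl), fun e φ hφ φ' e' => by
    rw [(cj_iff hj h).1 e']
    exact isPBlock_mem_of_sameBlock hf e ((sameBlock_tr σ ψ φ).2 (isPBlock_sameBlock hf hψ hφ))⟩

theorem stab_inner (hj : Function.Injective j) (f : Set (IrrCharacter J)) (x : J) : Stab j f (j x) := fun ψ h ψ' e => by
  rwa [show ψ' = ψ from Subtype.ext (funext fun y => (irr_conj ψ'.2 y x).symm.trans (e y _ (by simp)))]

theorem exists_stab [M.IsPrime] (hj : Function.Injective j) {S W : Subgroup K} (hS : j.range = S) (hW : W ≤ normalizer (S : Set K))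
    {f : Set (IrrCharacter J)} (hf : IsPBlock M f) : ∃ T : Subgroup K, ∀ g, g ∈ T ↔ g ∈ W ∧ Stab j f g := by
  obtain ⟨ψ, hψ⟩ := isPBlock_nonempty hf
  refine ⟨⟨⟨⟨{g | g ∈ W ∧ Stab j f g}, fun {a b} ha hb => ⟨mul_mem ha.1 hb.1, ?_⟩⟩, one_mem _, ?_⟩, fun {a} ha => ⟨inv_mem ha.1, ?_⟩⟩,
    fun _ => Iff.rfl⟩
  · obtain ⟨σ, h1⟩ := exists_by hj hS (hW ha.1)
    obtain ⟨τ, h2⟩ := exists_by hj hS (hW hb.1)
    exact (stab_iff hj (h2.trans h1) hf hψ).2 ((stab_iff hj h1 hf ((stab_iff hj h2 hf hψ).1 hb.2)).1 ha.2)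
  · exact map_one j ▸ stab_inner hj f 1
  · obtain ⟨σ, h1⟩ := exists_by hj hS (hW ha.1)
    exact (stab_iff hj h1.symm hf ((stab_iff hj h1 hf hψ).1 ha.2)).2 (by rwa [tr_symm_tr])

theorem By.map_eq (h : By j g σ) {A : Subgroup K} (hg : g ∈ normalizer (A : Set K)) :
    (A.comap j).map σ.toMonoidHom = A.comap j := by
  ext y
  obtain ⟨y, rfl⟩ := σ.surjective y
  rw [mem_comap, h, ← mem_normalizer_iff.1 hg]
  exact ⟨fun ⟨x, hx, e⟩ => σ.injective e ▸ hx, fun hx => ⟨y, hx, rfl⟩⟩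

/-- the Frattini argument for the defect groups -/
theorem fratt (hM : IsPModular l M) (hj : Function.Injective j) {A : Subgroup K} (hA : A ≤ j.range) {φ : IrrCharacter J}
    (hD : IsDefectGroup l M (blockOf M (φ : J → ℂ)) (A.comap j)) (h : By j g⁻¹ σ)
    (hs : SameBlock M (φ : J → ℂ) (tr σ φ : J → ℂ)) : ∃ t : J, g * j t ∈ normalizer (A : Set K) := by
  have : Fact l.Prime := ⟨hM.1⟩
  have := Local.isPrime_of_isPModular hM
  have h1 := isDefectGroup_trB σ hD
  rw [trB_blockOf, ← blockOf_eq_of_sameBlock hs] at h1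
  obtain ⟨t, ht⟩ := H644.exists_conj_of_isDefectGroup hM (isPBlock_blockOf φ) hD h1
  refine ⟨t, mem_normalizer_fintype fun x hx => ?_⟩
  obtain ⟨y, rfl⟩ := hA hx
  obtain ⟨z, hz, e⟩ := ht.le ⟨y, hx, rfl⟩
  have h2 : g⁻¹ * j z * g⁻¹⁻¹ = j t * j y * (j t)⁻¹ := by
    rw [← h, ← map_inv, ← map_mul, ← map_mul]
    exact congrArg j e
  rwa [show g * j t * j y * (g * j t)⁻¹ = j z by rw [mul_inv_rev, mul_assoc g, mul_assoc g, ← mul_assoc _ (j t)⁻¹, ← h2]; group]

/-- transport of `Up` -/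
theorem up_tr {K' J' : Type} [Group K'] [Group J'] (e : J ≃* J') (E : K ≃* K') {j' : J' →* K'} (h : ∀ y, j' (e y) = E (j y))
    {ψ : IrrCharacter J} {χ : IrrCharacter K} (hu : Up l M j ψ χ) : Up l M j' (tr e ψ) (tr E χ) := fun x hx => by
  obtain ⟨x, rfl⟩ := E.surjective x
  rw [centralChar_tr, ← finsum_mem_eq_of_bijOn (s := {y | IsConj x (j y)}) (f := fun y => (ψ : J → ℂ) y / (ψ : J → ℂ) 1) e
    ⟨fun y hy => ?_, e.injective.injOn, fun y hy => ⟨e.symm y, ?_, e.apply_symm_apply y⟩⟩ fun _ _ => by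
      rw [tr_apply_map, tr_apply_one]]
  · exact hu x (by rwa [MulEquiv.orderOf_eq] at hx)
  · show IsConj (E x) (j' (e y))
    rw [h]
    exact (isConj_map_iff E _ _).2 hy
  · show IsConj x (j (e.symm y))
    rw [← isConj_map_iff E, ← h, e.apply_symm_apply]
    exact hy

theorem stab_tr {J' : Type} [Group J'] (e : J ≃* J') {j' : J' →* K} (h : ∀ y, j' (e y) = j y) {f : Set (IrrCharacter J)}
    (hs : Stab j f g) : Stab j' (trB e f) g := fun ψ hψ ψ' e' =>
  hs _ hψ _ fun y y' e'' => e' _ _ (by rw [MulEquiv.symm_symm, h, h, e''])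

/-- the canonical character of a block with a central defect group -/
structure Cn (l : ℕ) (M : Ideal AlgInt) (D : Subgroup J) (φ : IrrCharacter J) : Prop where
  cen : D ≤ center J
  dfg : IsDefectGroup l M (blockOf M (φ : J → ℂ)) D
  triv : ∀ x ∈ D, (φ : J → ℂ) x = (φ : J → ℂ) 1

theorem sup_top {D : Subgroup J} (h : D ≤ center J) : D ⊔ centralizer (D : Set J) = ⊤ :=
  top_unique fun y _ => mem_sup_right fun x hx => (mem_center_iff.1 (h hx) y).symm

theorem Cn.van (hM : IsPModular l M) {D : Subgroup J} {φ : IrrCharacter J} (h : Cn l M D φ) :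
    ∀ y x, IsPPart l y x → x ∉ D → (φ : J → ℂ) y = 0 :=
  have : Fact l.Prime := ⟨hM.1⟩
  have := Local.isPrime_of_isPModular hM
  (S0969.result l M hM D (isPGroup_of_isDefectGroup h.dfg) h.cen φ ((S0968.result l M hM D (isPGroup_of_isDefectGroup h.dfg)
    (sup_top h.cen) _ (isPBlock_blockOf φ) h.dfg).2.1 φ (mem_blockOf_self φ) h.triv)).2

theorem Cn.stab (hM : IsPModular l M) (hj : Function.Injective j) {A : Subgroup K} {φ : IrrCharacter J} (h : Cn l M (A.comap j) φ)
    (hg : g ∈ normalizer (A : Set K)) (hσ : By j g σ) : Stab j (blockOf M (φ : J → ℂ)) g ↔ tr σ φ = φ := by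
  have : Fact l.Prime := ⟨hM.1⟩
  have := Local.isPrime_of_isPModular hM
  rw [stab_iff hj hσ (isPBlock_blockOf φ) (mem_blockOf_self φ)]
  refine ⟨fun e => (S0968.result l M hM _ (isPGroup_of_isDefectGroup h.dfg) (sup_top h.cen) _ (isPBlock_blockOf φ) h.dfg).1.unique
    ⟨e, fun x hx => ?_⟩ ⟨mem_blockOf_self φ, h.triv⟩, fun e => e.symm ▸ mem_blockOf_self φ⟩
  obtain ⟨y, hy, rfl⟩ := (hσ.map_eq hg).ge hx
  exact (tr_apply_map σ φ y).trans ((h.triv y hy).trans (tr_apply_one σ φ).symm)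

theorem exists_cn (hM : IsPModular l M) {D : Subgroup J} (hc : D ≤ center J) {φ : IrrCharacter J}
    (h : IsDefectGroup l M (blockOf M (φ : J → ℂ)) D) : ∃ ψ ∈ blockOf M (φ : J → ℂ), Cn l M D ψ := by
  have : Fact l.Prime := ⟨hM.1⟩
  have := Local.isPrime_of_isPModular hM
  obtain ⟨ψ, ⟨h1, h2⟩, -⟩ := (S0968.result l M hM D (isPGroup_of_isDefectGroup h) (sup_top hc) _ (isPBlock_blockOf φ) h).1
  exact ⟨ψ, h1, hc, blockOf_eq_of_sameBlock h1 ▸ h, h2⟩

theorem cn_of_van (hM : IsPModular l M) {D : Subgroup J} (hc : D ≤ center J) (hp : IsPGroup l D) {φ : IrrCharacter J}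
    (h1 : ∀ x ∈ D, (φ : J → ℂ) x = (φ : J → ℂ) 1) (h2 : ∀ y x, IsPPart l y x → x ∉ D → (φ : J → ℂ) y = 0) : Cn l M D φ :=
  have : Fact l.Prime := ⟨hM.1⟩
  ⟨hc, (S0969.result l M hM D hp hc φ (H639.factorization_eq_of_vanish hc hp φ h1 h2)).1, h1⟩

section root

variable (hM : IsPModular l M) (hj : Function.Injective j) {D : Subgroup K} (hJ : j.range = centralizer (D : Set K))
  (hab : D ≤ centralizer (D : Set K)) {b : Set (IrrCharacter K)} (hb : IsPBlock M b) (hD : IsDefectGroup l M b D)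
  {φ φ' : IrrCharacter J} {ψ ψ' : IrrCharacter K}

include hj hJ in
theorem cen_le : D.comap j ≤ center J := fun x hx =>
  mem_center_iff.2 fun y => hj (by rw [map_mul, map_mul]; exact ((hJ.le ⟨y, rfl⟩) _ hx).symm)

include hM hab hb hD in
theorem ind_up {e : J ≃* centralizer (D : Set K)} (he : ∀ y, (e y : K) = j y) (hψ : ψ ∈ b) (hu : Up l M j φ ψ) :
    IsInducedBlock M (centralizer (D : Set K)) (blockOf M (tr e φ : centralizer (D : Set K) → ℂ)) b := by
  have : Fact l.Prime := ⟨hM.1⟩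
  have := Local.isPrime_of_isPModular hM
  have := Fintype.ofFinite (centralizer (D : Set K))
  obtain ⟨B, hB⟩ := S0919.result l M hM D _ (isPGroup_of_isDefectGroup hD) hab le_rfl (centralizer_le_normalizer _) _
    (isPBlock_blockOf (tr e φ))
  obtain ⟨χ, hχ⟩ := isPBlock_nonempty hB.2.1
  rwa [isPBlock_eq_of_sameBlock hb hB.2.1 hψ hχ (boxUp.uniq hM (boxUp.cj (ι' := (centralizer (D : Set K)).subtype) e 1
    (fun y => by simpa using he y) (tr_apply_map e φ) hu) (boxUp.ind hB _ (mem_blockOf_self _) χ hχ))]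

include hM hj hJ hab hb hD

theorem root_sub {e : J ≃* centralizer (D : Set K)} (he : ∀ y, (e y : K) = j y) (hψ : ψ ∈ b) (hu : Up l M j φ ψ) :
    IsDefectGroup l M (blockOf M (tr e φ : centralizer (D : Set K) → ℂ)) (D.subgroupOf (centralizer (D : Set K))) := by
  have : Fact l.Prime := ⟨hM.1⟩
  have := Local.isPrime_of_isPModular hM
  have := Fintype.ofFinite (centralizer (D : Set K))
  obtain ⟨E, hE⟩ := H644.exists_isDefectGroup hM (isPBlock_blockOf (tr e φ))
  obtain ⟨E', h1, h2⟩ := S0917.result l M hM _ _ (isPBlock_blockOf _) b hb (ind_up hM hab hb hD he hψ hu) E hE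
  obtain ⟨t, rfl⟩ := H644.exists_conj_of_isDefectGroup hM hb hD h1
  rwa [eq_of_le_of_card_ge (cen_le_defect hM (isPBlock_blockOf _) hE Ob.cen_sub (isPGroup_of_isDefectGroup hD).comap_subtype) ?_]
  rw [Nat.card_congr (subgroupOfEquivOfLe hab).toEquiv, ← card_map_of_injective (subtype_injective _),
    ← card_map_of_injective (K := D) (f := (MulAut.conj t).toMonoidHom) (MulAut.conj t).injective]
  exact card_le_of_le h2

theorem root_dfg (hψ : ψ ∈ b) (hu : Up l M j φ ψ) : IsDefectGroup l M (blockOf M (φ : J → ℂ)) (D.comap j) := by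
  obtain ⟨e, he⟩ := Ob.exists_e hj hJ
  have h1 := isDefectGroup_trB e.symm (root_sub hM hj hJ hab hb hD he hψ hu)
  rw [trB_blockOf, tr_symm_tr] at h1
  convert h1 using 1
  ext y
  rw [mem_comap, ← he]
  exact ⟨fun h => ⟨e y, h, e.symm_apply_apply y⟩, fun ⟨x, hx, e1⟩ => by rw [← e1]; simpa [mem_subgroupOf] using hx⟩

theorem root_cj (hψ : ψ ∈ b) (hu : Up l M j φ ψ) (hψ' : ψ' ∈ b) (hu' : Up l M j φ' ψ') :
    ∃ g ∈ normalizer (D : Set K), ∃ φ'' ∈ blockOf M (φ' : J → ℂ), Cj j g (φ'' : J → ℂ) (φ : J → ℂ) := by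
  have : Fact l.Prime := ⟨hM.1⟩
  have := Local.isPrime_of_isPModular hM
  obtain ⟨e, he⟩ := Ob.exists_e hj hJ
  obtain ⟨g, hg, h1⟩ := (Ob.efmt hM hb hD (sup_eq_right.2 hab).symm).2 _ _ (ind_up hM hab hb hD he hψ hu)
    (ind_up hM hab hb hD he hψ' hu')
  obtain ⟨θ, h2, h3⟩ := h1 _ (mem_blockOf_self _)
  refine ⟨g, hg, tr e.symm θ, by rwa [← trB_blockOf] at h2, fun y y' e1 => ?_⟩
  rw [← he, ← he] at e1
  exact (tr_apply_map e φ y').symm.trans ((congrArg _ (Subtype.ext e1)).trans (h3 (e y) (e1 ▸ (e y').2)).symm)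

theorem root_idx (hψ : ψ ∈ b) (hu : Up l M j φ ψ) {T : Subgroup K}
    (hT : ∀ g, g ∈ T ↔ g ∈ normalizer (D : Set K) ∧ Stab j (blockOf M (φ : J → ℂ)) g) :
    ¬ l ∣ (centralizer (D : Set K)).relIndex T := by
  have : Fact l.Prime := ⟨hM.1⟩
  have := Fintype.ofFinite (centralizer (D : Set K))
  obtain ⟨e, he⟩ := Ob.exists_e hj hJ
  refine (S4437.result l M hM D (isPGroup_of_isDefectGroup hD) _ (sup_eq_right.2 hab).symm _ (isPBlock_blockOf _)
    (root_sub hM hj hJ hab hb hD he hψ hu) b (ind_up hM hab hb hD he hψ hu) T fun g => (hT g).trans (and_congr_right fun _ => ?_)).1 hD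
  rw [← trB_blockOf]
  refine ⟨stab_tr (j' := (centralizer (D : Set K)).subtype) e he, fun h => ?_⟩
  have h1 := stab_tr (j := (centralizer (D : Set K)).subtype) (j' := j) e.symm (fun y => by rw [← he, e.apply_symm_apply]; rfl) h
  rwa [trB_symm_trB] at h1

theorem exists_root {m N : ℕ} {α : MulAut K} {δ : MulAut J} (h : Gl l m N K α) (e : Emb j δ α) (hs : StB α b) (hs' : StS α D) :
    ∃ φ : IrrCharacter J, St δ (φ : J → ℂ) ∧ (∀ ψ ∈ b, Up l M j φ ψ) ∧ Cn l M (D.comap j) φ := by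
  have := Local.isPrime_of_isPModular hM
  obtain ⟨χ, hχ⟩ := isPBlock_nonempty hb
  obtain ⟨J', _, _, γ, κ, φ, h1, h2, h3, h4⟩ := Start.pc_top boxSt boxUp h hM (hs χ hχ) (isPBlock_eq_blockOf hb hχ ▸ hD) hs'
  obtain ⟨e1, he1⟩ := Ob.exists_e h1.inj h2
  obtain ⟨e2, he2⟩ := Ob.exists_e hj hJ
  have h5 : ∀ y, j (e1.trans e2.symm y) = κ y := fun y => by rw [← he2, MulEquiv.trans_apply, e2.apply_symm_apply, he1]
  have h6 : Up l M j (tr (e1.trans e2.symm) φ) χ := boxUp.cj _ 1 (fun y => by simpa using h5 y) (tr_apply_map _ φ) h4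
  obtain ⟨lam, h7, h8⟩ := exists_cn hM (cen_le hj hJ) (root_dfg hM hj hJ hab hb hD hχ h6)
  refine ⟨lam, boxSt.blk (h.sub e) hM _ (fun y => ?_) lam h7, fun ψ hψ => boxUp.congr hM h7 (isPBlock_sameBlock hb hχ hψ) h6, h8⟩
  obtain ⟨y, rfl⟩ := (e1.trans e2.symm).surjective y
  rw [show δ (e1.trans e2.symm y) = e1.trans e2.symm (γ y) from hj (by rw [e.cm, h5, h5, h1.cm]), tr_apply_map, tr_apply_map, h3]

end root

end Cfsg.Agent.BZ.L.Pr35
end

-- part: BZ/L/Pair
section
/-!
# BZ / L : the centric pair over the abelian defect group (helper35)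

`boxPair_of : BoxOs → BoxY → BoxBes → BoxCd → BoxPair`.
-/

set_option autoImplicit false
set_option linter.unusedSectionVars false

namespace Cfsg.Agent.BZ.L

open Cfsg Subgroup Cfsg.Agent.HZ.Gen Cfsg.Agent.BZ.Lab Cfsg.Agent.H662 Cfsg.Agent.Blocks Cfsg.Agent.Blocks.Basic

namespace Pr35

variable {l r m n N : ℕ} {M : Ideal AlgInt} {K L C J : Type} [Group K] [Fintype K] [Group L] [Fintype L] [Group C] [Fintype C]
  [Group J] [Fintype J] {α : MulAut K} {β : MulAut L} {γ : MulAut C} {δ : MulAut J} {ι : L →* K} {κ : C →* K} {j : J →* K}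
  {ι' : J →* C} {κ' : J →* L} {g : K}

theorem emb_of (e : Emb ι β α) (ej : Emb j δ α) (h : ∀ y, ι (κ' y) = j y) : Emb κ' δ β :=
  ⟨fun a b e1 => ej.inj (by rw [← h, ← h, e1]), fun y => e.inj (by rw [h, ej.cm, e.cm, h])⟩

theorem rg_of (hι : Function.Injective ι) {A : Subgroup K} (hj : j.range = ι.range ⊓ A) (h : ∀ y, ι (κ' y) = j y) :
    κ'.range = A.comap ι := by
  refine le_antisymm ?_ fun x hx => ?_
  · rintro _ ⟨y, rfl⟩
    rw [mem_comap, h]
    exact (hj.le ⟨y, rfl⟩).2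
  · obtain ⟨y, hy⟩ := hj.ge ⟨⟨x, rfl⟩, hx⟩
    exact ⟨y, hι ((h y).trans hy)⟩

theorem by_cm (hι : Function.Injective ι) (h : ∀ y, ι (κ' y) = j y) {σ : L ≃* L} {τ : J ≃* J} (hσ : By ι g σ) (hτ : By j g τ)
    (y : J) : κ' (τ y) = σ (κ' y) := hι (by rw [h, hτ, hσ, h])

theorem cj_ι (hι : Function.Injective ι) (h : ∀ y, ι (κ' y) = j y) (x : L) (φ φ' : J → ℂ) : Cj j (ι x) φ φ' ↔ Cj κ' x φ φ' :=
  forall₂_congr fun y y' => by rw [← h, ← h, ← map_inv, ← map_mul, ← map_mul, hι.eq_iff]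

/-- the restriction of a conjugate -/
theorem rs_by [Fact r.Prime] (hB : Big C r n) (hb : bd n 1 < r) {P : Subgroup C} (hP : IsPGroup r P) {σ : C ≃* C}
    (hσ : P.map σ.toMonoidHom = P) {η : IrrCharacter C} (hη : Sm r 1 (η : C → ℂ)) {y : C} (hy : y ∈ centralizer (P : Set C)) :
    rs r P (tr σ η : C → ℂ) (σ y) = rs r P (η : C → ℂ) y := by
  have h1 : (tr σ η : C → ℂ) ∘ σ.toMonoidHom = η := funext (tr_apply_map σ η)
  have h2 := hB.rs_comp (ι := σ.toMonoidHom) σ.injective hP (Ob.sm_tr σ hη) hb (h1 ▸ hη) hb hy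
  rw [h1, hσ] at h2
  exact h2.symm

theorem core (Os : BoxOs) (Y : BoxY) (Bes : BoxBes) (Cd : BoxCd) {B : Set (IrrCharacter K)} {P Q : Subgroup K}
    {b : Set (IrrCharacter L)} (h : Fr l r m n N K α) (hM : IsPModular l M) (t : Top r M α B P ι β b)
    (hQP : Q ≤ centralizer (P : Set K)) (hD : IsDefectGroup l M b (Q.comap ι)) (hQ : Fx l α Q)
    (hN : normalizer (P : Set K) ⊓ centralizer (Q : Set K) ≤ centralizer (P : Set K)) (eκ : Emb κ γ α)
    (hκ : κ.range = centralizer (Q : Set K)) (ej : Emb j δ α) (hj : j.range = centralizer (P : Set K) ⊓ centralizer (Q : Set K))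
    (h1 : ∀ y, ι (κ' y) = j y) (h2 : ∀ y, κ (ι' y) = j y) :
    ∃ (lam : IrrCharacter J) (η : IrrCharacter C) (S T : Subgroup K), (∀ ψ ∈ b, Up l M κ' (lam : J → ℂ) (ψ : L → ℂ)) ∧
      (∀ ξ ∈ B, Up l M κ (η : C → ℂ) (ξ : K → ℂ)) ∧ IsDefectGroup l M (blockOf M (η : C → ℂ)) (Q.comap κ) ∧
      (∀ g, g ∈ S ↔ g ∈ normalizer (P : Set K) ∧ g ∈ normalizer (Q : Set K) ∧ Stab j (blockOf M (lam : J → ℂ)) g) ∧
      (∀ g, g ∈ T ↔ g ∈ normalizer (Q : Set K) ∧ Stab κ (blockOf M (η : C → ℂ)) g) ∧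
      (∀ g, g ∈ T ↔ ∃ c ∈ centralizer (Q : Set K), g * c ∈ S) ∧
      (∀ g ∈ normalizer (P : Set K), Stab ι b g ↔ ∃ c ∈ centralizer (P : Set K), g * c ∈ S) ∧
      ¬ l ∣ (centralizer (P : Set K) ⊓ centralizer (Q : Set K)).relIndex (S ⊓ centralizer (P : Set K)) := by
  have : Fact l.Prime := ⟨h.lp⟩
  have : Fact r.Prime := ⟨h.rp⟩
  have := Local.isPrime_of_isPModular hM
  have hι := t.emb.inj
  have hPQ : P ≤ κ.range := fun x hx => hκ.ge fun y hy => (hQP hy x hx).symm
  have hQL : Q ≤ ι.range := t.rg ▸ hQP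
  have sQ : StS α Q := fun x => ⟨fun e => α.injective (hQ.fix _ e) ▸ e, fun e => (hQ.fix x e).symm ▸ e⟩
  have e1 := emb_of t.emb ej h1
  have e2 := emb_of eκ ej h2
  have r1 : κ'.range = centralizer (Q.comap ι : Set L) := (rg_of hι (t.rg ▸ hj) h1).trans (cen_comap hι hQL).symm
  have r2 : ι'.range = centralizer (P.comap κ : Set C) :=
    (rg_of eκ.inj (by rw [hj, hκ, inf_comm]) h2).trans (cen_comap eκ.inj hPQ).symm
  have ab : Q.comap ι ≤ centralizer (Q.comap ι : Set L) := cen_comap hι hQL ▸ comap_mono hQ.ab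
  have c1 : (Q.comap ι).comap κ' = Q.comap j := by rw [comap_comap, show ι.comp κ' = j from MonoidHom.ext h1]
  obtain ⟨lam, l1, l2, l3⟩ := exists_root hM e1.inj r1 ab t.hb hD (h.sub t.emb).toGl e1 t.sb (sQ.comap t.emb)
  rw [c1] at l3
  obtain ⟨ψ, hψ⟩ := isPBlock_nonempty t.hb
  obtain ⟨η₀, y1, t'⟩ := Y h hM t hQ hQP eκ hκ e2 r2 (fun y => (h1 y).trans (h2 y).symm) lam l1 ⟨ψ, hψ, l2 ψ hψ⟩
  have hC := h.sub eκ
  obtain ⟨o1, η, o2, o3, o4⟩ := Os.all hC hM t' lam (mem_blockOf_self lam)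
  have sm := boxSt.rat hC η (t'.sB η o2)
  have nc : normalizer (P.comap κ : Set C) ≤ centralizer (P.comap κ : Set C) := by
    rw [← comap_normalizer_eq_of_le_range hPQ, cen_comap eκ.inj hPQ]
    exact fun x hx => hN ⟨hx, hκ.le ⟨x, rfl⟩⟩
  obtain ⟨⟨ε, hε, b1⟩, b2⟩ := Bes h.rp hC.bg hC.bdr t'.rp e2.inj r2 nc sm o1 o3
  have qc : Q.comap κ ≤ center C := cen_le eκ.inj hκ
  have qp : IsPGroup l (Q.comap κ) := hQ.pg.comap_of_injective _ eκ.inj
  have cn : Cn l M (Q.comap κ) η := by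
    refine cn_of_van hM qc qp (fun x hx => ?_) (Cd hC t'.rp e2.inj r2 nc qp qc sm o1 o3 fun y x hx hx' => ?_)
    · obtain ⟨y, hy⟩ := hj.ge ⟨hQP hx, hQ.ab hx⟩
      obtain rfl : ι' y = x := eκ.inj ((h2 y).trans hy)
      have h3 := o4 y (qc hx)
      rwa [l3.triv y (show j y ∈ Q from hy ▸ hx), div_self (irr_one_ne_zero lam.2), div_eq_one_iff_eq (irr_one_ne_zero η.2)] at h3
    · obtain ⟨z, hz⟩ := PPart.exists_isPPart l y
      obtain rfl := PPart.isPPart_unique hx (PPart.isPPart_map ι' e2.inj hz)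
      exact l3.van hM y z hz (by rwa [mem_comap, h2] at hx')
  have nj : normalizer (P : Set K) ⊓ normalizer (Q : Set K) ≤
      normalizer ((centralizer (P : Set K) ⊓ centralizer (Q : Set K) : Subgroup K) : Set K) :=
    (inf_le_inf (Cor.norm_le P) (Cor.norm_le Q)).trans inf_normalizer_le_normalizer_inf
  obtain ⟨S, hS⟩ := exists_stab ej.inj hj nj (isPBlock_blockOf (M := M) lam)
  obtain ⟨T, hT⟩ := exists_stab eκ.inj hκ (Cor.norm_le Q) (isPBlock_blockOf (M := M) η)
  obtain ⟨U, hU⟩ := exists_stab hι t.rg (Cor.norm_le P) t.hb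
  have cT : centralizer (Q : Set K) ≤ T := fun x hx => (hT x).2 ⟨centralizer_le_normalizer _ hx, by
    obtain ⟨y, rfl⟩ := hκ.ge hx
    exact stab_inner eκ.inj _ y⟩
  have cU : centralizer (P : Set K) ≤ U := fun x hx => (hU x).2 ⟨centralizer_le_normalizer _ hx, by
    obtain ⟨y, rfl⟩ := t.rg.ge hx
    exact stab_inner hι _ y⟩
  have key : ∀ g ∈ normalizer (P : Set K) ⊓ normalizer (Q : Set K), g ∈ S ↔ g ∈ T := fun g hg => by
    obtain ⟨σ, hσ⟩ := exists_by eκ.inj hκ (Cor.norm_le Q hg.2)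
    obtain ⟨τ, hτ⟩ := exists_by ej.inj hj (nj hg)
    have h3 : ∀ y, rs r (P.comap κ) (tr σ η : C → ℂ) (ι' (τ y)) = rs r (P.comap κ) (η : C → ℂ) (ι' y) := fun y => by
      rw [by_cm eκ.inj h2 hσ hτ]
      exact rs_by hC.bg hC.bdr t'.rp (hσ.map_eq hg.1) sm (r2.le ⟨y, rfl⟩)
    rw [hS, hT, l3.stab hM ej.inj hg.2 hτ, cn.stab hM eκ.inj hg.2 hσ, and_iff_right hg, and_iff_right (mem_inf.1 hg).2]
    refine ⟨fun e => b2 _ (Ob.sm_tr σ sm) fun h0 => o3 ?_, fun e => Subtype.ext (funext fun y => ?_)⟩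
    · rw [← e, Ob.inner_tr] at h0
      exact (congrArg (classInner · _) (funext h3)).symm.trans h0
    · obtain ⟨y, rfl⟩ := τ.surjective y
      have h4 := h3 y
      rw [e, b1, b1] at h4
      exact (tr_apply_map τ lam y).trans (mul_left_cancel₀ (by rcases hε with rfl | rfl <;> simp) h4).symm
  have sT : S ≤ T := fun x hx => (key x ((hS x).1 hx).1).1 hx
  have up : ∀ g ∈ normalizer (P : Set K) ⊓ normalizer (Q : Set K), ∀ σ τ, By ι g σ → By j g τ →
      Up l M κ' (tr τ lam : J → ℂ) (tr σ ψ : L → ℂ) := fun g _ σ τ hσ hτ => up_tr τ σ (by_cm hι h1 hσ hτ) (l2 ψ hψ)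
  have sU : S ≤ U := fun x hx => by
    obtain ⟨h3, h4⟩ := (hS x).1 hx
    obtain ⟨σ, hσ⟩ := exists_by hι t.rg (Cor.norm_le P h3.1)
    obtain ⟨τ, hτ⟩ := exists_by ej.inj hj (nj h3)
    have h5 := up x h3 σ τ hσ hτ
    rw [(l3.stab hM ej.inj h3.2 hτ).1 h4] at h5
    exact (hU x).2 ⟨h3.1, (stab_iff hι hσ t.hb hψ).2 (isPBlock_mem_of_sameBlock t.hb hψ (boxUp.uniq hM (l2 ψ hψ) h5))⟩
  refine ⟨lam, η, S, T, l2, fun ξ hξ => boxUp.congr hM o2 (sameBlock_refl _) (y1 ξ hξ), cn.dfg, fun g => (hS g).trans and_assoc, hT,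
    fun g => ⟨fun hg => ?_, fun ⟨c, hc, e⟩ => (mul_mem_cancel_right (cT hc)).1 (sT e)⟩,
    fun g hg => ⟨fun hs => ?_, fun ⟨c, hc, e⟩ => ((hU g).1 ((mul_mem_cancel_right (cU hc)).1 (sU e))).2⟩, ?_⟩
  · obtain ⟨M', hM'⟩ := ExistsModular.exists_isPModular h.rp
    have := Local.isPrime_of_isPModular hM'
    have := Fintype.ofFinite (centralizer (P.comap κ : Set C))
    obtain ⟨e, he⟩ := Ob.exists_e e2.inj r2
    obtain ⟨h3, h4⟩ := (hT _).1 (inv_mem hg)
    obtain ⟨σ, hσ⟩ := exists_by eκ.inj hκ (Cor.norm_le Q h3)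
    obtain ⟨x, hx⟩ := fratt hM' eκ.inj hPQ (Ob.dfg hC.bg hC.bdr t'.rp sm hM' (Ob.tight_tr e he o1)
      (Ob.ind_of hC.bg hC.bdr t'.rp sm hM' rfl e he o3)) hσ (by rw [(cn.stab hM eκ.inj h3 hσ).1 h4]; exact sameBlock_refl _)
    have h5 := mul_mem hg (cT (hκ.le ⟨x, rfl⟩))
    exact ⟨κ x, hκ.le ⟨x, rfl⟩, (key _ ⟨hx, ((hT _).1 h5).1⟩).2 h5⟩
  · have h3 := (hU g).2 ⟨hg, hs⟩
    obtain ⟨σ, hσ⟩ := exists_by hι t.rg (Cor.norm_le P (inv_mem hg))
    obtain ⟨x, hx⟩ := fratt hM hι hQL (isPBlock_eq_blockOf t.hb hψ ▸ hD) hσ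
      (isPBlock_sameBlock t.hb hψ ((stab_iff hι hσ t.hb hψ).1 ((hU _).1 (inv_mem h3)).2))
    obtain ⟨h4, h5⟩ := (hU _).1 (inv_mem (mul_mem h3 (cU (t.rg.le ⟨x, rfl⟩))))
    obtain ⟨σ', hσ'⟩ := exists_by hι t.rg (Cor.norm_le P h4)
    have h10 := mem_inf.2 ⟨h4, inv_mem hx⟩
    obtain ⟨τ, hτ⟩ := exists_by ej.inj hj (nj h10)
    obtain ⟨y, hy, φ, h6, h7⟩ := root_cj hM e1.inj r1 ab t.hb hD ((stab_iff hι hσ' t.hb hψ).1 h5) (up _ h10 σ' τ hσ' hτ)
      hψ (l2 ψ hψ)
    rw [← comap_normalizer_eq_of_le_range hQL] at hy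
    have h8 : ι y ∈ normalizer (P : Set K) ⊓ normalizer (Q : Set K) := ⟨centralizer_le_normalizer _ (t.rg.le ⟨y, rfl⟩), hy⟩
    obtain ⟨ρ, hρ⟩ := exists_by ej.inj hj (nj h8)
    have h9 := hρ.trans hτ.symm
    rw [inv_inv, mul_assoc] at h9
    refine ⟨ι x * ι y, mul_mem (t.rg.le ⟨x, rfl⟩) (t.rg.le ⟨y, rfl⟩), (hS _).2 ⟨mul_assoc g _ _ ▸ mul_mem (inv_mem_iff.1 h10) h8,
      (stab_iff ej.inj h9 (isPBlock_blockOf lam) h6).2 ?_⟩⟩
    rw [show tr (ρ.trans τ.symm) φ = tr τ.symm (tr ρ φ) from rfl, ← (cj_iff ej.inj hρ).1 ((cj_ι hι h1 y _ _).2 h7), tr_symm_tr]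
    exact mem_blockOf_self lam
  · have h3 := root_idx hM e1.inj r1 ab t.hb hD hψ (l2 ψ hψ) (T := S.comap ι) fun x => by
      rw [mem_comap, hS, ← comap_normalizer_eq_of_le_range hQL, mem_inf,
        and_iff_right (centralizer_le_normalizer _ (t.rg.le ⟨x, rfl⟩))]
      exact and_congr_right fun _ => forall₃_congr fun _ _ _ => by rw [cj_ι hι h1]
    rw [cen_comap hι hQL, relIndex_comap, map_comap_eq, t.rg, inf_comm] at h3
    rwa [← inf_relIndex_right, inf_comm (centralizer (P : Set K)), inf_assoc, inf_eq_right.2 inf_le_right, inf_relIndex_right]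

end Pr35

/-- **[Pair]** -/
theorem boxPair_of (Os : BoxOs) (Y : BoxY) (Bes : BoxBes) (Cd : BoxCd) : BoxPair := by
  intro l r m n N K _ _ α M B P Q _ β b h hM t hQP hD hQ hN
  have := Fintype.ofFinite (centralizer (Q : Set K))
  have := Fintype.ofFinite ↥(centralizer (P : Set K) ⊓ centralizer (Q : Set K))
  have sQ : StS α Q := fun x => ⟨fun e => α.injective (hQ.fix _ e) ▸ e, fun e => (hQ.fix x e).symm ▸ e⟩
  have sJ : StS α (centralizer (P : Set K) ⊓ centralizer (Q : Set K)) := fun x => and_congr (t.st.cen x) (sQ.cen x)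
  exact Pr35.core Os Y Bes Cd (ι' := inclusion inf_le_right) h hM t hQP hD hQ hN sQ.cen.emb (range_subtype _) sJ.emb (range_subtype _)
    (fun _ => rfl) fun _ => rfl

end Cfsg.Agent.BZ.L
end
end
end
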